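import Cfsg.Agent.Lib.G2TypeFusion.Fusion
import Cfsg.Agent.Lib.Cores.Basic
import Mathlib.GroupTheory.Transfer

/-!
# The centraliser of the central involution, all involutions being conjugate

* `Gens.exists_par` : the parity of the torus part, a sign of `S`.
* `Gens.exists_index_two` : the transfer of an element of order `2n` is that parity.
* `CentData`, `exists_centData` : what is known about `C(z)` modulo its odd core.
-/

set_option autoImplicit false

namespace Cfsg.Agent.G2TypeFusion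

open Cfsg

/-- The group of order two. -/
abbrev Z₂ := Multiplicative (ZMod 2)

theorem z₂_cases (x : Z₂) : x = 1 ∨ x = Multiplicative.ofAdd 1 := by
  revert x; decide

theorem zmod2_cases (x : ZMod 2) : x = 0 ∨ x = 1 := by
  revert x; decide

theorem z₂_mul_self (x : Z₂) : x * x = 1 := by
  revert x; decide

theorem z₂_pow_odd (x : Z₂) {o : ℕ} (ho : Odd o) : x ^ o = x := by
  obtain ⟨k, rfl⟩ := ho
  rw [pow_succ, pow_mul, pow_two, z₂_mul_self, one_pow, one_mul]

variable {G : Type*} [Group G] {n : ℕ}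

namespace Gens

/-- Transport along a homomorphism of `S`. -/
theorem exists_ofInj {S : Subgroup G} (D : Gens S n) {H : Type*} [Group H] (f : ↥S →* H) (hf : Function.Injective f)
    (T : Subgroup H) (hT : f.range = T) :
    ∃ D' : Gens T n, ∀ p i j, D'.E p i j = f ⟨D.E p i j, D.E_mem p i j⟩ := by
  have hTm : ∀ x, f x ∈ T := fun x => hT ▸ ⟨x, rfl⟩
  have key : ∀ p i j, el (f ⟨D.u, D.u_mem⟩) (f ⟨D.v, D.v_mem⟩) (f ⟨D.w, D.w_mem⟩) (f ⟨D.s, D.s_mem⟩) p i j =
      f ⟨D.E p i j, D.E_mem p i j⟩ := by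
    intro p i j
    rw [← el_map f]
    refine congrArg f (Subtype.ext ?_)
    exact el_map S.subtype _ _ _ _ p i j
  refine ⟨{
    u := f ⟨D.u, D.u_mem⟩, v := f ⟨D.v, D.v_mem⟩, w := f ⟨D.w, D.w_mem⟩, s := f ⟨D.s, D.s_mem⟩,
    four_le := D.four_le, four_dvd := D.four_dvd, u_mem := hTm _, w_mem := hTm _, s_mem := hTm _,
    u_pow := by rw [← map_pow, ← map_one f]; exact congrArg f (Subtype.ext (by simpa using D.u_pow)),
    uv := by rw [← map_mul, ← map_mul]; exact congrArg f (Subtype.ext D.uv),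
    w_sq := by rw [← map_mul, ← map_one f]; exact congrArg f (Subtype.ext D.w_sq),
    s_sq := by rw [← map_mul, ← map_one f]; exact congrArg f (Subtype.ext D.s_sq),
    ws := by rw [← map_mul, ← map_mul]; exact congrArg f (Subtype.ext D.ws),
    wu := by rw [← map_mul, ← map_mul, ← map_inv]; exact congrArg f (Subtype.ext D.wu),
    su := by rw [← map_mul, ← map_mul]; exact congrArg f (Subtype.ext D.su),
    surj := ?_, card := by rw [← hT, ← D.card, Nat.card_congr (MonoidHom.ofInjective hf).toEquiv] }, key⟩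
  intro x hx
  rw [← hT] at hx
  obtain ⟨⟨y, hy⟩, rfl⟩ := hx
  obtain ⟨p, i, j, rfl⟩ := D.surj y hy
  exact ⟨p, i, j, (key p i j).symm⟩

section Arith

variable {S : Subgroup G}

theorem exists_two_pow [Finite G] (hS : IsPGroup 2 S) (D : Gens S n) : ∃ m, 2 ≤ m ∧ n = 2 ^ m := by
  haveI := Fact.mk Nat.prime_two
  obtain ⟨k, hk⟩ := hS.exists_card_eq
  rw [D.card] at hk
  obtain ⟨m, -, rfl⟩ := (Nat.dvd_prime_pow Nat.prime_two).1 (show n ∣ 2 ^ k from hk ▸ Dvd.intro (4 * n) (by ring))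
  refine ⟨m, ?_, rfl⟩
  by_contra h
  have := D.four_le
  interval_cases m <;> simp at this

theorem isUnit_of_par [Finite G] (hS : IsPGroup 2 S) (D : Gens S n) {x : ZMod n} (hx : D.par x = 1) : IsUnit x := by
  have := D.ne_zero
  obtain ⟨m, -, hm⟩ := D.exists_two_pow hS
  rw [← ZMod.natCast_zmod_val x, map_natCast] at hx
  rw [← ZMod.natCast_zmod_val x, ZMod.isUnit_iff_coprime]
  have hodd : Odd x.val := by
    rw [Nat.odd_iff]
    have h := congrArg ZMod.val hx
    rwa [ZMod.val_natCast, ZMod.val_one] at h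
  conv => arg 2; rw [hm]
  exact (Nat.coprime_two_right.2 hodd).pow_right m

theorem par_act (D : Gens S n) (i j : Bool) (q : ZMod n × ZMod n) :
    D.par (act i j q).1 + D.par (act i j q).2 = D.par q.1 + D.par q.2 := by
  cases i <;> cases j <;> simp [act, CharTwo.neg_eq, add_comm]

/-- The parity of the torus part. -/
theorem exists_par (D : Gens S n) :
    ∃ χ : ↥S →* Z₂, ∀ p i j, χ ⟨D.E p i j, D.E_mem p i j⟩ = Multiplicative.ofAdd (D.par p.1 + D.par p.2) := by
  classical
  choose P I J hPIJ using fun x : ↥S => D.surj x x.2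
  refine ⟨MonoidHom.mk' (fun x => Multiplicative.ofAdd (D.par (P x).1 + D.par (P x).2)) fun x y => ?_, fun p i j => ?_⟩
  · have h : D.E (P (x * y)) (I (x * y)) (J (x * y)) =
        D.E (P x + act (I x) (J x) (P y)) (Bool.xor (I x) (I y)) (Bool.xor (J x) (J y)) := by
      rw [← D.E_mul]
      exact (hPIJ (x * y)).symm.trans (congrArg₂ (· * ·) (hPIJ x) (hPIJ y))
    rw [← ofAdd_add, (D.E_inj h).1]
    refine congrArg _ ?_
    rw [Prod.fst_add, Prod.snd_add, map_add, map_add, ← D.par_act (I x) (J x) (P y)]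
    ring
  · rw [MonoidHom.mk'_apply, ← (D.E_inj (hPIJ ⟨D.E p i j, D.E_mem p i j⟩)).1]

theorem E_pow (D : Gens S n) (p : ZMod n × ZMod n) (k : ℕ) : D.E p false false ^ k = D.E (k • p) false false := by
  induction k with
  | zero => rw [pow_zero, zero_nsmul, E_one]
  | succ k ih => rw [pow_succ, ih, E_mul, succ_nsmul]; simp [act]

theorem z_mem (D : Gens S n) : D.z ∈ S := D.E_mem _ _ _

theorem z_sq (D : Gens S n) : D.z * D.z = 1 := by rw [z, E_mul, E_eq_one]; simp [act, D.h_two]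

theorem z_ne (D : Gens S n) : D.z ≠ 1 := fun e => D.h_ne (by simpa using (D.E_eq_one.1 e).1)

theorem e_sq (D : Gens S n) : D.e * D.e = 1 := by rw [e, E_mul, E_eq_one]; simp [act, D.h_two]

theorem e_ne (D : Gens S n) : D.e ≠ 1 := fun e => D.h_ne (by simpa using (D.E_eq_one.1 e).1)

theorem e_ne_z (D : Gens S n) : D.e ≠ D.z := fun h => by
  simpa [eq_comm (a := (0 : ZMod n)), D.h_ne] using (D.E_inj (show D.E _ false false = D.E _ false false from h)).1

theorem pow_n_eq (D : Gens S n) (x : G) : x ^ n = (x * x) ^ (n / 2) := by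
  rw [← pow_two, ← pow_mul, Nat.mul_div_cancel' ((show 2 ∣ 4 by norm_num).trans D.four_dvd)]

theorem E_u (D : Gens S n) : D.E (1, 0) false false = D.u := by
  have := D.four_le
  haveI : Fact (1 < n) := ⟨by omega⟩
  simp [E, el, pz, ZMod.val_zero, ZMod.val_one]

end Arith

variable [Finite G] {S : Sylow 2 G}

theorem pow_eq_one_of_even (D : Gens (S : Subgroup G) n) {p : ZMod n × ZMod n} {i j : Bool}
    (h : D.par p.1 + D.par p.2 = 0) : D.E p i j ^ n = 1 := by
  have := D.ne_zero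
  have h4 := D.four_dvd
  rw [D.pow_n_eq, E_sq, E_pow, E_eq_one]
  refine ⟨?_, rfl, rfl⟩
  have key : ∀ c : ZMod n, D.par c = 0 → (n / 2) • c = 0 := by
    intro c hc
    obtain ⟨y, rfl⟩ := D.exists_half hc
    rw [← two_nsmul, smul_smul, show n / 2 * 2 = n by omega, nsmul_eq_mul, ZMod.natCast_self, zero_mul]
  obtain ⟨a, b⟩ := p
  refine Prod.ext ?_ ?_ <;> cases i <;> cases j <;>
    simp only [act, Bool.false_eq_true, if_false, if_true, Prod.mk_add_mk, Prod.smul_mk, Prod.fst_zero,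
      Prod.snd_zero] <;>
    refine key _ ?_ <;> simp only [map_add, map_neg, CharTwo.neg_eq] <;>
    first | exact h | exact CharTwo.add_self_eq_zero _ | (rw [add_comm]; exact h)

theorem no_root (D : Gens (S : Subgroup G) n) {p : ZMod n × ZMod n} {i j : Bool}
    (h : D.par p.1 + D.par p.2 = 1) (hn : D.E p i j ^ n = 1) (k : ℕ) : D.E p i j ^ 2 ^ k ≠ D.z := by
  have := D.ne_zero
  obtain ⟨m, hm2, hm⟩ := D.exists_two_pow S.2
  intro hk
  obtain ⟨a, b⟩ := p
  have h1 : D.par (a + b) = 1 := by rw [map_add]; exact h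
  have hunit : ∀ {c : ZMod n}, D.par c = 1 → ((n / 2 : ℕ) : ZMod n) * c ≠ 0 := fun hc e =>
    D.h_ne ((D.isUnit_of_par S.2 hc).mul_left_eq_zero.1 e)
  cases j
  · cases i
    · rw [E_pow] at hk
      obtain ⟨hp, -, -⟩ := D.E_inj (show _ = D.E _ false false from hk)
      have ea : ((2 ^ k : ℕ) : ZMod n) * a = ((n / 2 : ℕ) : ZMod n) := by simpa [nsmul_eq_mul] using congrArg Prod.fst hp
      have eb : ((2 ^ k : ℕ) : ZMod n) * b = ((n / 2 : ℕ) : ZMod n) := by simpa [nsmul_eq_mul] using congrArg Prod.snd hp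
      have h2 : D.par (a - b) = 1 := by rw [map_sub, CharTwo.sub_eq_add]; exact h
      have h0 : ((2 ^ k : ℕ) : ZMod n) = 0 := (D.isUnit_of_par S.2 h2).mul_left_eq_zero.1 (by rw [mul_sub, ea, eb, sub_self])
      rw [h0, zero_mul] at ea
      exact D.h_ne ea.symm
    · rcases k with _ | k
      · rw [pow_zero, pow_one] at hk
        exact D.E_ne_z (Or.inl rfl) hk
      · rw [pow_succ', pow_mul, pow_two, E_sq] at hk
        simp only [act, Bool.false_eq_true, if_false, if_true, Prod.mk_add_mk, add_neg_cancel] at hk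
        rw [show ((0 : ZMod n), (0 : ZMod n)) = 0 from rfl, E_one, one_pow] at hk
        exact D.z_ne hk.symm
  · have h4 := D.four_dvd
    rw [D.pow_n_eq, E_sq, E_pow, E_eq_one] at hn
    have e := congrArg Prod.fst hn.1
    cases i
    · exact hunit h1 (by rw [mul_add]; simpa [act, nsmul_eq_mul] using e)
    · refine hunit (c := a - b) (by rw [map_sub, CharTwo.sub_eq_add]; exact h) ?_
      rw [mul_sub]; simpa [act, nsmul_eq_mul, sub_eq_add_neg] using e

/-- Inside the even part every involution other than `z` commutes with a square root of `z`. -/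
theorem exists_root (D : Gens (S : Subgroup G) n) {p : ZMod n × ZMod n} {i j : Bool}
    (hp : D.par p.1 + D.par p.2 = 0) (h2 : D.E p i j * D.E p i j = 1) (h1 : D.E p i j ≠ 1) (hz : D.E p i j ≠ D.z) :
    ∃ d ∈ (S : Subgroup G), Commute d (D.E p i j) ∧ d * d = D.z := by
  obtain ⟨χ, hχ⟩ := D.exists_par
  set h : ZMod n := ((n / 2 : ℕ) : ZMod n) with hh
  have hneg : -h = h := neg_eq_of_add_eq_zero_left D.h_two
  have conj : ∀ x : G, x ∈ (S : Subgroup G) → (∃ d ∈ (S : Subgroup G), Commute d x ∧ d * d = D.z) → D.SConj x (D.E p i j) →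
      ∃ d ∈ (S : Subgroup G), Commute d (D.E p i j) ∧ d * d = D.z := by
    rintro x - ⟨d, hd, hdx, hdz⟩ ⟨g, hg, hgx⟩
    refine ⟨g * d * g⁻¹, (S : Subgroup G).mul_mem ((S : Subgroup G).mul_mem hg hd) ((S : Subgroup G).inv_mem hg),
      hgx ▸ hdx.map (MulAut.conj g).toMonoidHom, ?_⟩
    rw [show g * d * g⁻¹ * (g * d * g⁻¹) = g * (d * d) * g⁻¹ by group, hdz, (D.z_central hg).eq, mul_inv_cancel_right]
  have mk : ∀ (d q : ZMod n × ZMod n) (a b k l : Bool),
      d + act k l q = q + act a b d → d + act k l d = (h, h) →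
      ∃ x ∈ (S : Subgroup G), Commute x (D.E q a b) ∧ x * x = D.z := fun d q a b k l e1 e2 =>
    ⟨D.E d k l, D.E_mem d k l, show D.E d k l * D.E q a b = D.E q a b * D.E d k l by
      rw [E_mul, E_mul, e1, Bool.xor_comm k a, Bool.xor_comm l b], by rw [E_sq, e2]; rfl⟩
  rcases D.inv_cases (D.E_mem p i j) h2 h1 with e | e | e | e | e | e | e
  · exact absurd e hz
  · exact conj D.e (D.E_mem _ _ _) (mk (((n / 4 : ℕ) : ZMod n), ((n / 4 : ℕ) : ZMod n)) _ _ _ false false
      (by simp [act, add_comm]) (by simp [act, D.h_half, hh])) e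
  · exact conj (D.wi 0 0) (D.E_mem _ _ _) (mk (h, 0) _ _ _ false true (by simp [act, hneg]) (by simp [act])) e
  · exfalso
    obtain ⟨g, hg, hgx⟩ := e
    have e1 : (⟨g, hg⟩ * ⟨D.wi 1 0, D.E_mem _ _ _⟩ * ⟨g, hg⟩⁻¹ : ↥(S : Subgroup G)) = ⟨D.E p i j, D.E_mem p i j⟩ :=
      Subtype.ext hgx
    have e2 := congrArg χ e1
    rw [map_mul, map_mul, map_inv, mul_comm (χ ⟨g, hg⟩), mul_inv_cancel_right, hχ, hp,
      show χ ⟨D.wi 1 0, D.E_mem _ _ _⟩ = _ from hχ (1, 0) true false] at e2
    simp at e2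
  · exact conj (D.wi 1 1) (D.E_mem _ _ _) (mk (h, 0) _ _ _ false true (by simp [act, hneg]; exact add_comm _ _) (by simp [act])) e
  · exact conj D.s0 (D.E_mem _ _ _) (mk (((n / 4 : ℕ) : ZMod n), ((n / 4 : ℕ) : ZMod n)) _ _ _ false false
      (by simp [act]) (by simp [act, D.h_half, hh])) e
  · exact conj D.t0 (D.E_mem _ _ _) (mk (((n / 4 : ℕ) : ZMod n), -((n / 4 : ℕ) : ZMod n)) _ _ _ false false
      (by simp [act]) (by
        simp only [act, Bool.false_eq_true, if_false, Prod.mk_add_mk, ← neg_add, D.h_half]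
        rw [← hh, hneg])) e

/-- An involution with a root of `z` in its centraliser goes to `z`, and `z` to `e`. -/
theorem exists_to_z (D : Gens (S : Subgroup G) n) {y d : G} (hy : y ≠ D.z) (hzy : IsConj D.z y)
    (hd : d ∈ (S : Subgroup G)) (hdy : Commute d y) (hdz : d * d = D.z) :
    ∃ g : G, g * y * g⁻¹ = D.z ∧ g * D.z * g⁻¹ = D.e := by
  obtain ⟨h, hh⟩ := isConj_iff.1 hzy.symm
  obtain ⟨g, hg, hS⟩ := D.pull hh
  obtain ⟨p, i, j, hp⟩ := D.surj _ (hS d hd hdy)
  change _ = D.E p i j at hp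
  have hsq : g * D.z * g⁻¹ = D.E (p + act i j p) false false := by
    rw [← D.E_sq, ← hp, ← hdz]; group
  have hne : g * D.z * g⁻¹ ≠ D.z := fun e => hy (mul_left_cancel (mul_right_cancel (hg.trans e.symm)))
  obtain ⟨h2, h1⟩ := inv_conj g D.z_sq D.z_ne
  rw [hsq] at hne h2 h1
  rw [E_sq, E_eq_one] at h2
  obtain ⟨a, b, hab⟩ : ∃ a b, p + act i j p = (a, b) := ⟨_, _, rfl⟩
  rw [hab] at hne h1 hsq h2
  have ha : a + a = 0 := by simpa [act] using congrArg Prod.fst h2.1
  have hb : b + b = 0 := by simpa [act] using congrArg Prod.snd h2.1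
  rcases D.two_torsion ha with rfl | rfl <;> rcases D.two_torsion hb with rfl | rfl
  · exact absurd D.E_one h1
  · refine ⟨D.s * g, ?_, ?_⟩
    · rw [show D.s * g * y * (D.s * g)⁻¹ = D.s * (g * y * g⁻¹) * D.s⁻¹ by group, hg, (D.z_central D.s_mem).eq,
        mul_inv_cancel_right]
    · rw [show D.s * g * D.z * (D.s * g)⁻¹ = D.s * (g * D.z * g⁻¹) * D.s⁻¹ by group, hsq, s_conj]; rfl
  · exact ⟨g, hg, hsq⟩
  · exact absurd rfl hne

theorem e_root (D : Gens (S : Subgroup G) n) :
    D.par ((n / 2 : ℕ) : ZMod n) + D.par (0 : ZMod n) = 0 := by rw [D.par_h, map_zero, add_zero]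

variable (hone : ∀ x y : G, orderOf x = 2 → orderOf y = 2 → IsConj x y)
include hone

/-- Fusion inside `C(z)`. -/
theorem conj_to_e (D : Gens (S : Subgroup G) n) {p : ZMod n × ZMod n} {i j : Bool}
    (hp : D.par p.1 + D.par p.2 = 0) (h2 : D.E p i j * D.E p i j = 1) (h1 : D.E p i j ≠ 1) (hz : D.E p i j ≠ D.z) :
    ∃ c : G, Commute c D.z ∧ c * D.E p i j * c⁻¹ = D.e := by
  obtain ⟨d, hd, hdy, hdz⟩ := D.exists_root hp h2 h1 hz
  obtain ⟨d', hd', hde, hdz'⟩ := D.exists_root (p := (((n / 2 : ℕ) : ZMod n), 0)) (i := false) (j := false)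
    D.e_root D.e_sq D.e_ne D.e_ne_z
  have hzo : orderOf D.z = 2 := orderOf_two D.z_sq D.z_ne
  obtain ⟨g, hg, hgz⟩ := D.exists_to_z hz (hone _ _ hzo (orderOf_two h2 h1)) hd hdy hdz
  obtain ⟨k, hk, hkz⟩ := D.exists_to_z D.e_ne_z (hone _ _ hzo (orderOf_two D.e_sq D.e_ne)) hd' hde hdz'
  refine ⟨k⁻¹ * g, ?_, ?_⟩
  · rw [Commute, SemiconjBy, ← mul_inv_eq_iff_eq_mul,
      show k⁻¹ * g * D.z * (k⁻¹ * g)⁻¹ = k⁻¹ * (g * D.z * g⁻¹) * k by group, hgz, ← hkz]
    group
  · rw [show k⁻¹ * g * D.E p i j * (k⁻¹ * g)⁻¹ = k⁻¹ * (g * D.E p i j * g⁻¹) * k by group, hg, ← hk]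
    show k⁻¹ * (k * D.e * k⁻¹) * k = D.e
    group

omit hone

/-- The transfer of an element of order `2n` into the parity is non-trivial. -/
theorem exists_index_two (D : Gens (S : Subgroup G) n) (hSC : (S : Subgroup G) ≤ Subgroup.centralizer {D.z}) :
    ∃ (f : ↥(Subgroup.centralizer ({D.z} : Set G)) →* Z₂),
      f ⟨D.E (1, 0) false true, hSC (D.E_mem _ _ _)⟩ = Multiplicative.ofAdd 1 := by
  classical
  haveI := Fact.mk Nat.prime_two
  have := D.ne_zero
  obtain ⟨m, hm2, hm⟩ := D.exists_two_pow S.2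
  obtain ⟨χ, hχ⟩ := D.exists_par
  set C := Subgroup.centralizer ({D.z} : Set G)
  set H := (S : Subgroup G).subgroupOf C
  let ϕ : ↥H →* Z₂ := χ.comp (Subgroup.subgroupOfEquivOfLe hSC).toMonoidHom
  set σ : ↥C := ⟨D.E (1, 0) false true, hSC (D.E_mem _ _ _)⟩
  have hodd : Odd H.index := by
    obtain ⟨P, hP⟩ : ∃ P : Sylow 2 ↥C, (P : Subgroup ↥C) = H := ⟨S.subtype hSC, rfl⟩
    rw [Nat.odd_iff, ← Nat.two_dvd_ne_zero, ← hP]
    exact P.not_dvd_index
  refine ⟨MonoidHom.transfer ϕ, ?_⟩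
  haveI : Fintype (Quotient (MulAction.orbitRel (Subgroup.zpowers σ) (↥C ⧸ H))) := Fintype.ofFinite _
  rw [MonoidHom.transfer_eq_prod_quotient_orbitRel_zpowers_quot]
  have hterm : ∀ q : Quotient (MulAction.orbitRel (Subgroup.zpowers σ) (↥C ⧸ H)),
      ϕ ⟨q.out.out⁻¹ * σ ^ Function.minimalPeriod (σ • ·) q.out * q.out.out,
        QuotientGroup.out_conj_pow_minimalPeriod_mem H σ q.out⟩ =
      Multiplicative.ofAdd ((Function.minimalPeriod (σ • ·) q.out : ℕ) : ZMod 2) := by
    intro q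
    obtain ⟨per, hper⟩ : ∃ per, per = Function.minimalPeriod (σ • ·) q.out := ⟨_, rfl⟩
    set r := q.out.out with hr
    have hmem : (r⁻¹ * σ ^ per * r : ↥C) ∈ H := hper ▸ QuotientGroup.out_conj_pow_minimalPeriod_mem H σ q.out
    have hσn : (σ : G) ^ n = D.z := by
      have h4 := D.four_dvd
      show D.E (1, 0) false true ^ n = D.z
      rw [D.pow_n_eq, E_sq, E_pow]
      simp [z, act, nsmul_eq_mul]
    have hσ2 : σ ^ (2 * n) = 1 := Subtype.ext (by
      rw [Subgroup.coe_pow, mul_comm, pow_mul, hσn, pow_two, D.z_sq, Subgroup.coe_one])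
    have hdvd : per ∣ 2 * n := by
      rw [hper]
      refine Function.IsPeriodicPt.minimalPeriod_dvd ?_
      show (σ • ·)^[2 * n] q.out = q.out
      simp only [smul_iterate, hσ2, one_smul]
    obtain ⟨i, hi, hpi⟩ := (Nat.dvd_prime_pow Nat.prime_two).1 (show per ∣ 2 ^ (m + 1) by rwa [pow_succ', ← hm])
    obtain ⟨p, a, b, hpab⟩ := D.surj _ (Subgroup.mem_subgroupOf.1 hmem)
    have hval : ϕ ⟨r⁻¹ * σ ^ per * r, hmem⟩ = Multiplicative.ofAdd (D.par p.1 + D.par p.2) := by
      rw [← hχ p a b]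
      exact congrArg χ (Subtype.ext hpab)
    have hconj : ∀ k, D.E p a b ^ k = (r : G)⁻¹ * ((σ : G) ^ (per * k)) * r := by
      intro k
      rw [show D.E p a b = ((r⁻¹ * σ ^ per * r : ↥C) : G) from hpab.symm, Subgroup.coe_mul, Subgroup.coe_mul,
        Subgroup.coe_inv, Subgroup.coe_pow, pow_mul]
      simpa using conj_pow (a := (r : G)⁻¹) (b := (σ : G) ^ per) (i := k)
    have hrz : (r : G)⁻¹ * D.z * r = D.z := by
      rw [mul_assoc, ← Subgroup.mem_centralizer_singleton_iff.1 r.2, inv_mul_cancel_left]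
    refine (congrArg ϕ (Subtype.ext (by subst hper; rfl))).trans (hval.trans ?_)
    rw [← hper, hpi]
    refine congrArg _ ?_
    rcases i with _ | i
    · rw [pow_zero, Nat.cast_one]
      rcases zmod2_cases (D.par p.1 + D.par p.2) with h | h
      · exfalso
        have := hconj n
        rw [D.pow_eq_one_of_even h, hpi, pow_zero, one_mul, hσn, hrz] at this
        exact D.z_ne this.symm
      · exact h
    · rw [pow_succ', Nat.cast_mul, show ((2 : ℕ) : ZMod 2) = 0 from rfl, zero_mul]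
      rcases zmod2_cases (D.par p.1 + D.par p.2) with h | h
      · exact h
      · exfalso
        have hn' : D.E p a b ^ n = 1 := by
          rw [hconj, hpi, pow_succ', show 2 * 2 ^ i * n = (2 * n) * 2 ^ i by ring, pow_mul,
            ← Subgroup.coe_pow, hσ2, Subgroup.coe_one, one_pow, mul_one, inv_mul_cancel]
        obtain ⟨j, hj⟩ : ∃ j, i + 1 ≤ m + 1 ∧ j = m - (i + 1) := ⟨_, hi, rfl⟩
        rcases Nat.lt_or_ge m (i + 1) with hlt | hge
        · -- the period is the whole order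
          have := hconj 1
          rw [pow_one, mul_one, hpi, show i + 1 = m + 1 by omega, pow_succ', ← hm, ← Subgroup.coe_pow, hσ2,
            Subgroup.coe_one, mul_one, inv_mul_cancel] at this
          obtain ⟨rfl, -, -⟩ := D.E_eq_one.1 this
          simp at h
        · refine D.no_root h hn' (m - (i + 1)) ?_
          rw [hconj, hpi, ← pow_add, Nat.add_sub_cancel' hge, ← hm, hσn, hrz]
  rw [Fintype.prod_congr _ _ hterm]
  rw [← ofAdd_sum, ← Nat.cast_sum]
  haveI := H.fintypeQuotientOfFiniteIndex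
  rw [← Subgroup.index_eq_sum_minimalPeriod H σ]
  exact congrArg _ (ZMod.natCast_eq_one_iff_odd.2 hodd)

include hone

set_option maxHeartbeats 1000000 in
/-- The parity extends to `C(z)`. -/
theorem exists_hom (D : Gens (S : Subgroup G) n) (hSC : (S : Subgroup G) ≤ Subgroup.centralizer {D.z}) :
    ∃ f : ↥(Subgroup.centralizer ({D.z} : Set G)) →* Z₂,
      (∀ p i j, f ⟨D.E p i j, hSC (D.E_mem p i j)⟩ = Multiplicative.ofAdd (D.par p.1 + D.par p.2)) ∧
      (∀ p i j, D.par p.1 + D.par p.2 = 0 → D.E p i j * D.E p i j = 1 → D.E p i j ≠ 1 → D.E p i j ≠ D.z →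
        ∃ c, f c = 1 ∧ c * ⟨D.E p i j, hSC (D.E_mem p i j)⟩ * c⁻¹ = ⟨D.e, hSC (D.E_mem _ _ _)⟩) ∧
      ∀ g : ↥f.ker →* Z₂, g = 1 := by
  classical
  haveI := Fact.mk Nat.prime_two
  have := D.ne_zero
  have h4 := D.four_dvd
  set C := Subgroup.centralizer ({D.z} : Set G)
  obtain ⟨f, hfσ⟩ := D.exists_index_two hSC
  let F : ZMod n × ZMod n → Bool → Bool → Z₂ := fun p i j => f ⟨D.E p i j, hSC (D.E_mem p i j)⟩
  have Fmul : ∀ p q i j k l, F (p + act i j q) (Bool.xor i k) (Bool.xor j l) = F p i j * F q k l := fun p q i j k l => by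
    show f _ = f _ * f _
    rw [← map_mul]
    exact congrArg f (Subtype.ext (D.E_mul p q i j k l).symm)
  set h : ZMod n := ((n / 2 : ℕ) : ZMod n) with hh
  set k4 : ZMod n := ((n / 4 : ℕ) : ZMod n)
  have hfe : F (h, 0) false false = 1 := by
    have := Fmul (k4, 0) (k4, 0) false false false false
    simp [act, k4, D.h_half] at this
    rw [hh, this, z₂_mul_self]
  have conjf : ∀ p i j, D.par p.1 + D.par p.2 = 0 → D.E p i j * D.E p i j = 1 → D.E p i j ≠ 1 → D.E p i j ≠ D.z →
      ∃ c : ↥C, c * ⟨D.E p i j, hSC (D.E_mem p i j)⟩ * c⁻¹ = ⟨D.e, hSC (D.E_mem _ _ _)⟩ := fun p i j hp h2 h1 hz => by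
    obtain ⟨c, hc, hce⟩ := D.conj_to_e hone hp h2 h1 hz
    exact ⟨⟨c, Subgroup.mem_centralizer_singleton_iff.2 hc.eq⟩, Subtype.ext hce⟩
  have hinv : ∀ p i j, D.par p.1 + D.par p.2 = 0 → D.E p i j * D.E p i j = 1 → D.E p i j ≠ 1 → D.E p i j ≠ D.z →
      F p i j = 1 := fun p i j hp h2 h1 hz => by
    obtain ⟨c, hc⟩ := conjf p i j hp h2 h1 hz
    have := congrArg f hc
    rw [map_mul, map_mul, map_inv, mul_comm (f c), mul_inv_cancel_right] at this
    exact this.trans hfe
  have hw : ∀ a b, D.par a + D.par b = 0 → F (a, b) true false = 1 := fun a b hab =>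
    hinv _ _ _ hab (by rw [E_sq, E_eq_one]; simp [act]) (fun e => by simpa using (D.E_eq_one.1 e).2.1)
      (D.E_ne_z (Or.inl rfl))
  have hsF : F 0 false true = 1 :=
    hinv _ _ _ (by simp) (by rw [E_sq, E_eq_one]; simp [act]) (fun e => by simpa using (D.E_eq_one.1 e).2.2)
      (D.E_ne_z (Or.inr rfl))
  have hT : ∀ a b, D.par a + D.par b = 0 → F (a, b) false false = 1 := fun a b hab => by
    have := Fmul (a, b) 0 true false true false
    simp [act] at this
    rw [this, hw a b hab, show F 0 true false = 1 from hw 0 0 (by simp), one_mul]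
  have hu : F (1, 0) false false = Multiplicative.ofAdd 1 := by
    have := Fmul (1, 0) 0 false false false true
    simp [act] at this
    rw [hsF, mul_one] at this
    exact this.symm.trans hfσ
  have hval : ∀ p i j, F p i j = Multiplicative.ofAdd (D.par p.1 + D.par p.2) := by
    intro p i j
    have hsplit : F p i j = F p false false * (if i then F 0 true false else 1) * (if j then F 0 false true else 1) := by
      have e1 := Fmul p 0 false false i false
      have e2 := Fmul p 0 i false false j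
      have e3 := Fmul p 0 false false false j
      cases i <;> cases j <;> simp [act, Prod.mk_zero_zero] at e1 e2 e3 ⊢
      · exact e3
      · exact e1
      · rw [e2, e1]
    rw [hsplit, hsF, show F 0 true false = 1 from hw 0 0 (by simp)]
    simp only [ite_self, mul_one]
    obtain ⟨a, b⟩ := p
    rcases zmod2_cases (D.par a + D.par b) with hc | hc
    · rw [hT a b hc, hc]; rfl
    · have := Fmul (a - 1, b) (1, 0) false false false false
      simp [act] at this
      rw [this, hT _ _ (by rw [map_sub, map_one, sub_add_eq_add_sub, hc, sub_self]), hu, one_mul, hc]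
  refine ⟨f, hval, fun p i j hp h2 h1 hz => ?_, fun g => ?_⟩
  · obtain ⟨c, hc⟩ := conjf p i j hp h2 h1 hz
    rcases z₂_cases (f c) with hc1 | hc1
    · exact ⟨c, hc1, hc⟩
    · refine ⟨⟨D.E (1, 0) false false, hSC (D.E_mem _ _ _)⟩ * c, ?_, ?_⟩
      · rw [map_mul, hc1, show f ⟨D.E (1, 0) false false, _⟩ = _ from hu]; exact z₂_mul_self _
      · set u' : ↥C := ⟨D.E (1, 0) false false, hSC (D.E_mem _ _ _)⟩
        have hce : Commute u' ⟨D.e, hSC (D.E_mem _ _ _)⟩ := Subtype.ext (by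
          show D.E (1, 0) false false * D.e = D.e * D.E (1, 0) false false
          rw [e, E_mul, E_mul]; simp [act, add_comm])
        rw [show ∀ x : ↥C, u' * c * x * (u' * c)⁻¹ = u' * (c * x * c⁻¹) * u'⁻¹ from fun x => by group, hc, hce.eq,
          mul_inv_cancel_right]
  · -- no further index two
    have kconj : ∀ (c x : ↥C) (hc : f c = 1) (hx : f x = 1) (y : ↥C) (hy : f y = 1), c * x * c⁻¹ = y →
        g ⟨x, hx⟩ = g ⟨y, hy⟩ := by
      intro c x hc hx y hy e
      have e1 : (⟨c, hc⟩ : ↥f.ker) * ⟨x, hx⟩ * ⟨c, hc⟩⁻¹ = ⟨y, hy⟩ := Subtype.ext e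
      rw [← e1, map_mul, map_mul, map_inv, mul_comm (g ⟨c, hc⟩), mul_inv_cancel_right]
    let W : ∀ (p : ZMod n × ZMod n) (i j : Bool), D.par p.1 + D.par p.2 = 0 → ↥f.ker := fun p i j hp =>
      ⟨⟨D.E p i j, hSC (D.E_mem p i j)⟩, by rw [MonoidHom.mem_ker]; exact (hval p i j).trans (by rw [hp]; rfl)⟩
    have hge : ∀ p i j hp, D.E p i j * D.E p i j = 1 → D.E p i j ≠ 1 → D.E p i j ≠ D.z →
        g (W p i j hp) = g (W (h, 0) false false D.e_root) := by
      intro p i j hp h2 h1 hz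
      obtain ⟨c, hc⟩ := conjf p i j hp h2 h1 hz
      rcases z₂_cases (f c) with hc1 | hc1
      · exact kconj c _ hc1 _ _ _ hc
      · refine kconj (⟨D.E (1, 0) false false, hSC (D.E_mem _ _ _)⟩ * c) _ ?_ _ _ _ ?_
        · rw [map_mul, hc1, show f ⟨D.E (1, 0) false false, _⟩ = _ from hu]; exact z₂_mul_self _
        · set u' : ↥C := ⟨D.E (1, 0) false false, hSC (D.E_mem _ _ _)⟩
          have hce : Commute u' ⟨D.e, hSC (D.E_mem _ _ _)⟩ := Subtype.ext (by
            show D.E (1, 0) false false * D.e = D.e * D.E (1, 0) false false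
            rw [e, E_mul, E_mul]; simp [act, add_comm])
          rw [show ∀ x : ↥C, u' * c * x * (u' * c)⁻¹ = u' * (c * x * c⁻¹) * u'⁻¹ from fun x => by group, hc, hce.eq,
            mul_inv_cancel_right]
          rfl
    have gmul : ∀ p q i j k l (hp : D.par p.1 + D.par p.2 = 0) (hq : D.par q.1 + D.par q.2 = 0)
        (hr : D.par (p + act i j q).1 + D.par (p + act i j q).2 = 0),
        g (W (p + act i j q) (Bool.xor i k) (Bool.xor j l) hr) = g (W p i j hp) * g (W q k l hq) := by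
      intro p q i j k l hp hq hr
      rw [← map_mul]
      exact congrArg g (Subtype.ext (Subtype.ext (D.E_mul p q i j k l).symm))
    set c0 := g (W (h, 0) false false D.e_root)
    have gw : ∀ a b hab, g (W (a, b) true false hab) = c0 := fun a b hab =>
      hge _ _ _ hab (by rw [E_sq, E_eq_one]; simp [act]) (fun e => by simpa using (D.E_eq_one.1 e).2.1)
        (D.E_ne_z (Or.inl rfl))
    have gT : ∀ p hp, g (W p false false hp) = 1 := by
      rintro ⟨a, b⟩ hab
      have := gmul (a, b) (0, 0) true false true false hab (by simp) (by simp only [act]; simpa using hab)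
      simp [act] at this
      rw [this, gw a b hab, gw 0 0 (by simp), z₂_mul_self]
    have hc0 : c0 = 1 := gT (h, 0) D.e_root
    have gs : g (W 0 false true (by simp)) = 1 := by
      exact (hge 0 false true (by simp) (by rw [E_sq, E_eq_one]; simp [act]) (fun e => by simpa using (D.E_eq_one.1 e).2.2)
        (D.E_ne_z (Or.inr rfl))).trans hc0
    have gall : ∀ p i j hp, g (W p i j hp) = 1 := by
      intro p i j hp
      have e1 := gmul p 0 false false i false hp (by simp) (by simpa [act] using hp)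
      have e2 := gmul p 0 i false false j hp (by simp) (by cases i <;> simpa [act] using hp)
      have e3 := gmul p 0 false false false j hp (by simp) (by simpa [act] using hp)
      have gw0 : g (W 0 true false (by simp)) = 1 := (gw 0 0 (by simp)).trans hc0
      cases i <;> cases j
      · exact gT p hp
      · simp [act, Prod.mk_zero_zero] at e3
        rw [e3, gT p hp, gs, one_mul]
      · simp [act, Prod.mk_zero_zero] at e1
        rw [e1, gT p hp, gw0, one_mul]
      · simp [act, Prod.mk_zero_zero] at e1 e2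
        rw [e2, e1, gT p hp, gw0, gs, one_mul, one_mul]
    ext1 x
    obtain ⟨a, o, ho, hxo⟩ := Nat.exists_eq_two_pow_mul_odd (n := orderOf x) (orderOf_pos x).ne'
    show g x = 1
    rw [← z₂_pow_odd (g x) ho, ← map_pow]
    set y := x ^ o with hy
    have hyp : IsPGroup 2 ↥(Subgroup.zpowers (y : ↥C)) := by
      have h1 : (y : ↥C) ^ 2 ^ a = 1 := by
        rw [← Subgroup.coe_pow, hy, ← pow_mul, mul_comm, ← hxo, pow_orderOf_eq_one]; rfl
      obtain ⟨b, -, hb⟩ := (Nat.dvd_prime_pow Nat.prime_two).1 (orderOf_dvd_of_pow_eq_one h1)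
      exact IsPGroup.of_card (n := b) (by rw [Nat.card_zpowers, hb])
    obtain ⟨P, hP⟩ := hyp.exists_le_sylow
    obtain ⟨k, hk⟩ := MulAction.exists_smul_eq ↥C P (S.subtype hSC)
    set u' : ↥C := ⟨D.E (1, 0) false false, hSC (D.E_mem _ _ _)⟩
    have hk' : (k * (y : ↥C) * k⁻¹ : ↥C) ∈ (S.subtype hSC : Subgroup ↥C) := by
      rw [← hk]
      exact ⟨_, hP (Subgroup.mem_zpowers _), rfl⟩
    obtain ⟨k', hk1, hk2⟩ : ∃ k' : ↥C, f k' = 1 ∧ ((k' * (y : ↥C) * k'⁻¹ : ↥C) : G) ∈ (S : Subgroup G) := by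
      rcases z₂_cases (f k) with hc1 | hc1
      · exact ⟨k, hc1, hk'⟩
      · refine ⟨u' * k, by rw [map_mul, hc1, show f u' = _ from hu]; exact z₂_mul_self _, ?_⟩
        rw [show u' * k * (y : ↥C) * (u' * k)⁻¹ = u' * (k * (y : ↥C) * k⁻¹) * u'⁻¹ by group]
        exact (S : Subgroup G).mul_mem ((S : Subgroup G).mul_mem (D.E_mem _ _ _) hk') ((S : Subgroup G).inv_mem (D.E_mem _ _ _))
    obtain ⟨p, i, j, hpij⟩ := D.surj _ hk2
    have hyf : f (y : ↥C) = 1 := y.2
    have hp : D.par p.1 + D.par p.2 = 0 := by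
      have h1 : f (k' * (y : ↥C) * k'⁻¹) = 1 := by
        rw [map_mul, map_mul, map_inv, hk1, hyf]; simp
      rw [show (k' * (y : ↥C) * k'⁻¹ : ↥C) = ⟨D.E p i j, hSC (D.E_mem p i j)⟩ from Subtype.ext hpij] at h1
      exact Multiplicative.ofAdd.injective ((hval p i j).symm.trans h1)
    exact (kconj k' _ hk1 hyf _ (W p i j hp).2 (Subtype.ext hpij)).trans (gall p i j hp)

end Gens

/-- What is known about `C(z)` modulo its odd core. -/
structure CentData (Q : Type*) [Group Q] [Finite Q] (n : ℕ) where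
  /-- a Sylow 2-subgroup -/
  P : Sylow 2 Q
  /-- its generators -/
  D : Gens (P : Subgroup Q) n
  /-- the parity -/
  f : Q →* Z₂
  f_E : ∀ p i j, f (D.E p i j) = Multiplicative.ofAdd (D.par p.1 + D.par p.2)
  core : Cfsg.pPrimeCore 2 Q = ⊥
  central : ∀ x : Q, Commute x D.z
  fuse : ∀ p i j, D.par p.1 + D.par p.2 = 0 → D.E p i j * D.E p i j = 1 → D.E p i j ≠ 1 → D.E p i j ≠ D.z →
    ∃ c, f c = 1 ∧ c * D.E p i j * c⁻¹ = D.e
  no_two : ∀ g : ↥f.ker →* Z₂, g = 1

/-- The structure exists. -/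
theorem exists_centData [Finite G] {S : Sylow 2 G} (D : Gens (S : Subgroup G) n)
    (hone : ∀ x y : G, orderOf x = 2 → orderOf y = 2 → IsConj x y) :
    Nonempty (CentData (↥(Subgroup.centralizer ({D.z} : Set G)) ⧸ oddCore ↥(Subgroup.centralizer ({D.z} : Set G))) n) := by
  haveI := Fact.mk Nat.prime_two
  have hSC : (S : Subgroup G) ≤ Subgroup.centralizer {D.z} := fun a ha =>
    Subgroup.mem_centralizer_singleton_iff.2 (D.z_central ha).eq
  set C := Subgroup.centralizer ({D.z} : Set G)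
  obtain ⟨f, hval, hfuse, hno⟩ := D.exists_hom hone hSC
  set π := QuotientGroup.mk' (oddCore ↥C) with hπ
  have hcop := Cores.coprime_card_pPrimeCore (G := ↥C) 2
  have hkill : oddCore ↥C ≤ f.ker := fun x hx => by
    have h1 : orderOf (f x) ∣ Nat.card (oddCore ↥C) := (orderOf_map_dvd f x).trans
      (Subgroup.orderOf_dvd_natCard _ hx)
    have h2 : orderOf (f x) ∣ 2 := orderOf_dvd_of_pow_eq_one (by rw [pow_two]; exact z₂_mul_self _)
    exact orderOf_eq_one_iff.1 (Nat.eq_one_of_dvd_coprimes hcop h1 h2)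
  let ι : ↥(S : Subgroup G) →* ↥C ⧸ oddCore ↥C := π.comp (Subgroup.inclusion hSC)
  have hι : Function.Injective ι := (injective_iff_map_eq_one ι).2 fun x hx => by
    obtain ⟨i, hi⟩ := IsPGroup.iff_orderOf.1 S.2 x
    have h1 : orderOf (Subgroup.inclusion hSC x) ∣ Nat.card (oddCore ↥C) :=
      Subgroup.orderOf_dvd_natCard _ ((QuotientGroup.eq_one_iff _).1 hx)
    rw [orderOf_injective _ (Subgroup.inclusion_injective hSC), hi] at h1
    exact orderOf_eq_one_iff.1 (hi.trans (Nat.eq_one_of_dvd_coprimes (hcop.pow_right i) h1 dvd_rfl))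
  let P : Sylow 2 (↥C ⧸ oddCore ↥C) := (S.subtype hSC).mapSurjective (QuotientGroup.mk'_surjective _)
  have hr : ι.range = (P : Subgroup (↥C ⧸ oddCore ↥C)) := by
    ext x
    constructor
    · rintro ⟨y, rfl⟩
      exact ⟨Subgroup.inclusion hSC y, y.2, rfl⟩
    · rintro ⟨y, hy, rfl⟩
      exact ⟨⟨y, hy⟩, rfl⟩
  obtain ⟨D', hD'⟩ := D.exists_ofInj ι hι _ hr
  let f' : ↥C ⧸ oddCore ↥C →* Z₂ := QuotientGroup.lift _ f hkill
  refine ⟨{ P := P, D := D', f := f', f_E := fun p i j => ?_, core := Cores.pPrimeCore_quotient_self 2,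
            central := fun x => ?_, fuse := fun p i j hp h2 h1 hz => ?_, no_two := fun g => ?_ }⟩
  · rw [hD']; exact hval p i j
  · obtain ⟨y, rfl⟩ := QuotientGroup.mk'_surjective _ x
    rw [Gens.z, hD']
    exact (show Commute y ⟨D.z, hSC D.z_mem⟩ from
      Subtype.ext (Subgroup.mem_centralizer_singleton_iff.1 y.2)).map π
  · rw [hD', ← map_mul, ← map_one ι] at h2
    have h2' : D.E p i j * D.E p i j = 1 := congrArg Subtype.val (hι h2)
    obtain ⟨c, hc, hce⟩ := hfuse p i j hp h2'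
      (fun e => h1 (by rw [hD', ← map_one ι]; exact congrArg ι (Subtype.ext e)))
      (fun e => hz (by rw [Gens.z, hD', hD']; exact congrArg ι (Subtype.ext e)))
    refine ⟨π c, hc, ?_⟩
    rw [hD', Gens.e, hD']
    show π c * π _ * (π c)⁻¹ = π _
    rw [← map_inv, ← map_mul, ← map_mul]
    exact congrArg π hce
  · let r : ↥f.ker →* ↥f'.ker := (π.comp f.ker.subtype).codRestrict f'.ker fun x => x.2
    have hgr := hno (g.comp r)
    ext1 x
    obtain ⟨y, hy⟩ := QuotientGroup.mk'_surjective _ (x : ↥C ⧸ oddCore ↥C)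
    have hyk : f y = 1 := by
      have := x.2
      rw [MonoidHom.mem_ker, ← hy] at this
      exact this
    have : x = r ⟨y, hyk⟩ := Subtype.ext hy.symm
    rw [this]
    exact DFunLike.congr_fun hgr ⟨y, hyk⟩

end Cfsg.Agent.G2TypeFusion
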