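import Cfsg.Agent.Lib.G2TypeFusion.Central
import Cfsg.Agent.Lib.PReduced.Local

/-!
# Normal subgroups of `C(z)` modulo its odd core

* `CentData.even_le_of_e` : a normal subgroup with `e` has the whole even part.
* `CentData.z_mem_of_even` : a normal subgroup of even order inside the kernel has `z`.
* `CentData.le_Z_of_inf` : a normal subgroup with Sylow subgroup inside `⟨z⟩` lies in `⟨z⟩`.
* `CentData.pair_le_Z`, `CentData.core_quot`, `CentData.no_order_two`.
-/

set_option autoImplicit false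

namespace Cfsg.Agent.G2TypeFusion

open Cfsg Subgroup
open scoped commutatorElement

theorem z₂_one_ne : (Multiplicative.ofAdd (1 : ZMod 2) : Z₂) ≠ 1 := by decide

variable {Q : Type*} [Group Q] [Finite Q] {n : ℕ}

namespace CentData

variable (cd : CentData Q n)

/-- The group of `z`. -/
def Z : Subgroup Q := zpowers cd.D.z

theorem Z_le_center : cd.Z ≤ center Q :=
  zpowers_le.2 (mem_center_iff.2 fun g => (cd.central g).eq)

instance Z_normal : cd.Z.Normal :=
  ⟨fun x hx g => by rwa [mem_center_iff.1 (cd.Z_le_center hx) g, mul_inv_cancel_right]⟩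

theorem z_mem_Z : cd.D.z ∈ cd.Z := mem_zpowers _

theorem mem_Z {x : Q} : x ∈ cd.Z ↔ x = 1 ∨ x = cd.D.z := by
  refine ⟨fun h => ?_, ?_⟩
  · obtain ⟨k, rfl⟩ := mem_zpowers_iff.1 h
    have h2 : cd.D.z ^ (2 : ℤ) = 1 := by
      rw [show (2 : ℤ) = 1 + 1 from rfl, zpow_add, zpow_one, cd.D.z_sq]
    rcases Int.even_or_odd' k with ⟨j, rfl | rfl⟩
    · left; rw [zpow_mul, h2, one_zpow]
    · right; rw [zpow_add, zpow_mul, h2, one_zpow, one_mul, zpow_one]
  · rintro (rfl | rfl)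
    · exact one_mem _
    · exact cd.z_mem_Z

theorem Z_sq {x : Q} (hx : x ∈ cd.Z) : x * x = 1 := by
  rcases cd.mem_Z.1 hx with rfl | rfl
  · exact one_mul 1
  · exact cd.D.z_sq

theorem card_Z : Nat.card cd.Z = 2 := by
  rw [Z, Nat.card_zpowers, Gens.orderOf_two cd.D.z_sq cd.D.z_ne]

/-- The quotient by `z`. -/
def pr : Q →* Q ⧸ cd.Z := QuotientGroup.mk' cd.Z

theorem pr_surj : Function.Surjective cd.pr := QuotientGroup.mk'_surjective _

theorem pr_ker : cd.pr.ker = cd.Z := QuotientGroup.ker_mk' _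

theorem pr_eq_one {x : Q} : cd.pr x = 1 ↔ x ∈ cd.Z := QuotientGroup.eq_one_iff x

theorem pr_z : cd.pr cd.D.z = 1 := cd.pr_eq_one.2 cd.z_mem_Z

theorem pr_eq {x y : Q} : cd.pr x = cd.pr y ↔ ∃ c ∈ cd.Z, x * c = y := QuotientGroup.mk'_eq_mk' _

/-- The even part of the Sylow 2-subgroup. -/
def P0 : Subgroup Q := (cd.P : Subgroup Q) ⊓ cd.f.ker

theorem E_mem_ker {p : ZMod n × ZMod n} {i j : Bool} :
    cd.D.E p i j ∈ cd.f.ker ↔ cd.D.par p.1 + cd.D.par p.2 = 0 := by
  rw [MonoidHom.mem_ker, cd.f_E, ofAdd_eq_one]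

theorem E_mem_P0 {p : ZMod n × ZMod n} {i j : Bool} (h : cd.D.par p.1 + cd.D.par p.2 = 0) :
    cd.D.E p i j ∈ cd.P0 :=
  ⟨cd.D.E_mem _ _ _, cd.E_mem_ker.2 h⟩

theorem P0_cases {x : Q} (hx : x ∈ cd.P0) :
    ∃ p i j, cd.D.par p.1 + cd.D.par p.2 = 0 ∧ x = cd.D.E p i j := by
  obtain ⟨p, i, j, rfl⟩ := cd.D.surj x hx.1
  exact ⟨p, i, j, cd.E_mem_ker.1 hx.2, rfl⟩

theorem z_mem_ker : cd.D.z ∈ cd.f.ker := by
  refine cd.E_mem_ker.2 ?_
  rw [cd.D.par_h, add_zero]

theorem Z_le_ker : cd.Z ≤ cd.f.ker := zpowers_le.2 cd.z_mem_ker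

theorem z_mem_P0 : cd.D.z ∈ cd.P0 := ⟨cd.D.z_mem, cd.z_mem_ker⟩

theorem Z_le_P0 : cd.Z ≤ cd.P0 := zpowers_le.2 cd.z_mem_P0

theorem e_mem_P0 : cd.D.e ∈ cd.P0 := cd.E_mem_P0 cd.D.e_root

theorem isPGroup_P0 : IsPGroup 2 cd.P0 := cd.P.2.to_le inf_le_left

theorem exists_pull {x : Q} (hx : x * x = 1) : ∃ g, g * x * g⁻¹ ∈ (cd.P : Subgroup Q) := by
  haveI := Fact.mk Nat.prime_two
  have hp : IsPGroup 2 (zpowers x) := by
    obtain ⟨k, -, hk⟩ := (Nat.dvd_prime_pow Nat.prime_two).1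
      (orderOf_dvd_of_pow_eq_one (show x ^ 2 ^ 1 = 1 by rw [pow_one, pow_two, hx]))
    exact IsPGroup.of_card (n := k) (by rw [Nat.card_zpowers, hk])
  obtain ⟨R, hR⟩ := hp.exists_le_sylow
  obtain ⟨g, hg⟩ := MulAction.exists_smul_eq Q R cd.P
  exact ⟨g, by rw [← hg]; exact ⟨x, hR (mem_zpowers x), rfl⟩⟩

/-- A normal subgroup containing `e` contains the whole even part. -/
theorem even_le_of_e {N : Subgroup Q} (hN : N.Normal) (he : cd.D.e ∈ N) : cd.P0 ≤ N := by
  have hinv : ∀ p i j, cd.D.par p.1 + cd.D.par p.2 = 0 → cd.D.E p i j * cd.D.E p i j = 1 →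
      cd.D.E p i j ≠ 1 → cd.D.E p i j ≠ cd.D.z → cd.D.E p i j ∈ N := by
    intro p i j hp h2 h1 hz
    obtain ⟨c, -, hc⟩ := cd.fuse p i j hp h2 h1 hz
    have := hN.conj_mem _ he c⁻¹
    rwa [← hc, show c⁻¹ * (c * cd.D.E p i j * c⁻¹) * c⁻¹⁻¹ = cd.D.E p i j by group] at this
  have hw : ∀ a b, cd.D.par a + cd.D.par b = 0 → cd.D.E (a, b) true false ∈ N := fun a b hab =>
    hinv _ _ _ hab (by rw [Gens.E_sq, Gens.E_eq_one]; simp [act])
      (fun e => by simpa using (cd.D.E_eq_one.1 e).2.1) (cd.D.E_ne_z (Or.inl rfl))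
  have hw0 : cd.D.E 0 true false ∈ N := hw 0 0 (by simp)
  have hs : cd.D.E 0 false true ∈ N :=
    hinv _ _ _ (by simp) (by rw [Gens.E_sq, Gens.E_eq_one]; simp [act])
      (fun e => by simpa using (cd.D.E_eq_one.1 e).2.2) (cd.D.E_ne_z (Or.inr rfl))
  intro x hx
  obtain ⟨⟨a, b⟩, i, j, hp, rfl⟩ := cd.P0_cases hx
  have hT : cd.D.E (a, b) false false ∈ N := by
    have := N.mul_mem (hw a b hp) hw0
    rw [Gens.E_mul] at this
    simpa [act, Prod.mk_zero_zero] using this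
  cases i <;> cases j
  · exact hT
  · have := N.mul_mem hT hs
    rw [Gens.E_mul] at this
    simpa [act, Prod.mk_zero_zero] using this
  · exact hw a b hp
  · have := N.mul_mem (hw a b hp) hs
    rw [Gens.E_mul] at this
    simpa [act, Prod.mk_zero_zero] using this

/-- A normal subgroup of even order inside the kernel contains `z`. -/
theorem z_mem_of_even {N : Subgroup Q} (hN : N.Normal) (hk : N ≤ cd.f.ker) (h2 : 2 ∣ Nat.card N) :
    cd.D.z ∈ N := by
  haveI := Fact.mk Nat.prime_two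
  obtain ⟨⟨y, hyN⟩, hy⟩ := exists_prime_orderOf_dvd_card' (G := N) 2 h2
  have hsq : y * y = 1 := congrArg Subtype.val (show (⟨y, hyN⟩ : N) * ⟨y, hyN⟩ = 1 by
    rw [← pow_two, ← hy, pow_orderOf_eq_one])
  have hy1 : y ≠ 1 := fun e => by
    rw [show (⟨y, hyN⟩ : N) = 1 from Subtype.ext e, orderOf_one] at hy
    omega
  obtain ⟨g, hg⟩ := cd.exists_pull hsq
  have hgN : g * y * g⁻¹ ∈ N := hN.conj_mem y hyN g
  obtain ⟨p, i, j, hp⟩ := cd.D.surj _ hg
  obtain ⟨h2', h1'⟩ := Gens.inv_conj g hsq hy1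
  change g * y * g⁻¹ = cd.D.E p i j at hp
  rw [hp] at hgN h2' h1'
  by_cases hz : cd.D.E p i j = cd.D.z
  · rwa [hz] at hgN
  · obtain ⟨c, -, hc⟩ := cd.fuse p i j (cd.E_mem_ker.1 (hk hgN)) h2' h1' hz
    exact cd.even_le_of_e hN (hc ▸ hN.conj_mem _ hgN c) cd.z_mem_P0

include cd in
/-- A normal subgroup of odd order is trivial. -/
theorem odd_eq_bot {N : Subgroup Q} (hN : N.Normal) (h : (Nat.card N).Coprime 2) : N = ⊥ :=
  le_bot_iff.1 (cd.core ▸ Cores.le_pPrimeCore hN h)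

/-- A normal subgroup whose Sylow subgroup lies in `⟨z⟩` lies there. -/
theorem le_Z_of_inf {N : Subgroup Q} (hN : N.Normal) (h : (cd.P : Subgroup Q) ⊓ N ≤ cd.Z) : N ≤ cd.Z := by
  haveI := Fact.mk Nat.prime_two
  obtain ⟨R, hR⟩ := PReduced.exists_sylow_inf cd.P (C := N) (by rw [normalizer_eq_top]; exact le_top)
  have hmem : ∀ x : N, x ∈ (R : Subgroup N) → (x : Q) ∈ cd.Z := fun x hx => by
    rw [hR] at hx
    exact h ⟨hx, x.2⟩
  have hc : normalizer ((R : Subgroup N) : Set N) ≤ centralizer ((R : Subgroup N) : Set N) :=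
    fun y _ x hx => Subtype.ext (mem_center_iff.1 (cd.Z_le_center (hmem x hx)) (y : Q)).symm
  set M := (MonoidHom.transferSylow R hc).ker
  have hMb : M = ⊥ := by
    haveI hpc := Cores.map_subtype_normal_of_characteristic N (Cfsg.pPrimeCore 2 ↥N)
    have hb : (Cfsg.pPrimeCore 2 ↥N).map N.subtype = ⊥ := by
      refine cd.odd_eq_bot hpc ?_
      rw [Cores.card_map_subtype]
      exact Cores.coprime_card_pPrimeCore 2
    rw [(map_eq_bot_iff_of_injective _ N.subtype_injective)] at hb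
    refine le_bot_iff.1 (hb ▸ Cores.le_pPrimeCore inferInstance ?_)
    exact (Nat.prime_two.coprime_iff_not_dvd.2 (MonoidHom.not_dvd_card_ker_transferSylow R hc)).symm
  have hc' := MonoidHom.ker_transferSylow_isComplement' R hc
  rw [show (MonoidHom.transferSylow R hc).ker = ⊥ from hMb, isComplement'_bot_left] at hc'
  exact fun x hx => hmem ⟨x, hx⟩ (hc' ▸ mem_top _)

/-- An element of the even part centralising it lies in `⟨z⟩`. -/
theorem center_P0 {x : Q} (hx : x ∈ cd.P0) (hc : ∀ y ∈ cd.P0, Commute x y) : x ∈ cd.Z := by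
  obtain ⟨⟨a, b⟩, i, j, hp, rfl⟩ := cd.P0_cases hx
  have hn := cd.D.four_le
  haveI : Fact (1 < n) := ⟨by omega⟩
  have htwo : (1 : ZMod n) + 1 ≠ 0 := fun e => by
    have h1 : ((2 : ℕ) : ZMod n) = 0 := by rw [← one_add_one_eq_two, Nat.cast_add, Nat.cast_one, e]
    rw [ZMod.natCast_eq_zero_iff] at h1
    exact absurd (Nat.le_of_dvd (by norm_num) h1) (by omega)
  have e1 : cd.D.E (a, b) i j * cd.D.E (1, 1) false false = cd.D.E (1, 1) false false * cd.D.E (a, b) i j :=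
    hc _ (cd.E_mem_P0 (by simp [CharTwo.add_self_eq_zero]))
  have e2 : cd.D.E (a, b) i j * cd.D.E (1, -1) false false = cd.D.E (1, -1) false false * cd.D.E (a, b) i j :=
    hc _ (cd.E_mem_P0 (by simp [CharTwo.add_self_eq_zero]))
  have e3 : cd.D.E (a, b) i j * cd.D.E 0 true false = cd.D.E 0 true false * cd.D.E (a, b) i j :=
    hc _ (cd.E_mem_P0 (by simp))
  have e4 : cd.D.E (a, b) i j * cd.D.E 0 false true = cd.D.E 0 false true * cd.D.E (a, b) i j :=
    hc _ (cd.E_mem_P0 (by simp))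
  rw [Gens.E_mul, Gens.E_mul] at e1 e2 e3 e4
  have p1 := (cd.D.E_inj e1).1
  have p2 := (cd.D.E_inj e2).1
  have p3 := (cd.D.E_inj e3).1
  have p4 := (cd.D.E_inj e4).1
  cases i <;> cases j <;> simp [act, Prod.ext_iff] at p1 p2 p3 p4
  · have hab : a = b := p4.1
    subst hab
    have ha : a + a = 0 := by linear_combination p3.1
    rcases cd.D.two_torsion ha with rfl | rfl
    · rw [Prod.mk_zero_zero, Gens.E_one]; exact one_mem _
    · exact cd.z_mem_Z
  all_goals
    refine absurd ?_ htwo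
    first
      | linear_combination p1.1
      | linear_combination p2.1
      | linear_combination (-1 : ZMod n) * p1.1
      | linear_combination (-1 : ZMod n) * p2.1

/-- Two normal subgroups covering the even part have common centraliser `⟨z⟩` in the kernel. -/
theorem pair_le_Z {K₁ K₂ : Subgroup Q} (h1 : K₁.Normal) (h2 : K₂.Normal) (hP : cd.P0 ≤ K₁ ⊔ K₂) :
    cd.f.ker ⊓ centralizer (K₁ : Set Q) ⊓ centralizer (K₂ : Set Q) ≤ cd.Z := by
  haveI := h1
  haveI := h2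
  refine cd.le_Z_of_inf inferInstance ?_
  rintro y ⟨hyP, ⟨hyk, hy1⟩, hy2⟩
  refine cd.center_P0 ⟨hyP, hyk⟩ fun w hw => ?_
  have hle : K₁ ⊔ K₂ ≤ centralizer {y} := sup_le
    (fun k hk => mem_centralizer_singleton_iff.2 (hy1 k hk))
    (fun k hk => mem_centralizer_singleton_iff.2 (hy2 k hk))
  exact (mem_centralizer_singleton_iff.1 (hle (hP hw))).symm

/-- The quotient by `z` has trivial odd core. -/
theorem odd_eq_bot_quot {N : Subgroup (Q ⧸ cd.Z)} (hN : N.Normal) (h : (Nat.card N).Coprime 2) : N = ⊥ := by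
  haveI := Fact.mk Nat.prime_two
  have hle : N.comap cd.pr ≤ cd.Z := by
    refine cd.le_Z_of_inf (hN.comap _) ?_
    rintro y ⟨hyP, hyN⟩
    obtain ⟨k, hk⟩ := IsPGroup.iff_orderOf.1 cd.P.2 ⟨y, hyP⟩
    have h1 : orderOf (cd.pr y) ∣ 2 ^ k := by
      refine (orderOf_map_dvd cd.pr y).trans ?_
      rw [← hk, ← orderOf_injective (cd.P : Subgroup Q).subtype Subtype.val_injective]
      rfl
    have h2 : orderOf (cd.pr y) ∣ Nat.card N := N.orderOf_dvd_natCard hyN
    exact cd.pr_eq_one.1 (orderOf_eq_one_iff.1 (Nat.eq_one_of_dvd_coprimes (h.pow_right k) h2 h1))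
  refine le_bot_iff.1 fun x hx => ?_
  obtain ⟨y, rfl⟩ := cd.pr_surj x
  exact cd.pr_eq_one.2 (hle hx)

/-- The kernel of the parity in the quotient. -/
def X1 : Subgroup (Q ⧸ cd.Z) := cd.f.ker.map cd.pr

instance X1_normal : cd.X1.Normal := (inferInstance : cd.f.ker.Normal).map _ cd.pr_surj

theorem comap_X1 : cd.X1.comap cd.pr = cd.f.ker :=
  comap_map_eq_self (cd.pr_ker.trans_le cd.Z_le_ker)

/-- No normal subgroup of order two of the quotient inside the kernel. -/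
theorem no_order_two {N : Subgroup (Q ⧸ cd.Z)} (hN : N.Normal) (hk : N ≤ cd.X1) : Nat.card N ≠ 2 := by
  haveI := Fact.mk Nat.prime_two
  intro h2
  set M := N.comap cd.pr with hM
  have hMn : M.Normal := hN.comap _
  have hMk : M ≤ cd.f.ker := cd.comap_X1 ▸ comap_mono hk
  have hMcard : Nat.card M = 2 ^ 2 := by
    have hmap : M.map cd.pr = N := map_comap_eq_self_of_surjective cd.pr_surj N
    have h := Cores.card_map_mul_ker cd.pr M (by rw [hM]; exact MonoidHom.ker_le_comap _ _)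
    rw [hmap, h2, cd.pr_ker, cd.card_Z] at h
    omega
  have hMP : M ≤ (cd.P : Subgroup Q) :=
    (Cores.le_pCore hMn (IsPGroup.of_card hMcard)).trans (Cores.pCore_le_sylow cd.P)
  obtain ⟨y, hy, hyZ⟩ : ∃ y ∈ M, y ∉ cd.Z := by
    by_contra h
    push Not at h
    have := card_le_of_le (H := M) (K := cd.Z) h
    rw [hMcard, cd.card_Z] at this
    omega
  obtain ⟨p, i, j, hp, hyE⟩ := cd.P0_cases ⟨hMP hy, hMk hy⟩
  by_cases hy2 : y * y = 1
  · subst hyE
    obtain ⟨c, -, hc⟩ := cd.fuse p i j hp hy2 (fun e => hyZ (e ▸ one_mem _))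
      (fun e => hyZ (e ▸ cd.z_mem_Z))
    have hle := cd.even_le_of_e hMn (hc ▸ hMn.conj_mem _ hy c)
    have hw : ∀ x ∈ M, ∀ x' ∈ M, Commute x x' := by
      intro x hx x' hx'
      haveI : IsMulCommutative M := IsPGroup.isMulCommutative_of_card_eq_prime_sq hMcard
      exact congrArg Subtype.val (mul_comm' (⟨x, hx⟩ : M) ⟨x', hx'⟩)
    have hwz : cd.D.E 0 true false ∈ cd.Z :=
      cd.center_P0 (cd.E_mem_P0 (by simp)) fun y' hy' =>
        hw _ (hle (cd.E_mem_P0 (by simp))) _ (hle hy')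
    rcases cd.mem_Z.1 hwz with e | e
    · simpa using (cd.D.E_eq_one.1 e).2.1
    · exact cd.D.E_ne_z (Or.inl rfl) e
  · -- `M` is cyclic, so `ker f` centralises it
    have hord : orderOf y = 4 := by
      have hd : orderOf y ∣ 2 ^ 2 := by
        rw [← hMcard]; exact orderOf_dvd_natCard (G := Q) M hy
      obtain ⟨k, hk, he⟩ := (Nat.dvd_prime_pow Nat.prime_two).1 hd
      rcases (show k ≤ 1 ∨ k = 2 by omega) with hk1 | rfl
      · exact absurd (by rw [← pow_two]; exact orderOf_dvd_iff_pow_eq_one.1 (he ▸ Nat.pow_dvd_pow 2 hk1)) hy2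
      · exact he
    have hgen : M = zpowers y := (eq_of_le_of_card_ge (zpowers_le.2 hy)
      (by rw [Nat.card_zpowers, hord, hMcard]; norm_num)).symm
    have hcase : ∀ g : Q, g * y * g⁻¹ = y ∨ g * y * g⁻¹ = y⁻¹ := fun g => by
      have hg : g * y * g⁻¹ ∈ zpowers y := hgen ▸ hMn.conj_mem y hy g
      obtain ⟨k, hk⟩ := mem_zpowers_iff.1 hg
      have hk' : y ^ (k % (4 : ℤ)) = g * y * g⁻¹ := by
        rw [← hk, show (4 : ℤ) = ((orderOf y : ℕ) : ℤ) by rw [hord]; rfl, zpow_mod_orderOf]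
      have ho : orderOf (g * y * g⁻¹) = 4 := by
        rw [← hord]; exact (MulAut.conj g).orderOf_eq y
      have h4 : y ^ (4 : ℤ) = 1 := by
        rw [show (4 : ℤ) = ((4 : ℕ) : ℤ) from rfl, zpow_natCast, ← hord]; exact pow_orderOf_eq_one y
      rcases (show k % 4 = 0 ∨ k % 4 = 1 ∨ k % 4 = 2 ∨ k % 4 = 3 by omega) with e | e | e | e <;>
        rw [e] at hk'
      · rw [← hk', zpow_zero, orderOf_one] at ho; omega
      · exact Or.inl (by rw [← hk', zpow_one])
      · exfalso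
        rw [← hk'] at ho
        have : orderOf (y ^ (2 : ℤ)) ∣ 2 := orderOf_dvd_of_pow_eq_one (by
          rw [← zpow_natCast, ← zpow_mul]; exact h4)
        rw [ho] at this
        norm_num at this
      · exact Or.inr (by rw [← hk', eq_inv_iff_mul_eq_one, ← zpow_add_one]; exact h4)
    classical
    have hmul : ∀ a b : Q, a * b * y * (a * b)⁻¹ = a * (b * y * b⁻¹) * a⁻¹ := fun a b => by group
    have hy1 : y⁻¹ ≠ y := fun e => hy2 (by nth_rewrite 1 [← e]; exact inv_mul_cancel y)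
    let φ : ↥cd.f.ker →* Z₂ := MonoidHom.mk'
      (fun g => if (g : Q) * y * (g : Q)⁻¹ = y then 1 else Multiplicative.ofAdd 1) fun a b => by
        rw [Subgroup.coe_mul, hmul]
        have hinv : ∀ g : Q, g * y⁻¹ * g⁻¹ = (g * y * g⁻¹)⁻¹ := fun g => by group
        rcases hcase (b : Q) with e | e <;> rcases hcase (a : Q) with e' | e' <;>
          simp [e, e', hinv, hy1, z₂_mul_self]
    have hφ := cd.no_two φ
    have hyk : ∀ g ∈ cd.f.ker, g * y * g⁻¹ = y := fun g hg => by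
      have := DFunLike.congr_fun hφ ⟨g, hg⟩
      simp only [φ, MonoidHom.mk'_apply, MonoidHom.one_apply] at this
      by_contra hne
      rw [if_neg hne] at this
      exact z₂_one_ne this
    refine hyZ (cd.center_P0 ⟨hMP hy, hMk hy⟩ fun w hw => ?_)
    exact (mul_inv_eq_iff_eq_mul.1 (hyk w hw.2)).symm

/-- A `u`-invariant normal subgroup of `X1` is normal. -/
theorem fix_all {N : Subgroup (Q ⧸ cd.Z)} (hker : ∀ g ∈ cd.f.ker, ∀ x ∈ N, cd.pr g * x * (cd.pr g)⁻¹ ∈ N)
    (hu : ∀ x ∈ N, cd.pr (cd.D.E (1, 0) false false) * x * (cd.pr (cd.D.E (1, 0) false false))⁻¹ ∈ N) :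
    N.Normal := by
  refine ⟨fun x hx y => ?_⟩
  obtain ⟨g, rfl⟩ := cd.pr_surj y
  rcases z₂_cases (cd.f g) with hg | hg
  · exact hker g hg x hx
  · set u := cd.D.E (1, 0) false false
    have hfu : cd.f u = Multiplicative.ofAdd 1 := by rw [cd.f_E]; simp
    have hk : u⁻¹ * g ∈ cd.f.ker := by
      rw [MonoidHom.mem_ker, map_mul, map_inv, hfu, hg, inv_mul_cancel]
    have h1 := hu _ (hker _ hk x hx)
    rw [map_mul, map_inv] at h1
    convert h1 using 1
    group

/-- `[u, w] = u²`. -/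
theorem e_mem_commutator : cd.D.e ∈ commutator Q := by
  have h4 := cd.D.four_dvd
  have hc : cd.D.E (1, 0) false false * cd.D.E 0 true false * (cd.D.E (1, 0) false false)⁻¹ *
      (cd.D.E 0 true false)⁻¹ = cd.D.E ((1, 0) + (1, 0)) false false := by
    rw [Gens.E_conj_T, mul_inv_eq_iff_eq_mul, Gens.E_mul]
    simp [act]
  have hu : cd.D.E ((1, 0) + (1, 0)) false false ∈ commutator Q := by
    rw [← hc]
    exact commutator_mem_commutator (mem_top _) (mem_top _)
  have he : cd.D.e = cd.D.E ((1, 0) + (1, 0)) false false ^ (n / 4) := by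
    rw [Gens.E_pow, Gens.e]
    congr 1
    rw [nsmul_add, ← two_nsmul, smul_smul, show 2 * (n / 4) = n / 2 by omega]
    simp
  rw [he]
  exact pow_mem hu _

theorem P0_le_commutator : cd.P0 ≤ commutator Q := cd.even_le_of_e inferInstance cd.e_mem_commutator

theorem commutator_le_ker : commutator Q ≤ cd.f.ker := Abelianization.commutator_subset_ker cd.f

end CentData

end Cfsg.Agent.G2TypeFusion
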