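import Cfsg.Agent.Lib.G2TypeFusion.Even
import Cfsg.Agent.Lib.Involution.Basic
import Cfsg.Prelude.Def_TwoFusion

/-!
# The even part modulo `z` is a product of two dihedral groups

* `CentData.A₁, R₁, A₂, R₂` : the generators of the two quaternion groups.
* `CentData.exists_split` : the decomposition of the image of the even part.
-/

set_option autoImplicit false

namespace Cfsg.Agent.G2TypeFusion

open Cfsg Subgroup

/-- The order of an internal direct product. -/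
theorem card_internal {G : Type*} [Group G] {A B S : Subgroup G} (h : IsInternalDirectProduct A B S) :
    Nat.card S = Nat.card A * Nat.card B := by
  obtain ⟨hA, hB, hc, hd, hs⟩ := h
  rw [← Nat.card_prod]
  refine (Nat.card_congr (Equiv.ofBijective
    (fun p : A × B => (⟨(p.1 : G) * p.2, mul_mem (hA p.1.2) (hB p.2.2)⟩ : S)) ⟨?_, ?_⟩)).symm
  · intro p q e
    have e' : (p.1 : G) * p.2 = q.1 * q.2 := congrArg Subtype.val e
    have h1 : (q.1 : G)⁻¹ * p.1 = q.2 * (p.2 : G)⁻¹ := by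
      rw [inv_mul_eq_iff_eq_mul, ← mul_assoc, ← e', mul_inv_cancel_right]
    have h2 : (q.1 : G)⁻¹ * p.1 ∈ A ⊓ B :=
      ⟨A.mul_mem (A.inv_mem q.1.2) p.1.2, h1 ▸ B.mul_mem q.2.2 (B.inv_mem p.2.2)⟩
    rw [hd, mem_bot] at h2
    have e1 : (q.1 : G) = p.1 := inv_mul_eq_one.1 h2
    rw [e1] at e'
    exact Prod.ext (Subtype.ext e1.symm) (Subtype.ext (mul_left_cancel e'))
  · rintro ⟨x, hx⟩
    have hn : B ≤ normalizer (A : Set G) := fun b hb => centralizer_le_normalizer _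
      (mem_centralizer_iff.2 fun a ha => hc a ha b hb)
    rw [← hs, ← SetLike.mem_coe, coe_mul_of_right_le_normalizer_left A B hn] at hx
    obtain ⟨a, ha, b, hb, rfl⟩ := hx
    exact ⟨(⟨a, ha⟩, ⟨b, hb⟩), rfl⟩

variable {Q : Type*} [Group Q] [Finite Q] {n : ℕ}

namespace CentData

variable (cd : CentData Q n)

/-- The quarter of `n`. -/
def k4 (_ : CentData Q n) : ZMod n := ((n / 4 : ℕ) : ZMod n)

/-- First rotation. -/
def A₁ : Q := cd.D.E (1, -1) false false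
/-- Second rotation. -/
def A₂ : Q := cd.D.E (1, 1) false false
/-- First reflection. -/
def R₁ : Q := cd.D.E (cd.k4, cd.k4) false true
/-- Second reflection. -/
def R₂ : Q := cd.D.E (cd.k4, -cd.k4) true true

theorem k4_two : cd.k4 + cd.k4 = ((n / 2 : ℕ) : ZMod n) := cd.D.h_half

include cd in
theorem neg_h : -((n / 2 : ℕ) : ZMod n) = ((n / 2 : ℕ) : ZMod n) := neg_eq_of_add_eq_zero_left cd.D.h_two

theorem A₁_mem : cd.A₁ ∈ cd.P0 := cd.E_mem_P0 (by simp [CharTwo.add_self_eq_zero])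

theorem A₂_mem : cd.A₂ ∈ cd.P0 := cd.E_mem_P0 (by simp [CharTwo.add_self_eq_zero])

theorem R₁_mem : cd.R₁ ∈ cd.P0 := cd.E_mem_P0 (CharTwo.add_self_eq_zero _)

theorem R₂_mem : cd.R₂ ∈ cd.P0 := cd.E_mem_P0 (by simp [CharTwo.add_self_eq_zero])

theorem R₁_sq : cd.R₁ * cd.R₁ = cd.D.z := by
  rw [R₁, Gens.E_sq, Gens.z]
  simp [act, cd.k4_two]

theorem R₂_sq : cd.R₂ * cd.R₂ = cd.D.z := by
  rw [R₂, Gens.E_sq, Gens.z]
  simp only [act, if_true, neg_neg, Prod.mk_add_mk, ← neg_add, cd.k4_two, cd.neg_h]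

theorem R₁_conj : cd.R₁ * cd.A₁ * cd.R₁⁻¹ = cd.A₁⁻¹ := by
  rw [mul_inv_eq_iff_eq_mul, eq_inv_mul_iff_mul_eq, R₁, A₁, Gens.E_mul, Gens.E_mul]
  simp [act, add_comm]

theorem R₂_conj : cd.R₂ * cd.A₂ * cd.R₂⁻¹ = cd.A₂⁻¹ := by
  rw [mul_inv_eq_iff_eq_mul, eq_inv_mul_iff_mul_eq, R₂, A₂, Gens.E_mul, Gens.E_mul]
  simp [act, add_comm]

theorem A₁_A₂ : Commute cd.A₁ cd.A₂ := by
  show cd.A₁ * cd.A₂ = cd.A₂ * cd.A₁
  rw [A₁, A₂, Gens.E_mul, Gens.E_mul]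
  simp [act, add_comm]

theorem A₁_R₂ : Commute cd.A₁ cd.R₂ := by
  show cd.A₁ * cd.R₂ = cd.R₂ * cd.A₁
  rw [A₁, R₂, Gens.E_mul, Gens.E_mul]
  simp [act, add_comm]

theorem R₁_A₂ : Commute cd.R₁ cd.A₂ := by
  show cd.R₁ * cd.A₂ = cd.A₂ * cd.R₁
  rw [R₁, A₂, Gens.E_mul, Gens.E_mul]
  simp [act, add_comm]

theorem R₁_R₂ : Commute cd.R₁ cd.R₂ := by
  show cd.R₁ * cd.R₂ = cd.R₂ * cd.R₁
  rw [R₁, R₂, Gens.E_mul, Gens.E_mul]
  have h := cd.k4_two
  have h' := cd.neg_h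
  congr 1
  simp [act, Prod.ext_iff]
  linear_combination h - h' + h

theorem u_A₁ : Commute (cd.D.E (1, 0) false false) cd.A₁ := by
  show cd.D.E (1, 0) false false * cd.A₁ = cd.A₁ * cd.D.E (1, 0) false false
  rw [A₁, Gens.E_mul, Gens.E_mul]
  simp [act, add_comm]

theorem u_A₂ : Commute (cd.D.E (1, 0) false false) cd.A₂ := by
  show cd.D.E (1, 0) false false * cd.A₂ = cd.A₂ * cd.D.E (1, 0) false false
  rw [A₂, Gens.E_mul, Gens.E_mul]
  simp [act, add_comm]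

theorem u_R₁ : cd.D.E (1, 0) false false * cd.R₁ * (cd.D.E (1, 0) false false)⁻¹ = cd.A₁ * cd.R₁ := by
  rw [R₁, A₁, Gens.E_conj_T, Gens.E_mul]
  simp [act]
  ring

theorem u_R₂ : cd.D.E (1, 0) false false * cd.R₂ * (cd.D.E (1, 0) false false)⁻¹ = cd.A₂ * cd.R₂ := by
  rw [R₂, A₂, Gens.E_conj_T, Gens.E_mul]
  simp [act]
  ring

theorem A₁_pow (k : ℕ) : cd.A₁ ^ k = cd.D.E ((k : ZMod n), -(k : ZMod n)) false false := by
  rw [A₁, Gens.E_pow]; simp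

theorem A₂_pow (k : ℕ) : cd.A₂ ^ k = cd.D.E ((k : ZMod n), (k : ZMod n)) false false := by
  rw [A₂, Gens.E_pow]; simp

theorem E_z (p : ZMod n × ZMod n) (i j : Bool) :
    cd.D.E p i j * cd.D.z = cd.D.E (p + (((n / 2 : ℕ) : ZMod n), ((n / 2 : ℕ) : ZMod n))) i j := by
  rw [Gens.z, Gens.E_mul]
  cases i <;> cases j <;> simp [act, cd.neg_h]

theorem pr_E_inj {p q : ZMod n × ZMod n} {i j k l : Bool} (h : cd.pr (cd.D.E p i j) = cd.pr (cd.D.E q k l)) :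
    (p = q ∨ p + (((n / 2 : ℕ) : ZMod n), ((n / 2 : ℕ) : ZMod n)) = q) ∧ i = k ∧ j = l := by
  obtain ⟨c, hc, e⟩ := cd.pr_eq.1 h
  rcases cd.mem_Z.1 hc with rfl | rfl
  · rw [mul_one] at e
    exact ⟨Or.inl (cd.D.E_inj e).1, (cd.D.E_inj e).2⟩
  · rw [E_z] at e
    exact ⟨Or.inr (cd.D.E_inj e).1, (cd.D.E_inj e).2⟩

theorem pr_torus_eq_one {c : ZMod n} (hc : c + c = 0) : cd.pr (cd.D.E (c, -c) false false) = 1 := by
  rw [pr_eq_one, mem_Z]
  rcases cd.D.two_torsion hc with rfl | rfl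
  · left; simp [Gens.E_eq_one]
  · right; rw [cd.neg_h]; rfl

/-- The first dihedral group. -/
def D₁ : Subgroup (Q ⧸ cd.Z) := closure {cd.pr cd.R₁, cd.pr (cd.R₁ * cd.A₁)}
/-- The second dihedral group. -/
def D₂ : Subgroup (Q ⧸ cd.Z) := closure {cd.pr cd.R₂, cd.pr (cd.R₂ * cd.A₂)}

theorem pr_R_mul {R A : Q} (hR : R * R = cd.D.z) : cd.pr R * cd.pr (R * A) = cd.pr A := by
  rw [← map_mul, ← mul_assoc, hR, map_mul, cd.pr_z, one_mul]

theorem invol_R {R : Q} (hR : R * R = cd.D.z) (hne : R ∉ cd.Z) : orderOf (cd.pr R) = 2 :=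
  Involution.orderOf_of_sq (by rw [← map_mul, hR, cd.pr_z]) fun e => hne (cd.pr_eq_one.1 e)

theorem invol_RA {R A : Q} (hR : R * R = cd.D.z) (hc : R * A * R⁻¹ = A⁻¹) (hne : R * A ∉ cd.Z) :
    orderOf (cd.pr (R * A)) = 2 := by
  refine Involution.orderOf_of_sq ?_ fun e => hne (cd.pr_eq_one.1 e)
  rw [← map_mul, show R * A * (R * A) = (R * A * R⁻¹) * (R * R) * A by group, hc, hR, ← (cd.central A⁻¹).eq.symm,
    mul_assoc, inv_mul_cancel, mul_one, cd.pr_z]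

theorem R₁_not : cd.R₁ ∉ cd.Z ∧ cd.R₁ * cd.A₁ ∉ cd.Z := by
  refine ⟨fun h => ?_, fun h => ?_⟩ <;> rcases cd.mem_Z.1 h with e | e
  · simpa using (cd.D.E_eq_one.1 e).2.2
  · exact cd.D.E_ne_z (Or.inr rfl) e
  · rw [R₁, A₁, Gens.E_mul] at e
    simpa using (cd.D.E_eq_one.1 e).2.2
  · rw [R₁, A₁, Gens.E_mul] at e
    exact cd.D.E_ne_z (Or.inr rfl) e

theorem R₂_not : cd.R₂ ∉ cd.Z ∧ cd.R₂ * cd.A₂ ∉ cd.Z := by
  refine ⟨fun h => ?_, fun h => ?_⟩ <;> rcases cd.mem_Z.1 h with e | e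
  · simpa using (cd.D.E_eq_one.1 e).2.2
  · exact cd.D.E_ne_z (Or.inr rfl) e
  · rw [R₂, A₂, Gens.E_mul] at e
    simpa using (cd.D.E_eq_one.1 e).2.2
  · rw [R₂, A₂, Gens.E_mul] at e
    exact cd.D.E_ne_z (Or.inr rfl) e

theorem mem_D_cases {R A : Q} (hR : orderOf (cd.pr R) = 2) (hRA : orderOf (cd.pr (R * A)) = 2)
    (hsq : R * R = cd.D.z) {x : Q ⧸ cd.Z} (hx : x ∈ closure {cd.pr R, cd.pr (R * A)}) :
    ∃ k : ℕ, x = cd.pr (A ^ k) ∨ x = cd.pr (R * A ^ k) := by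
  obtain ⟨k, hk⟩ := (Involution.mem_closure_pair_iff hR hRA).1 hx
  rw [cd.pr_R_mul hsq] at hk
  obtain ⟨j, hj⟩ := mem_powers_iff_mem_zpowers.2 (zpow_mem (mem_zpowers (cd.pr A)) k)
  change cd.pr A ^ j = cd.pr A ^ k at hj
  refine ⟨j, hk.imp (fun e => ?_) fun e => ?_⟩
  · rw [e, map_pow, hj]
  · rw [e, map_mul, map_pow, hj]

theorem mem_D₁ {x : Q ⧸ cd.Z} (hx : x ∈ cd.D₁) :
    ∃ c : ZMod n, x = cd.pr (cd.D.E (c, -c) false false) ∨
      x = cd.pr (cd.D.E ((cd.k4, cd.k4) + act false true (c, -c)) false true) := by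
  obtain ⟨k, hk⟩ := cd.mem_D_cases (cd.invol_R cd.R₁_sq cd.R₁_not.1)
    (cd.invol_RA cd.R₁_sq cd.R₁_conj cd.R₁_not.2) cd.R₁_sq hx
  refine ⟨k, hk.imp (fun e => ?_) fun e => ?_⟩ <;> rw [e, A₁_pow]
  rw [R₁, Gens.E_mul]
  rfl

theorem mem_D₂ {x : Q ⧸ cd.Z} (hx : x ∈ cd.D₂) :
    ∃ c : ZMod n, x = cd.pr (cd.D.E (c, c) false false) ∨
      x = cd.pr (cd.D.E ((cd.k4, -cd.k4) + act true true (c, c)) true true) := by
  obtain ⟨k, hk⟩ := cd.mem_D_cases (cd.invol_R cd.R₂_sq cd.R₂_not.1)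
    (cd.invol_RA cd.R₂_sq cd.R₂_conj cd.R₂_not.2) cd.R₂_sq hx
  refine ⟨k, hk.imp (fun e => ?_) fun e => ?_⟩ <;> rw [e, A₂_pow]
  rw [R₂, Gens.E_mul]
  rfl

theorem A_mem_D₁ : cd.pr cd.A₁ ∈ cd.D₁ := by
  rw [← cd.pr_R_mul (A := cd.A₁) cd.R₁_sq]
  exact mul_mem (subset_closure (Or.inl rfl)) (subset_closure (Or.inr rfl))

theorem A_mem_D₂ : cd.pr cd.A₂ ∈ cd.D₂ := by
  rw [← cd.pr_R_mul (A := cd.A₂) cd.R₂_sq]
  exact mul_mem (subset_closure (Or.inl rfl)) (subset_closure (Or.inr rfl))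

/-- The decomposition. -/
theorem exists_split :
    IsInternalDirectProduct cd.D₁ cd.D₂ (cd.P0.map cd.pr) ∧ orderOf (cd.pr cd.A₁) = n / 2 ∧
      orderOf (cd.pr cd.A₂) = n / 2 := by
  have hn := cd.D.four_le
  have h4 := cd.D.four_dvd
  have := cd.D.ne_zero
  refine ⟨⟨?_, ?_, ?_, ?_, ?_⟩, ?_, ?_⟩
  · refine (closure_le _).2 ?_
    rintro x (rfl | rfl)
    · exact mem_map_of_mem _ cd.R₁_mem
    · exact mem_map_of_mem _ (mul_mem cd.R₁_mem cd.A₁_mem)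
  · refine (closure_le _).2 ?_
    rintro x (rfl | rfl)
    · exact mem_map_of_mem _ cd.R₂_mem
    · exact mem_map_of_mem _ (mul_mem cd.R₂_mem cd.A₂_mem)
  · have h : cd.D₁ ≤ centralizer (cd.D₂ : Set (Q ⧸ cd.Z)) := by
      rw [D₂, centralizer_closure, D₁, closure_le]
      rintro x hx
      refine mem_centralizer_iff.2 fun y hy => ?_
      rcases hx with rfl | rfl <;> rcases hy with rfl | rfl
      · exact (cd.R₁_R₂.map cd.pr).eq.symm
      · exact ((cd.R₁_R₂.mul_right cd.R₁_A₂).map cd.pr).eq.symm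
      · exact ((cd.R₁_R₂.mul_left cd.A₁_R₂).map cd.pr).eq.symm
      · exact (((cd.R₁_R₂.mul_right cd.R₁_A₂).mul_left (cd.A₁_R₂.mul_right cd.A₁_A₂)).map cd.pr).eq.symm
    exact fun a ha b hb => (mem_centralizer_iff.1 (h ha) b hb).symm
  · refine le_bot_iff.1 fun x hx => ?_
    obtain ⟨c, hc⟩ := cd.mem_D₁ hx.1
    obtain ⟨d, hd⟩ := cd.mem_D₂ hx.2
    rcases hc with hc | hc <;> rcases hd with hd | hd <;> obtain ⟨hp, hi, hj⟩ := cd.pr_E_inj (hc.symm.trans hd) <;>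
      first | exact Bool.noConfusion hi | exact Bool.noConfusion hj | skip
    rw [mem_bot, hc]
    refine cd.pr_torus_eq_one ?_
    rcases hp with e | e <;> simp only [Prod.mk_add_mk, Prod.mk.injEq] at e <;> linear_combination e.1 - e.2
  · refine le_antisymm (sup_le ((closure_le _).2 ?_) ((closure_le _).2 ?_)) ?_
    · rintro x (rfl | rfl)
      · exact mem_map_of_mem _ cd.R₁_mem
      · exact mem_map_of_mem _ (mul_mem cd.R₁_mem cd.A₁_mem)
    · rintro x (rfl | rfl)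
      · exact mem_map_of_mem _ cd.R₂_mem
      · exact mem_map_of_mem _ (mul_mem cd.R₂_mem cd.A₂_mem)
    have hR₁ : cd.R₁ ∈ (cd.D₁ ⊔ cd.D₂).comap cd.pr :=
      show cd.pr cd.R₁ ∈ cd.D₁ ⊔ cd.D₂ from (le_sup_left : cd.D₁ ≤ _) (subset_closure (Or.inl rfl))
    have hR₂ : cd.R₂ ∈ (cd.D₁ ⊔ cd.D₂).comap cd.pr :=
      show cd.pr cd.R₂ ∈ cd.D₁ ⊔ cd.D₂ from (le_sup_right : cd.D₂ ≤ _) (subset_closure (Or.inl rfl))
    have hA₁ : cd.A₁ ∈ (cd.D₁ ⊔ cd.D₂).comap cd.pr := (le_sup_left : cd.D₁ ≤ cd.D₁ ⊔ cd.D₂) cd.A_mem_D₁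
    have hA₂ : cd.A₂ ∈ (cd.D₁ ⊔ cd.D₂).comap cd.pr := (le_sup_right : cd.D₂ ≤ cd.D₁ ⊔ cd.D₂) cd.A_mem_D₂
    rw [map_le_iff_le_comap]
    set T := (cd.D₁ ⊔ cd.D₂).comap cd.pr
    have hT : ∀ p : ZMod n × ZMod n, cd.D.par p.1 + cd.D.par p.2 = 0 → cd.D.E p false false ∈ T := by
      rintro ⟨a, b⟩ hab
      obtain ⟨l, hl⟩ := cd.D.exists_half (x := a + b) (by rw [map_add]; exact hab)
      obtain ⟨k, rfl⟩ : ∃ k, a = k + l := ⟨a - l, by ring⟩
      have hmem := mul_mem (pow_mem hA₁ k.val) (pow_mem hA₂ l.val)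
      rw [A₁_pow, A₂_pow, Gens.E_mul, ZMod.natCast_zmod_val, ZMod.natCast_zmod_val] at hmem
      have hb : b = -k + l := by linear_combination -hl
      subst hb
      simpa [act] using hmem
    have key : ∀ (p : ZMod n × ZMod n) (i j : Bool) (c : ZMod n × ZMod n),
        cd.D.par p.1 + cd.D.par p.2 = 0 → cd.D.par c.1 + cd.D.par c.2 = 0 → cd.D.E c i j ∈ T →
          cd.D.E p i j ∈ T := by
      intro p i j c hp hc hmem
      have h1 := mul_mem (hT (p - c) (by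
        rw [Prod.fst_sub, Prod.snd_sub, map_sub, map_sub]; linear_combination hp - hc)) hmem
      rw [Gens.E_mul] at h1
      simpa [act] using h1
    intro x hx
    obtain ⟨p, i, j, hp, rfl⟩ := cd.P0_cases hx
    cases i <;> cases j
    · exact hT p hp
    · exact key p false true _ hp (CharTwo.add_self_eq_zero _) hR₁
    · refine key p true false ((cd.k4, cd.k4) + act false true (cd.k4, -cd.k4)) hp ?_ ?_
      · simp [act, map_add, CharTwo.add_self_eq_zero]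
      · have h1 := mul_mem hR₁ hR₂
        rwa [R₁, R₂, Gens.E_mul] at h1
    · exact key p true true _ hp (by simp [CharTwo.add_self_eq_zero]) hR₂
  · rw [orderOf_eq_iff (by omega)]
    refine ⟨?_, fun k hk hk0 e => ?_⟩
    · rw [← map_pow, A₁_pow]
      exact cd.pr_torus_eq_one cd.D.h_two
    · rw [← map_pow, A₁_pow, ← map_one cd.pr, ← cd.D.E_one] at e
      obtain ⟨hp, -, -⟩ := cd.pr_E_inj e
      have hkk : ((k + k : ℕ) : ZMod n) = 0 := by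
        push_cast
        rcases hp with e | e <;> simp only [Prod.mk_add_mk, Prod.mk_eq_zero] at e <;> linear_combination e.1 - e.2
      rw [ZMod.natCast_eq_zero_iff] at hkk
      exact absurd (Nat.le_of_dvd (by omega) hkk) (by omega)
  · rw [orderOf_eq_iff (by omega)]
    refine ⟨?_, fun k hk hk0 e => ?_⟩
    · rw [← map_pow, A₂_pow]
      exact cd.pr_z
    · rw [← map_pow, A₂_pow, ← map_one cd.pr, ← cd.D.E_one] at e
      obtain ⟨hp, -, -⟩ := cd.pr_E_inj e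
      have hkk : ((k + k : ℕ) : ZMod n) = 0 := by
        push_cast
        have h2 := cd.D.h_two
        rcases hp with e | e <;> simp only [Prod.mk_add_mk, Prod.mk_eq_zero] at e
        · linear_combination e.1 + e.1
        · linear_combination e.1 + e.1 - h2
      rw [ZMod.natCast_eq_zero_iff] at hkk
      exact absurd (Nat.le_of_dvd (by omega) hkk) (by omega)

/-- The dihedral isomorphisms. -/
theorem dihedral_D :
    Nonempty (↥cd.D₁ ≃* DihedralGroup (n / 2)) ∧ Nonempty (↥cd.D₂ ≃* DihedralGroup (n / 2)) := by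
  have hn := cd.D.four_le
  obtain ⟨-, h1, h2⟩ := cd.exists_split
  constructor
  · have hne : cd.pr cd.R₁ ≠ cd.pr (cd.R₁ * cd.A₁) := fun e => by
      rw [map_mul, left_eq_mul] at e
      rw [e, orderOf_one] at h1
      omega
    have e := Involution.dihedralEquiv (cd.invol_R cd.R₁_sq cd.R₁_not.1)
      (cd.invol_RA cd.R₁_sq cd.R₁_conj cd.R₁_not.2) hne
    rw [cd.pr_R_mul cd.R₁_sq, h1] at e
    exact ⟨e.symm⟩
  · have hne : cd.pr cd.R₂ ≠ cd.pr (cd.R₂ * cd.A₂) := fun e => by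
      rw [map_mul, left_eq_mul] at e
      rw [e, orderOf_one] at h2
      omega
    have e := Involution.dihedralEquiv (cd.invol_R cd.R₂_sq cd.R₂_not.1)
      (cd.invol_RA cd.R₂_sq cd.R₂_conj cd.R₂_not.2) hne
    rw [cd.pr_R_mul cd.R₂_sq, h2] at e
    exact ⟨e.symm⟩

end CentData

end Cfsg.Agent.G2TypeFusion
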