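import Cfsg.Agent.Lib.G2TypeFusion.Side
import Cfsg.Agent.Lib.G2TypeFusion.Split
import Cfsg.Agent.Lib.ClosedPair.FourFix
import Cfsg.Agent.Lib.QGroup.CoreFree
import Cfsg.Agent.Lib.OddOrderTheorem.Basic
import Cfsg.Agent.Lib.PGroup.CyclicMaximal

/-!
# A normal four-group modulo `z` gives a factor `SL₂(3)`

* `CentData.Four` : the hypotheses.
* `CentData.Four.side` : `C_{ker f}(K')` is such a factor.
-/

set_option autoImplicit false

namespace Cfsg.Agent.G2TypeFusion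

open Cfsg Subgroup
open scoped commutatorElement

variable {Q : Type*} [Group Q] [Finite Q] {n : ℕ}

namespace CentData

variable (cd : CentData Q n)

/-- A normal four-group `D` modulo `z` and its partner `N`. -/
structure Four (A R : Q) (D N : Subgroup (Q ⧸ cd.Z)) : Prop where
  A_sq : A * A = cd.D.z
  R_sq : R * R = cd.D.z
  R_conj : R * A * R⁻¹ = A⁻¹
  A_mem : A ∈ cd.P0
  R_mem : R ∈ cd.P0
  D_eq : D = closure {cd.pr R, cd.pr (R * A)}
  four : ClosedPair.IsFour D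
  normalD : D.Normal
  normalN : N.Normal
  le_X1 : N ≤ cd.X1
  comm : ∀ a ∈ D.comap cd.pr, ∀ b ∈ N.comap cd.pr, Commute a b
  cover : cd.P0.map cd.pr ≤ D ⊔ N
  u_A : Commute (cd.D.E (1, 0) false false) A
  u_R : cd.D.E (1, 0) false false * R * (cd.D.E (1, 0) false false)⁻¹ = A * R
  twist : ∃ x ∈ cd.f.ker, cd.pr x * cd.pr A * (cd.pr x)⁻¹ = cd.pr R ∧
    ∃ l ∈ N.comap cd.pr, l ∈ commutator Q ∧
      ∀ b ∈ N, Commute (cd.pr (⁅cd.D.E (1, 0) false false, x⁆ * l⁻¹)) b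

namespace Four

variable {cd}
variable {A R : Q} {D N : Subgroup (Q ⧸ cd.Z)} (H : cd.Four A R D N)
include H

theorem prR_mem : cd.pr R ∈ D := H.D_eq ▸ subset_closure (Or.inl rfl)

theorem prA_mem : cd.pr A ∈ D := by
  rw [← cd.pr_R_mul (A := A) H.R_sq]
  exact D.mul_mem H.prR_mem (H.D_eq ▸ subset_closure (Or.inr rfl))

theorem A_mem_K : A ∈ D.comap cd.pr := H.prA_mem

theorem R_mem_K : R ∈ D.comap cd.pr := H.prR_mem

theorem z_mem_K : cd.D.z ∈ D.comap cd.pr := by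
  show cd.pr cd.D.z ∈ D
  rw [cd.pr_z]; exact D.one_mem

theorem D_le : D ≤ cd.P0.map cd.pr := by
  rw [H.D_eq, closure_le]
  rintro x (rfl | rfl)
  · exact mem_map_of_mem _ H.R_mem
  · exact mem_map_of_mem _ (mul_mem H.R_mem H.A_mem)

theorem K_le_P0 : D.comap cd.pr ≤ cd.P0 := by
  intro x hx
  obtain ⟨y, hy, e⟩ := H.D_le hx
  obtain ⟨c, hc, rfl⟩ := cd.pr_eq.1 e
  exact cd.P0.mul_mem hy (cd.Z_le_P0 hc)

theorem cover_Q : cd.P0 ≤ D.comap cd.pr ⊔ N.comap cd.pr := by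
  intro x hx
  have h : cd.pr x ∈ (D.comap cd.pr ⊔ N.comap cd.pr).map cd.pr := by
    rw [Subgroup.map_sup, map_comap_eq_self_of_surjective cd.pr_surj, map_comap_eq_self_of_surjective cd.pr_surj]
    exact H.cover (mem_map_of_mem _ hx)
  obtain ⟨y, hy, e⟩ := h
  obtain ⟨c, hc, rfl⟩ := cd.pr_eq.1 e
  refine mul_mem hy ((le_sup_left : D.comap cd.pr ≤ D.comap cd.pr ⊔ N.comap cd.pr) ?_)
  show cd.pr c ∈ D
  rw [cd.pr_eq_one.2 hc]; exact D.one_mem

/-- The common centraliser is `⟨z⟩`. -/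
theorem common_le_Z :
    cd.f.ker ⊓ centralizer (D.comap cd.pr : Set Q) ⊓ centralizer (N.comap cd.pr : Set Q) ≤ cd.Z :=
  cd.pair_le_Z (H.normalD.comap _) (H.normalN.comap _) H.cover_Q

/-- The Sylow subgroup centralises the four-group. -/
theorem P0bar_cent {h : Q ⧸ cd.Z} (hh : h ∈ cd.P0.map cd.pr) : ∀ a ∈ D, Commute h a := by
  have hle : D ⊔ N ≤ centralizer (D : Set (Q ⧸ cd.Z)) := by
    refine sup_le (fun d hd => mem_centralizer_iff.2 fun a ha => H.four.comm a ha d hd) fun b hb => ?_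
    refine mem_centralizer_iff.2 fun a ha => ?_
    obtain ⟨x, rfl⟩ := cd.pr_surj a
    obtain ⟨y, rfl⟩ := cd.pr_surj b
    exact ((H.comm x ha y hb).map cd.pr).eq
  exact fun a ha => (mem_centralizer_iff.1 (hle (H.cover hh)) a ha).symm

/-- An element of the kernel part whose square centralises `D` centralises `D`. -/
theorem sq_cent {h : Q ⧸ cd.Z} (hh : h ∈ cd.X1) (h2 : ∀ a ∈ D, Commute (h * h) a) : ∀ a ∈ D, Commute h a := by
  haveI := Fact.mk Nat.prime_two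
  haveI := H.normalD
  set C := (centralizer (D : Set (Q ⧸ cd.Z))).subgroupOf cd.X1
  obtain ⟨T, hT⟩ := QGroup.exists_sylow_subgroupOf (cd.P.mapSurjective cd.pr_surj) cd.X1
  have hTC : (T : Subgroup ↥cd.X1) ≤ C := by
    intro w hw
    rw [hT, mem_subgroupOf] at hw
    obtain ⟨y, hy, e⟩ := hw
    have hyk : y ∈ cd.f.ker := cd.comap_X1 ▸ (show y ∈ cd.X1.comap cd.pr by rw [mem_comap, e]; exact w.2)
    exact mem_centralizer_iff.2 fun a ha => (H.P0bar_cent ⟨y, ⟨hy, hyk⟩, e⟩ a ha).eq.symm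
  obtain ⟨k, hk⟩ : Odd C.index := by
    rw [← Nat.not_even_iff_odd, even_iff_two_dvd]
    exact fun e => T.not_dvd_index (e.trans (index_dvd_of_le hTC))
  haveI : C.Normal := Subgroup.Normal.subgroupOf inferInstance _
  have hp := pow_index_mem C (⟨h, hh⟩ : ↥cd.X1)
  rw [hk] at hp
  intro a ha
  have e1 : Commute (h ^ (2 * k + 1)) a := (mem_centralizer_iff.1 hp a ha).symm
  have e2 : Commute ((h * h) ^ k) a := (h2 a ha).pow_left k
  rw [pow_succ', pow_mul, pow_two] at e1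
  simpa using e1.mul_left e2.inv_left

/-- An element of the kernel part fixing a nontrivial element of `D` centralises `D`. -/
theorem fix_cent {h v : Q ⧸ cd.Z} (hh : h ∈ cd.X1) (hv : v ∈ D) (hv1 : v ≠ 1) (hc : h * v * h⁻¹ = v) :
    ∀ a ∈ D, Commute h a := by
  refine H.sq_cent hh fun a ha => ?_
  by_cases ha1 : a = 1
  · rw [ha1]; exact Commute.one_right _
  by_cases hav : a = v
  · subst hav
    have e : Commute h a := mul_inv_eq_iff_eq_mul.1 hc
    exact e.mul_left e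
  have hb : h * a * h⁻¹ ∈ D := H.normalD.conj_mem a ha h
  rcases H.four.eq_cases hv ha hv1 ha1 (Ne.symm hav) hb with e | e | e | e
  · exact absurd (conj_eq_one_iff.1 e) ha1
  · exact absurd (mul_left_cancel (mul_right_cancel (e.trans hc.symm))) hav
  · have e' : Commute h a := mul_inv_eq_iff_eq_mul.1 e
    exact e'.mul_left e'
  · refine mul_inv_eq_iff_eq_mul.1 ?_
    rw [show h * h * a * (h * h)⁻¹ = h * (h * a * h⁻¹) * h⁻¹ by group, e,
      show h * (v * a) * h⁻¹ = (h * v * h⁻¹) * (h * a * h⁻¹) by group, hc, e, ← mul_assoc, H.four.sq v hv, one_mul]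

/-- Adjusting an element acting trivially on `D` by an element of the four-group's preimage. -/
theorem adjust {r : Q} (h : ∀ a ∈ D, Commute (cd.pr r) a) :
    ∃ k ∈ D.comap cd.pr, ∀ a ∈ D.comap cd.pr, Commute (r * k) a := by
  have hzc := cd.central
  have hRA : R * A * R⁻¹ = A * cd.D.z := by
    rw [H.R_conj, inv_eq_iff_mul_eq_one, ← mul_assoc, H.A_sq, cd.D.z_sq]
  have hAR : A * R * A⁻¹ = R * cd.D.z := by
    have e1 : R * A = A * cd.D.z * R := mul_inv_eq_iff_eq_mul.1 hRA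
    rw [mul_inv_eq_iff_eq_mul, mul_assoc R, ← (hzc A).eq, ← mul_assoc, e1, mul_assoc A, ← (hzc R).eq,
      mul_assoc A, mul_assoc, cd.D.z_sq, mul_one]
  have hmod : ∀ y, cd.pr y ∈ D → r * y * r⁻¹ = y ∨ r * y * r⁻¹ = y * cd.D.z := fun y hy => by
    have e : cd.pr y = cd.pr (r * y * r⁻¹) := by
      rw [map_mul, map_mul, map_inv, (h _ hy).eq, mul_inv_cancel_right]
    obtain ⟨c, hc, e'⟩ := cd.pr_eq.1 e
    rcases cd.mem_Z.1 hc with rfl | rfl
    · exact Or.inl (by rw [← e', mul_one])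
    · exact Or.inr e'.symm
  have hz : ∀ y g : Q, g * (y * cd.D.z) * g⁻¹ = g * y * g⁻¹ * cd.D.z := fun y g => by
    rw [show g * (y * cd.D.z) * g⁻¹ = g * y * g⁻¹ * (g * cd.D.z * g⁻¹) by group, (hzc g).eq, mul_inv_cancel_right]
  have fin : ∀ k ∈ D.comap cd.pr, r * k * A * (r * k)⁻¹ = A → r * k * R * (r * k)⁻¹ = R →
      ∃ k ∈ D.comap cd.pr, ∀ a ∈ D.comap cd.pr, Commute (r * k) a := by
    intro k hk e1 e2
    refine ⟨k, hk, fun a ha => ?_⟩
    have hle : D ≤ (centralizer ({r * k} : Set Q)).map cd.pr := by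
      rw [H.D_eq, closure_le]
      rintro x (rfl | rfl)
      · exact mem_map_of_mem _ (mem_centralizer_singleton_iff.2 (mul_inv_eq_iff_eq_mul.1 e2).symm)
      · exact mem_map_of_mem _ (mul_mem (mem_centralizer_singleton_iff.2 (mul_inv_eq_iff_eq_mul.1 e2).symm)
          (mem_centralizer_singleton_iff.2 (mul_inv_eq_iff_eq_mul.1 e1).symm))
    obtain ⟨y, hy, e⟩ := hle ha
    obtain ⟨c, hc, rfl⟩ := cd.pr_eq.1 e
    refine (show Commute (r * k) y from (mem_centralizer_singleton_iff.1 hy).symm).mul_right ?_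
    exact mem_center_iff.1 (cd.Z_le_center hc) _
  have cjm : ∀ g y : Q, r * g * y * (r * g)⁻¹ = r * (g * y * g⁻¹) * r⁻¹ := fun g y => by group
  have hzz : ∀ y : Q, y * cd.D.z * cd.D.z = y := fun y => by rw [mul_assoc, cd.D.z_sq, mul_one]
  have hAA : A * A * A⁻¹ = A := mul_inv_cancel_right _ _
  have hRR : R * R * R⁻¹ = R := mul_inv_cancel_right _ _
  rcases hmod A H.prA_mem with eA | eA <;> rcases hmod R H.prR_mem with eR | eR
  · exact fin 1 (one_mem _) (by rw [mul_one]; exact eA) (by rw [mul_one]; exact eR)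
  · refine fin A H.A_mem_K ?_ ?_
    · rw [cjm, hAA, eA]
    · rw [cjm, hAR, hz, eR, hzz]
  · refine fin R H.R_mem_K ?_ ?_
    · rw [cjm, hRA, hz, eA, hzz]
    · rw [cjm, hRR, eR]
  · refine fin (R * A) (mul_mem H.R_mem_K H.A_mem_K) ?_ ?_
    · rw [cjm, show R * A * A * (R * A)⁻¹ = R * A * R⁻¹ by group, hRA, hz, eA, hzz]
    · rw [cjm, show R * A * R * (R * A)⁻¹ = R * (A * R * A⁻¹) * R⁻¹ by group, hAR, hz, hRR, hz, eR, hzz]

/-- The twisting element. -/
theorem exists_tau : ∃ τ : Q, τ ∈ commutator Q ∧ τ ∈ centralizer (N.comap cd.pr : Set Q) ∧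
    (∀ v ∈ D, v ≠ 1 → cd.pr τ * v * (cd.pr τ)⁻¹ ≠ v) := by
  obtain ⟨x, hx, hxA, l, hl, hlQ, hlc⟩ := H.twist
  set u := cd.D.E (1, 0) false false
  set c := ⁅u, x⁆
  have hcQ : c ∈ commutator Q := commutator_mem_commutator (mem_top _) (mem_top _)
  have ht0 : c * l⁻¹ ∈ commutator Q := mul_mem hcQ (inv_mem hlQ)
  set t := c * l⁻¹
  refine ⟨t * t, mul_mem ht0 ht0, mem_centralizer_iff.2 fun k hk => ?_, fun v hv hv1 hfix => ?_⟩
  · have e : cd.pr k = cd.pr (t * k * t⁻¹) := by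
      rw [map_mul, map_mul, map_inv, (hlc _ hk).eq, mul_inv_cancel_right]
    obtain ⟨c0, hc0, e'⟩ := cd.pr_eq.1 e
    have e2 : t * c0 * t⁻¹ = c0 := by
      rw [(mem_center_iff.1 (cd.Z_le_center hc0) t), mul_inv_cancel_right]
    symm
    refine mul_inv_eq_iff_eq_mul.1 ?_
    rw [show t * t * k * (t * t)⁻¹ = t * (t * k * t⁻¹) * t⁻¹ by group, ← e',
      show t * (k * c0) * t⁻¹ = (t * k * t⁻¹) * (t * c0 * t⁻¹) by group, e2, ← e', mul_assoc, cd.Z_sq hc0, mul_one]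
  · have htX : cd.pr t ∈ cd.X1 := mem_map_of_mem _ (cd.commutator_le_ker ht0)
    have htt : cd.pr (t * t) ∈ cd.X1 := mem_map_of_mem _ (cd.commutator_le_ker (mul_mem ht0 ht0))
    have hall := H.fix_cent htt hv hv1 hfix
    rw [map_mul] at hall
    have hct := H.sq_cent htX hall
    have hcl : ∀ a ∈ D, Commute (cd.pr l) a := fun a ha => by
      obtain ⟨y, rfl⟩ := cd.pr_surj a
      exact ((H.comm y ha l hl).map cd.pr).symm
    have hc : Commute (cd.pr c) (cd.pr R) := by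
      have e : cd.pr c = cd.pr t * cd.pr l := by rw [← map_mul, inv_mul_cancel_right]
      rw [e]
      exact (hct _ H.prR_mem).mul_left (hcl _ H.prR_mem)
    have huA : cd.pr u * cd.pr A * (cd.pr u)⁻¹ = cd.pr A := by
      rw [(H.u_A.map cd.pr).eq, mul_inv_cancel_right]
    have huA' : (cd.pr u)⁻¹ * cd.pr A * cd.pr u = cd.pr A := by
      rw [mul_assoc, ← (H.u_A.map cd.pr).eq, inv_mul_cancel_left]
    have huR : cd.pr u * cd.pr R * (cd.pr u)⁻¹ = cd.pr A * cd.pr R := by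
      rw [← map_inv, ← map_mul, ← map_mul, H.u_R, map_mul]
    have hxR : (cd.pr x)⁻¹ * cd.pr R * cd.pr x = cd.pr A := by rw [← hxA]; group
    have e : cd.pr c * cd.pr R * (cd.pr c)⁻¹ = cd.pr A * cd.pr R := by
      rw [map_commutatorElement, commutatorElement_def,
        show cd.pr u * cd.pr x * (cd.pr u)⁻¹ * (cd.pr x)⁻¹ * cd.pr R *
          (cd.pr u * cd.pr x * (cd.pr u)⁻¹ * (cd.pr x)⁻¹)⁻¹ =
          cd.pr u * (cd.pr x * ((cd.pr u)⁻¹ * ((cd.pr x)⁻¹ * cd.pr R * cd.pr x) * cd.pr u) * (cd.pr x)⁻¹) *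
            (cd.pr u)⁻¹ by group, hxR, huA', hxA, huR]
    rw [hc.eq, mul_inv_cancel_right, right_eq_mul] at e
    have h2 := H.four.card
    have hz : A ∈ cd.Z := cd.pr_eq_one.1 e
    rcases cd.mem_Z.1 hz with e' | e'
    · have := H.A_sq
      rw [e', one_mul] at this
      exact cd.D.z_ne this.symm
    · have := H.A_sq
      rw [e', cd.D.z_sq] at this
      exact cd.D.z_ne this.symm

/-- The kernel part acts on `D` through the powers of the twisting element. -/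
theorem orbit {τ : Q} (hτ : τ ∈ cd.f.ker) (hnf : ∀ v ∈ D, v ≠ 1 → cd.pr τ * v * (cd.pr τ)⁻¹ ≠ v)
    {c : Q} (hc : c ∈ cd.f.ker) :
    ∃ j : ℕ, ∀ a ∈ D, Commute (cd.pr (c * (τ ^ j)⁻¹)) a := by
  have hA1 : cd.pr A ≠ 1 := fun e => by
    rcases cd.mem_Z.1 (cd.pr_eq_one.1 e) with e' | e'
    · have := H.A_sq; rw [e', one_mul] at this; exact cd.D.z_ne this.symm
    · have := H.A_sq; rw [e', cd.D.z_sq] at this; exact cd.D.z_ne this.symm
  set t := cd.pr τ
  set a := cd.pr A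
  have hb : t * a * t⁻¹ ∈ D := H.normalD.conj_mem a H.prA_mem t
  have hb1 : t * a * t⁻¹ ≠ 1 := fun e => hA1 (conj_eq_one_iff.1 e)
  have hba : a ≠ t * a * t⁻¹ := fun e => hnf a H.prA_mem hA1 e.symm
  have hd : (t * t) * a * (t * t)⁻¹ ∈ D := H.normalD.conj_mem a H.prA_mem _
  have hdc : (t * t) * a * (t * t)⁻¹ = a * (t * a * t⁻¹) := by
    rcases H.four.eq_cases H.prA_mem hb hA1 hb1 hba hd with e | e | e | e
    · exact absurd (conj_eq_one_iff.1 e) hA1
    · have htt : t * t ∈ cd.X1 := mul_mem (mem_map_of_mem _ hτ) (mem_map_of_mem _ hτ)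
      have := H.sq_cent (mem_map_of_mem _ hτ) (H.fix_cent htt H.prA_mem hA1 e) a H.prA_mem
      exact absurd (by rw [this.eq, mul_inv_cancel_right]) hba
    · refine absurd ?_ hba
      have e' : t * (t * a * t⁻¹) * t⁻¹ = t * a * t⁻¹ := Eq.trans (by group) e
      exact (mul_left_cancel (mul_right_cancel e')).symm
    · exact e
  obtain ⟨j, hj⟩ : ∃ j : ℕ, t ^ j * a * (t ^ j)⁻¹ = cd.pr c * a * (cd.pr c)⁻¹ := by
    have hca : cd.pr c * a * (cd.pr c)⁻¹ ∈ D := H.normalD.conj_mem a H.prA_mem _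
    rcases H.four.eq_cases H.prA_mem hb hA1 hb1 hba hca with e | e | e | e
    · exact absurd (conj_eq_one_iff.1 e) hA1
    · exact ⟨0, by rw [e, pow_zero, one_mul, inv_one, mul_one]⟩
    · exact ⟨1, by rw [e, pow_one]⟩
    · exact ⟨2, by rw [e, pow_two, hdc]⟩
  refine ⟨j, ?_⟩
  have hbase := H.normalD.conj_mem a H.prA_mem (t ^ j)
  refine H.fix_cent (mem_map_of_mem _ (mul_mem hc (inv_mem (pow_mem hτ j)))) hbase
    (fun e => hA1 (conj_eq_one_iff.1 e)) ?_
  rw [map_mul, map_inv, map_pow, show cd.pr τ = t from rfl]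
  conv_rhs => rw [hj]
  group

/-- The factor. -/
theorem side : cd.Side (D.comap cd.pr) (cd.f.ker ⊓ centralizer (N.comap cd.pr : Set Q)) := by
  classical
  haveI := Fact.mk Nat.prime_two
  haveI := H.normalN
  haveI := H.normalD
  set K := D.comap cd.pr
  set W := cd.f.ker ⊓ centralizer (N.comap cd.pr : Set Q)
  haveI hWn : W.Normal := inferInstance
  have hKW : K ≤ W := fun k hk =>
    ⟨(H.K_le_P0 hk).2, mem_centralizer_iff.2 fun b hb => (H.comm k hk b hb).eq.symm⟩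
  have hPW : (cd.P : Subgroup Q) ⊓ W ≤ K := by
    intro y hy
    have hy0 : y ∈ cd.P0 := ⟨hy.1, hy.2.1⟩
    have hn : N.comap cd.pr ≤ normalizer (K : Set Q) := fun b hb => centralizer_le_normalizer _
      (mem_centralizer_iff.2 fun a ha => (H.comm a ha b hb).eq)
    have hy' := H.cover_Q hy0
    rw [← SetLike.mem_coe, coe_mul_of_right_le_normalizer_left _ _ hn] at hy'
    obtain ⟨k, hk, b, hb, rfl⟩ := hy'
    have hbW : b ∈ W := by
      have := mul_mem (inv_mem (hKW hk)) hy.2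
      rwa [inv_mul_cancel_left] at this
    have hbz : b ∈ cd.Z := H.common_le_Z ⟨⟨hbW.1, mem_centralizer_iff.2 fun a ha => (H.comm a ha b hb).eq⟩, hbW.2⟩
    refine K.mul_mem hk ?_
    show cd.pr b ∈ D
    rw [cd.pr_eq_one.2 hbz]; exact D.one_mem
  obtain ⟨τ, hτQ, hτN, hnf⟩ := H.exists_tau
  have hτk : τ ∈ cd.f.ker := cd.commutator_le_ker hτQ
  have hτW : τ ∈ W := ⟨hτk, hτN⟩
  -- every element of the kernel acts on `K` as an element of `⟨τ⟩ K`
  have hact : ∀ c ∈ cd.f.ker, ∃ j : ℕ, ∃ k ∈ K, ∀ a ∈ K, Commute (c * (τ ^ j)⁻¹ * k) a := fun c hc => by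
    obtain ⟨j, hj⟩ := H.orbit hτk hnf hc
    exact ⟨j, H.adjust hj⟩
  have hWgen : ∀ w ∈ W, ∃ j : ℕ, ∃ k ∈ K, w = k * τ ^ j := by
    intro w hw
    obtain ⟨j, k, hk, hc⟩ := hact w hw.1
    have hmem : w * (τ ^ j)⁻¹ * k ∈ W := mul_mem (mul_mem hw (inv_mem (pow_mem hτW j))) (hKW hk)
    have hz : w * (τ ^ j)⁻¹ * k ∈ K := by
      show cd.pr _ ∈ D
      rw [cd.pr_eq_one.2 (H.common_le_Z ⟨⟨hmem.1, mem_centralizer_iff.2 fun a ha => (hc a ha).eq.symm⟩, hmem.2⟩)]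
      exact D.one_mem
    exact ⟨j, w * (τ ^ j)⁻¹ * k * k⁻¹, K.mul_mem hz (K.inv_mem hk), by group⟩
  have hWQ : W ≤ commutator Q := fun w hw => by
    obtain ⟨j, k, hk, rfl⟩ := hWgen w hw
    exact mul_mem (cd.P0_le_commutator (H.K_le_P0 hk)) (pow_mem hτQ j)
  -- the Sylow subgroup of `W`
  obtain ⟨T, hT⟩ := QGroup.exists_sylow_subgroupOf cd.P W
  have hTK : (T : Subgroup ↥W) = K.subgroupOf W := by
    rw [hT]
    ext w
    rw [mem_subgroupOf, mem_subgroupOf]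
    exact ⟨fun h => hPW ⟨h, w.2⟩, fun h => (H.K_le_P0 h).1⟩
  haveI hKn : (K.subgroupOf W).Normal := (H.normalD.comap cd.pr).subgroupOf W
  have hcardK : Nat.card K = 8 := by
    have h := Cores.card_map_mul_ker cd.pr K (MonoidHom.ker_le_comap _ _)
    rw [map_comap_eq_self_of_surjective cd.pr_surj, H.four.card, cd.pr_ker, cd.card_Z] at h
    omega
  have hQ8 : Nonempty (↥(T : Subgroup ↥W) ≃* QuaternionGroup (2 ^ 1)) := by
    rw [pow_one]
    have hA4 : orderOf A = 2 * 2 := by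
      show orderOf A = 2 ^ (1 + 1)
      refine orderOf_eq_prime_pow ?_ ?_
      · rw [pow_one, pow_two, H.A_sq]; exact cd.D.z_ne
      · rw [show (2 : ℕ) ^ (1 + 1) = 2 * 2 from rfl, pow_mul, pow_two, pow_two, H.A_sq, cd.D.z_sq]
    let a' : ↥K := ⟨A, H.A_mem_K⟩
    let r' : ↥K := ⟨R, H.R_mem_K⟩
    have hr : r' ∉ zpowers a' := fun hr => by
      obtain ⟨k, hk⟩ := mem_zpowers_iff.1 hr
      have e : R = A ^ k := (congrArg Subtype.val hk).symm
      have h1 := H.R_conj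
      rw [e, ((Commute.refl A).zpow_left k).eq, mul_inv_cancel_right] at h1
      have := H.A_sq
      nth_rewrite 2 [h1] at this
      rw [mul_inv_cancel] at this
      exact cd.D.z_ne this.symm
    obtain ⟨φ⟩ := PGroup.quaternionEquivOfGen (N := 2) (a := a') (b := r')
      (by rw [← orderOf_injective K.subtype K.subtype_injective a']; exact hA4)
      (Subtype.ext (by
        show R ^ 2 = A ^ 2
        rw [pow_two, pow_two, H.R_sq, H.A_sq]))
      (Subtype.ext H.R_conj) hr (by rw [hcardK])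
    exact ⟨((MulEquiv.subgroupCongr hTK).trans (subgroupOfEquivOfLe hKW)).trans φ.symm⟩
  have hall : ∀ P' : Sylow 2 ↥W, ∃ m : ℕ, 1 ≤ m ∧ Nonempty ((P' : Subgroup ↥W) ≃* QuaternionGroup (2 ^ m)) := fun P' => by
    obtain ⟨φ⟩ := hQ8
    exact ⟨1, le_rfl, ⟨(Sylow.equiv P' T).trans φ⟩⟩
  have hO : Cfsg.pPrimeCore 2 ↥W = ⊥ := by
    refine (map_eq_bot_iff_of_injective _ W.subtype_injective).1
      (cd.odd_eq_bot (Cores.map_subtype_normal_of_characteristic W _) ?_)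
    rw [Cores.card_map_subtype]
    exact Cores.coprime_card_pPrimeCore 2
  haveI : Group.IsSolvable ↥W := by
    haveI : Group.IsSolvable ↥(K.subgroupOf W) := by
      haveI := T.2.isNilpotent
      rw [← hTK]
      infer_instance
    haveI : Group.IsSolvable (↥W ⧸ K.subgroupOf W) := by
      refine OddOrderTheorem.solvable ?_
      rw [← index_eq_card, ← hTK, ← Nat.not_even_iff_odd, even_iff_two_dvd]
      exact T.not_dvd_index
    exact Group.isSolvable_of_ker_le_range (K.subgroupOf W).subtype (QuotientGroup.mk' (K.subgroupOf W)) (by simp)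
  have hno : ∀ M : Subgroup ↥W, M.index ≠ 2 := by
    intro M hM
    haveI := normal_of_index_eq_two hM
    have hz : (⟨cd.D.z, hKW H.z_mem_K⟩ : ↥W) ∈ M := by
      have e : (⟨cd.D.z, hKW H.z_mem_K⟩ : ↥W) = ⟨A, hKW H.A_mem_K⟩ * ⟨A, hKW H.A_mem_K⟩ :=
        Subtype.ext H.A_sq.symm
      rw [e]
      exact mul_self_mem_of_index_two hM _
    set D' := ((M ⊓ K.subgroupOf W).map W.subtype).map cd.pr
    have hD' : ∀ v ∈ D', cd.pr τ * v * (cd.pr τ)⁻¹ ∈ D' := by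
      rintro _ ⟨_, ⟨y, hy, rfl⟩, rfl⟩
      refine ⟨_, ⟨⟨τ, hτW⟩ * y * ⟨τ, hτW⟩⁻¹, ⟨Subgroup.Normal.conj_mem ‹M.Normal› y hy.1 _,
        hKn.conj_mem y hy.2 _⟩, rfl⟩, ?_⟩
      simp
    have hD'D : D' ≤ D := by
      rintro _ ⟨_, ⟨y, hy, rfl⟩, rfl⟩
      exact hy.2
    obtain ⟨v, hv, hv1⟩ : ∃ v ∈ D', v ≠ 1 := by
      have mk : ∀ y (hy : y ∈ K), (⟨y, hKW hy⟩ : ↥W) ∈ M → cd.pr y ∈ D' := fun y hy hM' =>
        ⟨_, ⟨⟨y, hKW hy⟩, ⟨hM', hy⟩, rfl⟩, rfl⟩
      have ne1 : ∀ y : Q, y * y = cd.D.z → cd.pr y ≠ 1 := fun y hy e => by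
        rcases cd.mem_Z.1 (cd.pr_eq_one.1 e) with e' | e'
        · rw [e', one_mul] at hy; exact cd.D.z_ne hy.symm
        · rw [e', cd.D.z_sq] at hy; exact cd.D.z_ne hy.symm
      by_cases hA : (⟨A, hKW H.A_mem_K⟩ : ↥W) ∈ M
      · exact ⟨_, mk A H.A_mem_K hA, ne1 A H.A_sq⟩
      by_cases hR : (⟨R, hKW H.R_mem_K⟩ : ↥W) ∈ M
      · exact ⟨_, mk R H.R_mem_K hR, ne1 R H.R_sq⟩
      refine ⟨_, mk (R * A) (K.mul_mem H.R_mem_K H.A_mem_K) ?_, ne1 _ ?_⟩
      · exact (mul_mem_iff_of_index_two hM (a := (⟨R, hKW H.R_mem_K⟩ : ↥W)) (b := ⟨A, hKW H.A_mem_K⟩)).2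
          ⟨fun h => absurd h hR, fun h => absurd h hA⟩
      · rw [show R * A * (R * A) = (R * A * R⁻¹) * (R * R) * A by group, H.R_conj, H.R_sq, mul_assoc,
          (cd.central A).eq.symm, ← mul_assoc, inv_mul_cancel, one_mul]
    have hw := hD' v hv
    set w := cd.pr τ * v * (cd.pr τ)⁻¹
    have hw1 : w ≠ 1 := fun e => hv1 (conj_eq_one_iff.1 e)
    have hvw : v ≠ w := fun e => hnf v (hD'D hv) hv1 e.symm
    have hfull : D ≤ D' := fun a ha => by
      rcases H.four.eq_cases (hD'D hv) (hD'D hw) hv1 hw1 hvw ha with e | e | e | e <;> rw [e]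
      · exact D'.one_mem
      · exact hv
      · exact hw
      · exact D'.mul_mem hv hw
    have hKM : K.subgroupOf W ≤ M := by
      intro y hy
      obtain ⟨_, ⟨x, hx, rfl⟩, e⟩ := hfull (show cd.pr (y : Q) ∈ D from hy)
      obtain ⟨c, hc, e'⟩ := cd.pr_eq.1 e
      rcases cd.mem_Z.1 hc with rfl | rfl
      · rw [mul_one] at e'
        rw [show y = x from Subtype.ext e'.symm]
        exact hx.1
      · rw [show y = x * ⟨cd.D.z, hKW H.z_mem_K⟩ from Subtype.ext e'.symm]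
        exact M.mul_mem hx.1 hz
    have htM : (⟨τ, hτW⟩ : ↥W) ∈ M := by
      have h1 := pow_index_mem (K.subgroupOf W) (⟨τ, hτW⟩ : ↥W)
      obtain ⟨k, hk⟩ : Odd (K.subgroupOf W).index := by
        rw [← hTK, ← Nat.not_even_iff_odd, even_iff_two_dvd]; exact T.not_dvd_index
      rw [hk, pow_succ, pow_mul] at h1
      have h2 : ((⟨τ, hτW⟩ : ↥W) ^ 2) ^ k ∈ M := pow_mem (by rw [pow_two]; exact mul_self_mem_of_index_two hM _) k
      exact (M.mul_mem_cancel_left h2).1 (hKM h1)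
    have htop : M = ⊤ := by
      rw [eq_top_iff]
      rintro ⟨w', hw'⟩ -
      obtain ⟨j, k, hk, rfl⟩ := hWgen w' hw'
      exact M.mul_mem (hKM (show (⟨k, hKW hk⟩ : ↥W) ∈ K.subgroupOf W from hk)) (pow_mem htM j)
    rw [htop, index_top] at hM
    omega
  refine ⟨H.normalD.comap _, hWn, hKW, hKW H.z_mem_K, hWQ, ?_, fun c hc => ?_⟩
  · obtain ⟨φ⟩ := QGroup.solvable_case hno hall hO
    haveI := Fact.mk Nat.prime_three
    exact ⟨ZMod 3, _, _, ⟨1, by rw [ZMod.card]; rfl⟩, ⟨φ⟩⟩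
  · obtain ⟨j, k, hk, h⟩ := hact c (cd.commutator_le_ker hc)
    refine ⟨k⁻¹ * τ ^ j, mul_mem (inv_mem (hKW hk)) (pow_mem hτW j), fun a ha => ?_⟩
    rw [show c * (k⁻¹ * τ ^ j)⁻¹ = c * (τ ^ j)⁻¹ * k by group]
    exact h a ha

end Four

end CentData

end Cfsg.Agent.G2TypeFusion
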