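import Cfsg.Agent.Lib.G2TypeFusion.Even
import Cfsg.Agent.Lib.PSL2.Soluble
import Cfsg.Agent.S0483
import Mathlib.GroupTheory.SpecificGroups.Alternating.Simple

/-!
# Perfect normal subgroups of `C(z)/O` modulo `z` with dihedral Sylow subgroups

* `recog` : they are `PSL₂(q)` or `A₇`, and simple.
* `alt_seven_sylow` : the Sylow 2-subgroups of `A₇` have order 8.
* `eq_top_of_quot` : perfectness from the absence of small quotients.
-/

set_option autoImplicit false

namespace Cfsg.Agent.G2TypeFusion

open Cfsg Subgroup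
open scoped commutatorElement

/-- The Sylow 2-subgroups of `A₇` have order 8. -/
theorem alt_seven_sylow {N : Type*} [Group N] [Finite N] (e : N ≃* alternatingGroup (Fin 7)) (R : Sylow 2 N) :
    Nat.card (R : Subgroup N) = 8 := by
  haveI := Fact.mk Nat.prime_two
  rw [R.card_eq_multiplicity, Nat.card_congr e.toEquiv, nat_card_alternatingGroup, Nat.card_fin,
    show (Nat.factorial 7) / 2 = 2 ^ 3 * 315 by decide,
    Nat.factorization_mul (by norm_num) (by norm_num), Finsupp.add_apply,
    Nat.Prime.factorization_pow Nat.prime_two, Finsupp.single_eq_same,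
    Nat.factorization_eq_zero_of_not_dvd (by norm_num), add_zero]
  norm_num

/-- A nontrivial 2-group has a subgroup of index 2. -/
theorem exists_index_two' {A : Type*} [Group A] [Finite A] [Nontrivial A] (hA : IsPGroup 2 A) :
    ∃ T : Subgroup A, T.index = 2 := by
  haveI := Fact.mk Nat.prime_two
  obtain ⟨k, hk⟩ := IsPGroup.iff_card.1 hA
  rcases k with _ | k
  · exact absurd Finite.one_lt_card (by rw [hk]; norm_num)
  obtain ⟨T, hT⟩ := Sylow.exists_subgroup_card_pow_prime (G := A) 2 (n := k)
    (by rw [hk, pow_succ]; exact dvd_mul_right _ _)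
  refine ⟨T, Nat.eq_of_mul_eq_mul_left (Nat.pos_of_ne_zero (pow_ne_zero k two_ne_zero)) ?_⟩
  rw [← hT, T.card_mul_index, hk, hT, pow_succ]

/-- No quotient of order two and no normal subgroup of odd index: perfect. -/
theorem commutator_eq_top {M : Type*} [Group M] [Finite M]
    (hidx : ∀ N : Subgroup M, N.Normal → Odd N.index → N = ⊤)
    (h2 : ∀ N : Subgroup M, N.Normal → N.index ≠ 2) : commutator M = ⊤ := by
  haveI := Fact.mk Nat.prime_two
  refine hidx _ inferInstance ?_
  rw [← Nat.not_even_iff_odd, even_iff_two_dvd]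
  intro hdvd
  let A := Abelianization M
  have hA : 2 ∣ Nat.card A := by rw [show Nat.card A = (commutator M).index from (index_eq_card _).symm]; exact hdvd
  let sq : A →* A := powMonoidHom 2
  have hns : ¬ Function.Surjective sq := fun hs => by
    obtain ⟨x, hx⟩ := exists_prime_orderOf_dvd_card' (G := A) 2 hA
    have h1 : x = 1 := (Finite.injective_iff_surjective.2 hs) (show x ^ 2 = (1 : A) ^ 2 by
      rw [one_pow, ← hx, pow_orderOf_eq_one])
    rw [h1, orderOf_one] at hx
    omega
  haveI : Nontrivial (A ⧸ sq.range) := by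
    rw [QuotientGroup.nontrivial_iff]
    exact fun h => hns (MonoidHom.range_eq_top.1 h)
  have hp : IsPGroup 2 (A ⧸ sq.range) := fun y => by
    obtain ⟨x, rfl⟩ := QuotientGroup.mk'_surjective _ y
    exact ⟨1, by rw [← map_pow, pow_one]; exact (QuotientGroup.eq_one_iff _).2 ⟨x, rfl⟩⟩
  obtain ⟨T, hT⟩ := exists_index_two' hp
  set φ : M →* A ⧸ sq.range := (QuotientGroup.mk' sq.range).comp Abelianization.of
  have hsurj : Function.Surjective φ :=
    (QuotientGroup.mk'_surjective _).comp (QuotientGroup.mk'_surjective _)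
  exact h2 (T.comap φ) (Subgroup.Normal.comap inferInstance φ) (by rw [index_comap_of_surjective _ hsurj, hT])

/-- Recognition. -/
theorem recog {N : Type*} [Group N] [Finite N] (hO : Cfsg.oddCore N = ⊥) (hp : commutator N = ⊤) (R : Sylow 2 N)
    {m : ℕ} (hm : 2 ≤ m) (e : Nonempty ((R : Subgroup N) ≃* DihedralGroup m)) :
    IsSimpleGroup N ∧
      ((∃ (F : Type) (_ : Field F) (_ : Fintype F), Odd (Fintype.card F) ∧ 3 < Fintype.card F ∧
        Nonempty (N ≃* Matrix.ProjectiveSpecialLinearGroup (Fin 2) F)) ∨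
      Nonempty (N ≃* alternatingGroup (Fin 7))) := by
  haveI : Group.IsPerfect N := ⟨hp⟩
  let q : N ≃* N ⧸ Cfsg.oddCore N :=
    QuotientGroup.quotientBot.symm.trans (QuotientGroup.quotientMulEquivOfEq hO.symm)
  rcases S0483.result R m hm e with ⟨F, _, _, hodd, h3, ⟨φ⟩⟩ | ⟨⟨φ⟩⟩
  · haveI : IsSimpleGroup (Matrix.ProjectiveSpecialLinearGroup (Fin 2) F) :=
      PSL2.isSimpleGroup_psl (by rw [Nat.card_eq_fintype_card]; omega)
    exact ⟨(q.trans φ).isSimpleGroup, Or.inl ⟨F, _, _, hodd, h3, ⟨q.trans φ⟩⟩⟩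
  · haveI : IsSimpleGroup (alternatingGroup (Fin 7)) := alternatingGroup.isSimpleGroup (by simp)
    exact ⟨(q.trans φ).isSimpleGroup, Or.inr ⟨q.trans φ⟩⟩

/-- A simple group which is perfect has no centre. -/
theorem center_eq_bot_of_perfect {N : Type*} [Group N] [IsSimpleGroup N] (hp : commutator N = ⊤) :
    center N = ⊥ := by
  refine (IsSimpleGroup.eq_bot_or_eq_top_of_normal (center N) inferInstance).resolve_right fun h => ?_
  have h1 : commutator N = ⊥ := by
    rw [_root_.commutator_def]
    refine le_bot_iff.1 (commutator_le.2 fun a _ b _ => mem_bot.2 (commutatorElement_eq_one_iff_mul_comm.2 ?_))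
    exact (mem_center_iff.1 (h ▸ mem_top a) b).symm
  exact absurd (hp.symm.trans h1) top_ne_bot

end Cfsg.Agent.G2TypeFusion
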