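import Cfsg.Agent.Lib.G2TypeFusion.Even
import Cfsg.Agent.Lib.QGroup.SLCover
import Cfsg.Agent.Lib.QGroup.Tools
import Cfsg.Prelude.Def_KGroupFacts

/-!
# The two factors of `C(z)` modulo its odd core

* `CentData.Side` : what a factor has to satisfy.
* `CentData.conclude` : two commuting factors give the commutator subgroup.
* `CentData.side_of_simple` : the factor over a normal `PSL₂` of the quotient by `z`.
-/

set_option autoImplicit false

namespace Cfsg.Agent.G2TypeFusion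

open Cfsg Subgroup
open scoped commutatorElement

/-- Centralising modulo the centre a perfect subgroup is centralising it. -/
theorem commute_of_perfect_mod {G : Type*} [Group G] {K : Subgroup G} (hp : ⁅K, K⁆ = K) {r : G}
    (h : ∀ k ∈ K, ⁅r, k⁆ ∈ center G) : ∀ k ∈ K, Commute r k := by
  let ψ : ↥K →* G := MonoidHom.mk' (fun k => ⁅r, (k : G)⁆) fun a b => by
    have e := mem_center_iff.1 (h b b.2) (a : G)⁻¹
    rw [Subgroup.coe_mul, commutatorElement_def, commutatorElement_def, commutatorElement_def] at *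
    calc r * (a * b) * r⁻¹ * (a * b : G)⁻¹
        = r * a * r⁻¹ * ((r * b * r⁻¹ * (b : G)⁻¹) * (a : G)⁻¹) := by group
      _ = r * a * r⁻¹ * ((a : G)⁻¹ * (r * b * r⁻¹ * (b : G)⁻¹)) := by rw [e]
      _ = _ := by group
  have hle : K ≤ (ψ.ker).map K.subtype := by
    conv_lhs => rw [← hp]
    refine commutator_le.2 fun a ha b hb => ⟨⁅(⟨a, ha⟩ : K), ⟨b, hb⟩⁆, ?_, rfl⟩
    show ψ _ = 1
    rw [map_commutatorElement, commutatorElement_eq_one_iff_mul_comm]
    exact (mem_center_iff.1 (h b hb) (ψ ⟨a, ha⟩))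
  intro k hk
  obtain ⟨x, hx, rfl⟩ := hle hk
  exact commutatorElement_eq_one_iff_mul_comm.1 hx

variable {Q : Type*} [Group Q] [Finite Q] {n : ℕ}

namespace CentData

variable (cd : CentData Q n)

/-- A factor `L` with the normal subgroup `K` it is built on. -/
structure Side (K L : Subgroup Q) : Prop where
  normalK : K.Normal
  normalL : L.Normal
  le : K ≤ L
  z_mem : cd.D.z ∈ L
  le_comm : L ≤ commutator Q
  sl : ∃ (F : Type) (_ : Field F) (_ : Fintype F), Odd (Fintype.card F) ∧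
    Nonempty (↥L ≃* Matrix.SpecialLinearGroup (Fin 2) F)
  inner : ∀ c ∈ commutator Q, ∃ l ∈ L, ∀ k ∈ K, Commute (c * l⁻¹) k

/-- Two commuting factors covering the even part. -/
theorem conclude {K₁ K₂ L₁ L₂ : Subgroup Q} (s₁ : cd.Side K₁ L₁) (s₂ : cd.Side K₂ L₂)
    (hc : ∀ a ∈ L₁, ∀ b ∈ L₂, Commute a b) (hP : cd.P0 ≤ K₁ ⊔ K₂) :
    ∃ L₁ L₂ : Subgroup Q, L₁.Normal ∧ L₂.Normal ∧
      (∃ (F₁ : Type) (_ : Field F₁) (_ : Fintype F₁), Odd (Fintype.card F₁) ∧
        Nonempty (↥L₁ ≃* Matrix.SpecialLinearGroup (Fin 2) F₁)) ∧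
      (∃ (F₂ : Type) (_ : Field F₂) (_ : Fintype F₂), Odd (Fintype.card F₂) ∧
        Nonempty (↥L₂ ≃* Matrix.SpecialLinearGroup (Fin 2) F₂)) ∧
      ⁅L₁, L₂⁆ = ⊥ ∧ L₁ ⊔ L₂ = commutator Q := by
  refine ⟨L₁, L₂, s₁.normalL, s₂.normalL, s₁.sl, s₂.sl,
    le_bot_iff.1 (commutator_le.2 fun a ha b hb => mem_bot.2 (commutatorElement_eq_one_iff_mul_comm.2 (hc a ha b hb))),
    le_antisymm (sup_le s₁.le_comm s₂.le_comm) fun c hcQ => ?_⟩
  obtain ⟨l₁, hl₁, h₁⟩ := s₁.inner c hcQ
  obtain ⟨l₂, hl₂, h₂⟩ := s₂.inner c hcQ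
  have hr : c * (l₁ * l₂)⁻¹ ∈ cd.Z := by
    refine cd.pair_le_Z s₁.normalK s₂.normalK hP ⟨⟨?_, mem_centralizer_iff.2 fun k hk => ?_⟩,
      mem_centralizer_iff.2 fun k hk => ?_⟩
    · exact cd.commutator_le_ker (mul_mem hcQ (inv_mem (mul_mem (s₁.le_comm hl₁) (s₂.le_comm hl₂))))
    · rw [(hc l₁ hl₁ l₂ hl₂).eq, mul_inv_rev, ← mul_assoc c]
      exact ((h₁ k hk).mul_left (hc k (s₁.le hk) l₂ hl₂).symm.inv_left).eq.symm
    · rw [mul_inv_rev, ← mul_assoc c]
      exact ((h₂ k hk).mul_left (hc l₁ hl₁ k (s₂.le hk)).inv_left).eq.symm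
  have hz : cd.Z ≤ L₁ ⊔ L₂ := zpowers_le.2 ((le_sup_left : L₁ ≤ L₁ ⊔ L₂) s₁.z_mem)
  have := mul_mem (hz hr) (mul_mem ((le_sup_left : L₁ ≤ L₁ ⊔ L₂) hl₁) ((le_sup_right : L₂ ≤ L₁ ⊔ L₂) hl₂))
  rwa [inv_mul_cancel_right] at this

theorem psl_perfect {F : Type} [Field F] [Fintype F] (h3 : 3 < Fintype.card F) :
    commutator (Matrix.ProjectiveSpecialLinearGroup (Fin 2) F) = ⊤ := by
  rw [eq_top_iff]
  intro x _
  obtain ⟨y, rfl⟩ := QuotientGroup.mk'_surjective _ x
  have hy : y ∈ commutator (Matrix.SpecialLinearGroup (Fin 2) F) := by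
    rw [Law.commutator_sl2_eq_top (by omega)]; exact mem_top _
  have := mem_map_of_mem (QuotientGroup.mk' (center (Matrix.SpecialLinearGroup (Fin 2) F))) hy
  rw [_root_.commutator_def, map_commutator] at this
  exact commutator_mono le_top le_top this

/-- The factor over a normal `PSL₂` of the quotient. -/
theorem side_of_simple {N : Subgroup (Q ⧸ cd.Z)} (hN : N.Normal) (hne : N ≠ ⊥) {F : Type} [Field F] [Fintype F]
    (hodd : Odd (Fintype.card F)) (h3 : 3 < Fintype.card F)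
    (e : ↥N ≃* Matrix.ProjectiveSpecialLinearGroup (Fin 2) F) :
    cd.Side (N.comap cd.pr) (N.comap cd.pr) ∧ ⁅N.comap cd.pr, N.comap cd.pr⁆ = N.comap cd.pr := by
  haveI := Fact.mk Nat.prime_two
  haveI := hN
  set K := N.comap cd.pr with hK
  have hKn : K.Normal := hN.comap _
  haveI := hKn
  have hmap : K.map cd.pr = N := map_comap_eq_self_of_surjective cd.pr_surj N
  have hNp : ⁅N, N⁆ = N := by
    have h1 : (commutator ↥N).map N.subtype = N := by
      have hc : commutator ↥N = ⊤ := by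
        refine map_injective e.injective (f := e.toMonoidHom) ?_
        rw [_root_.commutator_def, map_commutator, map_top_of_surjective e.toMonoidHom e.surjective,
          ← _root_.commutator_def, psl_perfect h3]
      rw [hc, ← MonoidHom.range_eq_map, range_subtype]
    conv_rhs => rw [← h1, _root_.commutator_def, map_commutator, ← MonoidHom.range_eq_map, range_subtype]
  have hKK : ⁅K, K⁆.map cd.pr = N := by rw [map_commutator, hmap, hNp]
  have hle : ⁅K, K⁆ ≤ cd.f.ker :=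
    (commutator_mono le_top le_top).trans ((_root_.commutator_def Q).ge.trans cd.commutator_le_ker)
  have hz : cd.D.z ∈ ⁅K, K⁆ := by
    refine cd.z_mem_of_even inferInstance hle ?_
    by_contra h2
    apply hne
    rw [← hKK, cd.odd_eq_bot inferInstance (Nat.prime_two.coprime_iff_not_dvd.2 h2).symm, Subgroup.map_bot]
  have hperf : ⁅K, K⁆ = K := by
    refine le_antisymm (commutator_le_self _) fun x hx => ?_
    obtain ⟨y, hy, hyx⟩ := (hKK.symm ▸ hx : cd.pr x ∈ ⁅K, K⁆.map cd.pr)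
    obtain ⟨c, hc, rfl⟩ := cd.pr_eq.1 hyx
    exact mul_mem hy ((zpowers_le.2 hz) hc)
  refine ⟨⟨hKn, hKn, le_rfl, hperf ▸ hz, ?_, ?_, ?_⟩, hperf⟩
  · conv_lhs => rw [← hperf]
    exact commutator_mono le_top le_top
  · haveI : Group.IsPerfect ↥K := ⟨map_injective K.subtype_injective (by
      rw [_root_.commutator_def, map_commutator, ← MonoidHom.range_eq_map, range_subtype, hperf])⟩
    let g : ↥K →* Matrix.ProjectiveSpecialLinearGroup (Fin 2) F :=
      e.toMonoidHom.comp ((cd.pr.comp K.subtype).codRestrict N fun x => x.2)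
    have hg : Function.Surjective g := fun y => by
      obtain ⟨x, hx⟩ := cd.pr_surj ((e.symm y : ↥N) : Q ⧸ cd.Z)
      refine ⟨⟨x, show cd.pr x ∈ N from hx ▸ (e.symm y).2⟩, ?_⟩
      show e _ = y
      exact (congrArg e (Subtype.ext hx)).trans (e.apply_symm_apply y)
    have hker : g.ker = cd.Z.subgroupOf K := by
      ext x
      rw [MonoidHom.mem_ker, mem_subgroupOf, ← cd.pr_eq_one]
      show e _ = 1 ↔ _
      rw [EmbeddingLike.map_eq_one_iff]
      exact ⟨fun h => congrArg Subtype.val h, fun h => Subtype.ext h⟩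
    obtain ⟨φ⟩ := QGroup.sl_two_of_double_cover hodd h3 g hg
      (fun x hx => mem_center_iff.2 fun y => Subtype.ext
        (mem_center_iff.1 (cd.Z_le_center (by rw [hker] at hx; exact hx)) (y : Q)))
      (by rw [hker, Nat.card_congr (subgroupOfEquivOfLe (show cd.Z ≤ K from zpowers_le.2 (hperf ▸ hz))).toEquiv, cd.card_Z])
    exact ⟨F, _, _, hodd, ⟨φ⟩⟩
  · intro c hc
    let θ : Q →* Cfsg.Out (Matrix.ProjectiveSpecialLinearGroup (Fin 2) F) :=
      ((QuotientGroup.mk' (Cfsg.Inn _)).comp (MulAut.congr e).toMonoidHom).comp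
        ((MulAut.conjNormal : Q ⧸ cd.Z →* MulAut ↥N).comp cd.pr)
    have hθ : θ c = 1 := by
      have : commutator Q ≤ θ.ker := by
        rw [_root_.commutator_def]
        refine commutator_le.2 fun a _ b _ => ?_
        rw [MonoidHom.mem_ker, map_commutatorElement]
        exact commutatorElement_eq_one_iff_mul_comm.2 (QGroup.out_psl_two_comm hodd h3 _ _)
      exact this hc
    obtain ⟨p, hp⟩ := (QuotientGroup.eq_one_iff _).1 hθ
    obtain ⟨m, rfl⟩ := e.surjective p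
    obtain ⟨l, hl⟩ := cd.pr_surj (m : Q ⧸ cd.Z)
    have hlK : l ∈ K := show cd.pr l ∈ N from hl ▸ m.2
    refine ⟨l, hlK, commute_of_perfect_mod hperf fun k hk => cd.Z_le_center (cd.pr_eq_one.1 ?_)⟩
    have hconj : ∀ x : ↥N, cd.pr c * (x : Q ⧸ cd.Z) * (cd.pr c)⁻¹ = m * x * m⁻¹ := fun x => by
      have h := MulEquiv.congr_fun hp (e x)
      simp only [MulAut.conj_apply, MonoidHom.coe_comp, Function.comp_apply, MulEquiv.coe_toMonoidHom,
        MulAut.congr, MulEquiv.coe_mk, Equiv.coe_fn_mk, MulEquiv.trans_apply, MulEquiv.symm_apply_apply] at h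
      rw [← map_mul, ← map_inv, ← map_mul, e.apply_eq_iff_eq] at h
      exact (congrArg Subtype.val h).symm
    have h1 := hconj ⟨(cd.pr l)⁻¹ * cd.pr k * cd.pr l, N.mul_mem (N.mul_mem (inv_mem hlK) hk) hlK⟩
    rw [map_commutatorElement, commutatorElement_def, map_mul, map_inv]
    rw [← hl] at h1
    rw [show cd.pr c * (cd.pr l)⁻¹ * cd.pr k * (cd.pr c * (cd.pr l)⁻¹)⁻¹ * (cd.pr k)⁻¹ =
      cd.pr c * ((cd.pr l)⁻¹ * cd.pr k * cd.pr l) * (cd.pr c)⁻¹ * (cd.pr k)⁻¹ by group]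
    simp only [Subgroup.coe_inv, ← hl] at h1
    rw [h1]
    group

end CentData

end Cfsg.Agent.G2TypeFusion
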