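import Cfsg.Agent.Lib.G2TypeFusion.Split
import Cfsg.Agent.Lib.G2TypeFusion.Recog
import Cfsg.Agent.Lib.G2TypeFusion.Side
import Cfsg.Agent.S3113

/-!
# `C(z)/O` for `n ≥ 8`

* `CentData.exists_pair_large` : two commuting normal simple subgroups of the quotient by `z`.
* `CentData.main_large` : the conclusion.
-/

set_option autoImplicit false

namespace Cfsg.Agent.G2TypeFusion

open Cfsg Subgroup
open scoped commutatorElement

theorem internal_unique {G : Type*} [Group G] {A B S : Subgroup G} (h : IsInternalDirectProduct A B S)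
    {a a' b b' : G} (ha : a ∈ A) (ha' : a' ∈ A) (hb : b ∈ B) (hb' : b' ∈ B) (e : a * b = a' * b') :
    a = a' ∧ b = b' := by
  have h1 : a'⁻¹ * a = b' * b⁻¹ := by
    rw [inv_mul_eq_iff_eq_mul, ← mul_assoc, ← e, mul_inv_cancel_right]
  have h2 : a'⁻¹ * a ∈ A ⊓ B := ⟨A.mul_mem (A.inv_mem ha') ha, h1 ▸ B.mul_mem hb' (B.inv_mem hb)⟩
  rw [h.2.2.2.1, mem_bot] at h2
  have e1 : a' = a := inv_mul_eq_one.1 h2
  subst e1
  exact ⟨rfl, mul_left_cancel e⟩

theorem internal_exists {G : Type*} [Group G] {A B S : Subgroup G} (h : IsInternalDirectProduct A B S)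
    {x : G} (hx : x ∈ S) : ∃ a ∈ A, ∃ b ∈ B, x = a * b := by
  have hn : B ≤ normalizer (A : Set G) := fun b hb => centralizer_le_normalizer _
    (mem_centralizer_iff.2 fun a ha => h.2.2.1 a ha b hb)
  rw [← h.2.2.2.2, ← SetLike.mem_coe, coe_mul_of_right_le_normalizer_left A B hn] at hx
  obtain ⟨a, ha, b, hb, rfl⟩ := hx
  exact ⟨a, ha, b, hb, rfl⟩

theorem IsInternalDirectProduct.map' {G H : Type*} [Group G] [Group H] {A B S : Subgroup G}
    (h : IsInternalDirectProduct A B S) (f : G →* H) (hf : Function.Injective f) :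
    IsInternalDirectProduct (A.map f) (B.map f) (S.map f) := by
  obtain ⟨h1, h2, h3, h4, h5⟩ := h
  refine ⟨map_mono h1, map_mono h2, ?_, by rw [← map_inf _ _ f hf, h4, Subgroup.map_bot], by rw [← Subgroup.map_sup, h5]⟩
  rintro _ ⟨a, ha, rfl⟩ _ ⟨b, hb, rfl⟩
  rw [← map_mul, h3 a ha b hb, map_mul]

/-- The first factor of a perfect direct product is perfect. -/
theorem perfect_factor {M : Type*} [Group M] {A B : Subgroup M} (h : IsInternalDirectProduct A B ⊤)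
    (hp : commutator M = ⊤) : commutator ↥A = ⊤ := by
  have hle : (⊤ : Subgroup M) ≤ ⁅A, A⁆ ⊔ ⁅B, B⁆ := by
    rw [← hp, _root_.commutator_def]
    refine commutator_le.2 fun x _ y _ => ?_
    obtain ⟨a, ha, b, hb, rfl⟩ := internal_exists h (mem_top x)
    obtain ⟨a', ha', b', hb', rfl⟩ := internal_exists h (mem_top y)
    have c1 : Commute b a' := (h.2.2.1 a' ha' b hb).symm
    have c2 : Commute a b' := h.2.2.1 a ha b' hb'
    have e1 : ⁅a * b, a' * b'⁆ = ⁅a, a'⁆ * ⁅b, b'⁆ := by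
      have hA : ∀ {x}, x ∈ A → Commute x (b * b' * b⁻¹) := fun hx =>
        h.2.2.1 _ hx _ (B.mul_mem (B.mul_mem hb hb') (B.inv_mem hb))
      rw [commutatorElement_def, commutatorElement_def, commutatorElement_def, mul_inv_rev, mul_inv_rev]
      calc a * b * (a' * b') * (b⁻¹ * a⁻¹) * (b'⁻¹ * a'⁻¹)
          = a * (b * a') * b' * b⁻¹ * (a⁻¹ * b'⁻¹) * a'⁻¹ := by group
        _ = a * (a' * b) * b' * b⁻¹ * (b'⁻¹ * a⁻¹) * a'⁻¹ := by rw [c1.eq, c2.inv_inv.eq]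
        _ = a * a' * (b * b' * b⁻¹ * b'⁻¹) * (a⁻¹ * a'⁻¹) := by group
        _ = a * a' * ((a⁻¹ * a'⁻¹) * (b * b' * b⁻¹ * b'⁻¹)) := by
          rw [mul_assoc (a * a'), h.2.2.1 (a⁻¹ * a'⁻¹) (A.mul_mem (A.inv_mem ha) (A.inv_mem ha')) _
            (B.mul_mem (B.mul_mem (B.mul_mem hb hb') (B.inv_mem hb)) (B.inv_mem hb'))]
        _ = _ := by group
    rw [e1]
    exact mul_mem_sup (commutator_mem_commutator ha ha') (commutator_mem_commutator hb hb')
  have hAA : A ≤ ⁅A, A⁆ := fun x hx => by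
    have hn : ⁅B, B⁆ ≤ normalizer ((⁅A, A⁆ : Subgroup M) : Set M) := fun b hb => centralizer_le_normalizer _
      (mem_centralizer_iff.2 fun a ha => h.2.2.1 a (commutator_le_self A ha) b (commutator_le_self B hb))
    have hx' := hle (mem_top x)
    rw [← SetLike.mem_coe, coe_mul_of_right_le_normalizer_left _ _ hn] at hx'
    obtain ⟨a, ha, b, hb, e⟩ := hx'
    have := internal_unique h (commutator_le_self A ha) hx (commutator_le_self B hb) B.one_mem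
      (e.trans (mul_one x).symm)
    exact this.1 ▸ ha
  refine map_injective A.subtype_injective ?_
  rw [_root_.commutator_def, map_commutator, ← MonoidHom.range_eq_map, range_subtype]
  exact le_antisymm (commutator_le_self A) hAA

/-- A perfect direct factor of a subgroup is normalised by it. -/
theorem conj_mem_factor {G : Type*} [Group G] {A B M : Subgroup G} (h : IsInternalDirectProduct A B M)
    {g : G} (hg : g ∈ M) {x : G} (hx : x ∈ A) : g * x * g⁻¹ ∈ A := by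
  obtain ⟨a, ha, b, hb, rfl⟩ := internal_exists h hg
  rw [show a * b * x * (a * b)⁻¹ = a * (b * x) * b⁻¹ * a⁻¹ by group, ← h.2.2.1 x hx b hb,
    show a * (x * b) * b⁻¹ * a⁻¹ = a * x * a⁻¹ by group]
  exact A.mul_mem (A.mul_mem ha hx) (A.inv_mem ha)

theorem swap_product {G : Type*} [Group G] {A B M : Subgroup G} (h : IsInternalDirectProduct A B M) :
    IsInternalDirectProduct B A M :=
  ⟨h.2.1, h.1, fun a ha b hb => (h.2.2.1 b hb a ha).symm, by rw [inf_comm]; exact h.2.2.2.1,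
    by rw [sup_comm]; exact h.2.2.2.2⟩

/-- A conjugate of a simple factor of a normal subgroup with two factors is one of the factors. -/
theorem conj_eq_or {G : Type*} [Group G] [Finite G] {A B M : Subgroup G} (hM : M.Normal)
    (h : IsInternalDirectProduct A B M) (hA : IsSimpleGroup ↥A) (hpA : commutator ↥A = ⊤)
    (hB : IsSimpleGroup ↥B) (g : G) :
    A.map (MulAut.conj g).toMonoidHom = A ∨ A.map (MulAut.conj g).toMonoidHom = B := by
  set N := A.map (MulAut.conj g).toMonoidHom with hN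
  have hNM : N ≤ M := by
    rintro _ ⟨x, hx, rfl⟩
    exact hM.conj_mem x (h.1 hx) g
  have hnor : ∀ a ∈ M, ∀ x ∈ N, a * x * a⁻¹ ∈ N := by
    rintro a ha _ ⟨x, hx, rfl⟩
    refine ⟨g⁻¹ * a * g⁻¹⁻¹ * x * (g⁻¹ * a * g⁻¹⁻¹)⁻¹, conj_mem_factor h (hM.conj_mem a ha g⁻¹) hx, ?_⟩
    simp only [MulEquiv.coe_toMonoidHom, MulAut.conj_apply]
    group
  have hcard : Nat.card N = Nat.card A :=
    card_map_of_injective (MulAut.conj g).injective
  haveI := hA
  haveI := hB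
  haveI hn1 : (N.subgroupOf A).Normal :=
    ⟨fun x hx a => mem_subgroupOf.2 (hnor a (h.1 a.2) x (mem_subgroupOf.1 hx))⟩
  rcases IsSimpleGroup.eq_bot_or_eq_top_of_normal (N.subgroupOf A) hn1 with h1 | h1
  · right
    rw [subgroupOf_eq_bot] at h1
    have hNB : N ≤ B := by
      intro x hx
      obtain ⟨a, ha, b, hb, rfl⟩ := internal_exists h (hNM hx)
      have hcomm : ∀ y ∈ A, Commute (a * b) y := fun y hy => by
        refine commutatorElement_eq_one_iff_mul_comm.1 (mem_bot.1 (h1.le_bot ⟨?_, ?_⟩))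
        · rw [commutatorElement_def, show a * b * y * (a * b)⁻¹ * y⁻¹ = (a * b) * (y * (a * b)⁻¹ * y⁻¹) by group]
          exact N.mul_mem hx (hnor y (h.1 hy) _ (N.inv_mem hx))
        · rw [commutatorElement_def]
          exact A.mul_mem (conj_mem_factor h (hNM hx) hy) (A.inv_mem hy)
      have ha1 : (⟨a, ha⟩ : ↥A) ∈ center ↥A := mem_center_iff.2 fun y => Subtype.ext (by
        show (y : G) * a = a * y
        have e := (hcomm y y.2).mul_left ((show Commute (y : G) b from h.2.2.1 (y : G) y.2 b hb).symm.inv_left)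
        rw [mul_inv_cancel_right] at e
        exact e.eq.symm)
      rw [center_eq_bot_of_perfect hpA, mem_bot] at ha1
      rw [show a = 1 from congrArg Subtype.val ha1, one_mul]
      exact hb
    haveI hn2 : (N.subgroupOf B).Normal :=
      ⟨fun x hx a => mem_subgroupOf.2 (hnor a (h.2.1 a.2) x (mem_subgroupOf.1 hx))⟩
    rcases IsSimpleGroup.eq_bot_or_eq_top_of_normal (N.subgroupOf B) hn2 with h2 | h2
    · exfalso
      have hb : N = ⊥ := le_bot_iff.1 fun x hx => (subgroupOf_eq_bot.1 h2).le_bot ⟨hx, hNB hx⟩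
      rw [hb, card_bot] at hcard
      haveI := hA.toNontrivial
      exact absurd hcard.symm (Finite.one_lt_card (α := ↥A)).ne'
    · exact le_antisymm hNB (subgroupOf_eq_top.1 h2)
  · exact Or.inl (eq_of_le_of_card_ge (subgroupOf_eq_top.1 h1) hcard.le).symm

variable {Q : Type*} [Group Q] [Finite Q] {n : ℕ}

namespace CentData

variable (cd : CentData Q n)

/-- Simple with the two possible types. -/
def IsFactor {H : Type*} [Group H] (N : Subgroup H) : Prop :=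
  IsSimpleGroup ↥N ∧ commutator ↥N = ⊤ ∧
    ((∃ (F : Type) (_ : Field F) (_ : Fintype F), Odd (Fintype.card F) ∧ 3 < Fintype.card F ∧
      Nonempty (↥N ≃* Matrix.ProjectiveSpecialLinearGroup (Fin 2) F)) ∨
    Nonempty (↥N ≃* alternatingGroup (Fin 7)))

/-- The two factors of the subgroup generated by the conjugates of `e`. -/
theorem exists_factors (hn : 8 ≤ n) :
    ∃ M N₁ N₂ T₁ T₂ : Subgroup (Q ⧸ cd.Z), M.Normal ∧ IsInternalDirectProduct N₁ N₂ M ∧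
      IsInternalDirectProduct T₁ T₂ (cd.P0.map cd.pr) ∧ T₁ ≤ N₁ ∧ T₂ ≤ N₂ ∧ T₁ ≠ ⊥ ∧ T₂ ≠ ⊥ ∧
      IsFactor N₁ ∧ IsFactor N₂ := by
  classical
  haveI := Fact.mk Nat.prime_two
  have := cd.D.ne_zero
  have h4 := cd.D.four_dvd
  obtain ⟨s, hs2, hns⟩ := cd.D.exists_two_pow cd.P.2
  have hs3 : 3 ≤ s := by
    by_contra h
    interval_cases s
    omega
  have h8 : 8 ∣ n := hns ▸ (show 2 ^ 3 ∣ 2 ^ s from pow_dvd_pow 2 hs3)
  obtain ⟨hsplit, hA₁, hA₂⟩ := cd.exists_split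
  obtain ⟨⟨e₁⟩, ⟨e₂⟩⟩ := cd.dihedral_D
  set PX := cd.P.mapSurjective cd.pr_surj
  set M := normalClosure ({cd.pr cd.D.e} : Set (Q ⧸ cd.Z)) with hMdef
  haveI hMn : M.Normal := normalClosure_normal
  have hMX : M ≤ cd.X1 := normalClosure_le_normal
    (Set.singleton_subset_iff.2 (mem_map_of_mem _ cd.e_mem_P0.2))
  have hPM : cd.P0.map cd.pr ≤ M := map_le_iff_le_comap.2
    (cd.even_le_of_e (hMn.comap _) (subset_normalClosure (Set.mem_singleton _)))
  have hinf : (PX : Subgroup (Q ⧸ cd.Z)) ⊓ M = cd.P0.map cd.pr := by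
    refine le_antisymm ?_ (le_inf (map_mono inf_le_left) hPM)
    rintro _ ⟨⟨y, hy, rfl⟩, hyM⟩
    exact ⟨y, ⟨hy, cd.comap_X1 ▸ (show y ∈ cd.X1.comap cd.pr from hMX hyM)⟩, rfl⟩
  obtain ⟨R, hR⟩ := PReduced.exists_sylow_inf PX (C := M) (by rw [normalizer_eq_top]; exact le_top)
  have hR' : (R : Subgroup ↥M) = (cd.P0.map cd.pr).subgroupOf M := by
    rw [hR, ← hinf, inf_subgroupOf_right]
  -- the properties of `M`
  set d : Q := cd.D.E (((n / 4 : ℕ) : ZMod n), 0) false false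
  have hd : d ∈ cd.P0 := cd.E_mem_P0 (by
    rw [map_natCast, map_zero, add_zero, ZMod.natCast_eq_zero_iff]; omega)
  have hdd : cd.pr d * cd.pr d = cd.pr cd.D.e := by
    rw [← map_mul, Gens.E_sq, Gens.e]
    simp [act, cd.D.h_half]
  have hee : cd.pr cd.D.e * cd.pr cd.D.e = 1 := by rw [← map_mul, cd.D.e_sq, map_one]
  have hgen : ∀ (T : Subgroup ↥M), (∀ (g : Q ⧸ cd.Z) (h : g * cd.pr cd.D.e * g⁻¹ ∈ M),
      (⟨g * cd.pr cd.D.e * g⁻¹, h⟩ : ↥M) ∈ T) → T = ⊤ := by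
    intro T hT
    rw [eq_top_iff]
    rintro ⟨x, hx⟩ -
    have hle : M ≤ T.map M.subtype := by
      conv_lhs => rw [hMdef]
      refine (closure_le _).2 fun y hy => ?_
      obtain ⟨a, ha, hc⟩ := Group.mem_conjugatesOfSet_iff.1 hy
      rw [Set.mem_singleton_iff] at ha
      obtain ⟨g, rfl⟩ := isConj_iff.1 hc
      subst ha
      exact ⟨⟨_, hMn.conj_mem _ (subset_normalClosure (Set.mem_singleton _)) g⟩, hT g _, rfl⟩
    obtain ⟨w, hw, e⟩ := hle hx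
    rwa [show (⟨x, hx⟩ : ↥M) = w from Subtype.ext e.symm]
  have hidx : ∀ N : Subgroup ↥M, N.Normal → Odd N.index → N = ⊤ := fun N hN hodd => hgen N fun g h => by
    haveI := hN
    have h1 : orderOf ((⟨g * cd.pr cd.D.e * g⁻¹, h⟩ : ↥M) : ↥M ⧸ N) ∣ 2 := by
      refine orderOf_dvd_of_pow_eq_one ?_
      rw [← QuotientGroup.mk_pow, pow_two, QuotientGroup.eq_one_iff]
      convert N.one_mem
      refine Subtype.ext ?_
      show g * cd.pr cd.D.e * g⁻¹ * (g * cd.pr cd.D.e * g⁻¹) = 1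
      rw [show g * cd.pr cd.D.e * g⁻¹ * (g * cd.pr cd.D.e * g⁻¹) = g * (cd.pr cd.D.e * cd.pr cd.D.e) * g⁻¹ by group,
        hee, mul_one, mul_inv_cancel]
    exact (QuotientGroup.eq_one_iff _).1 (orderOf_eq_one_iff.1
      (Nat.eq_one_of_dvd_coprimes hodd.coprime_two_right (index_eq_card N ▸ orderOf_dvd_natCard _) h1))
  have h2 : ∀ N : Subgroup ↥M, N.Normal → N.index ≠ 2 := fun N hN h2 => by
    have := hgen N fun g h => by
      have hgd : g * cd.pr d * g⁻¹ ∈ M := hMn.conj_mem _ (hPM (mem_map_of_mem _ hd)) g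
      have := mul_self_mem_of_index_two h2 (⟨g * cd.pr d * g⁻¹, hgd⟩ : ↥M)
      convert this using 1
      refine Subtype.ext ?_
      show g * cd.pr cd.D.e * g⁻¹ = g * cd.pr d * g⁻¹ * (g * cd.pr d * g⁻¹)
      rw [show g * cd.pr d * g⁻¹ * (g * cd.pr d * g⁻¹) = g * (cd.pr d * cd.pr d) * g⁻¹ by group, hdd]
    rw [this, index_top] at h2
    omega
  have hO : Cfsg.oddCore ↥M = ⊥ := by
    refine (map_eq_bot_iff_of_injective _ M.subtype_injective).1 (cd.odd_eq_bot_quot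
      (Cores.map_subtype_normal_of_characteristic M _) ?_)
    rw [Cores.card_map_subtype]
    exact Cores.coprime_card_pPrimeCore 2
  have hD₁M : cd.D₁ ≤ M := hsplit.1.trans hPM
  have hD₂M : cd.D₂ ≤ M := hsplit.2.1.trans hPM
  have hDM : IsInternalDirectProduct (cd.D₁.subgroupOf M) (cd.D₂.subgroupOf M) (R : Subgroup ↥M) := by
    rw [hR']
    refine ⟨comap_mono hsplit.1, comap_mono hsplit.2.1,
      fun a ha b hb => Subtype.ext (hsplit.2.2.1 _ ha _ hb), ?_, ?_⟩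
    · rw [subgroupOf, subgroupOf, ← comap_inf, hsplit.2.2.2.1, MonoidHom.comap_bot, MonoidHom.ker_eq_bot_iff]
      exact M.subtype_injective
    · rw [← subgroupOf_sup hD₁M hD₂M, hsplit.2.2.2.2]
  have hnc : ¬ IsMulCommutative ↥(R : Subgroup ↥M) := fun hc => by
    have hmem : ∀ x ∈ cd.P0, cd.pr x ∈ M := fun x hx => hPM (mem_map_of_mem _ hx)
    have hR1 : ∀ x (hx : x ∈ cd.P0), (⟨cd.pr x, hmem x hx⟩ : ↥M) ∈ (R : Subgroup ↥M) := fun x hx => by
      rw [hR']; exact mem_subgroupOf.2 (mem_map_of_mem _ hx)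
    have e := congrArg (fun w : ↥(R : Subgroup ↥M) => ((w : ↥M) : Q ⧸ cd.Z))
      (hc.is_comm.comm ⟨_, hR1 _ cd.R₁_mem⟩ ⟨_, hR1 _ cd.A₁_mem⟩)
    change cd.pr cd.R₁ * cd.pr cd.A₁ = cd.pr cd.A₁ * cd.pr cd.R₁ at e
    have h1 : cd.pr cd.A₁⁻¹ = cd.pr cd.A₁ := by
      rw [← cd.R₁_conj, map_mul, map_mul, map_inv, e, mul_inv_cancel_right]
    have h2' : orderOf (cd.pr cd.A₁) ∣ 2 := orderOf_dvd_of_pow_eq_one (by
      rw [pow_two]; nth_rewrite 2 [← h1]; rw [← map_mul, mul_inv_cancel, map_one])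
    rw [hA₁] at h2'
    have := Nat.le_of_dvd two_pos h2'
    omega
  obtain ⟨G₁, G₂, hG₁, hG₂, hG, S₁, S₂, hS, ⟨m₁, hm₁, ⟨f₁⟩⟩, ⟨m₂, hm₂, ⟨f₂⟩⟩, hS₁, hS₂, hi₁, hi₂⟩ :=
    S3113.result hO hidx h2 R hnc _ _ hDM
      ⟨n / 2, by omega, ⟨(subgroupOfEquivOfLe hD₁M).trans e₁⟩⟩
      ⟨n / 2, by omega, ⟨(subgroupOfEquivOfLe hD₂M).trans e₂⟩⟩
  have hp := commutator_eq_top hidx h2
  have hfac : ∀ (G₀ S₀ : Subgroup ↥M) (m : ℕ), G₀.Normal → commutator ↥G₀ = ⊤ → S₀ ≤ G₀ →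
      S₀ ≤ (R : Subgroup ↥M) → (↥S₀ ≃* DihedralGroup m) → 2 ≤ m → ¬ (2 ∣ (S₀.subgroupOf G₀).index) →
      IsFactor (G₀.map M.subtype) := by
    intro G₀ S₀ m hG₀ hp₀ hSG hSR f hm hi
    haveI := hG₀
    let φ : ↥G₀ ≃* ↥(G₀.map M.subtype) := G₀.equivMapOfInjective _ M.subtype_injective
    have hR₀ : IsPGroup 2 ↥(S₀.subgroupOf G₀) :=
      (R.2.to_le hSR).comap_of_injective G₀.subtype G₀.subtype_injective
    have hO₀ : Cfsg.oddCore ↥G₀ = ⊥ := by
      refine (map_eq_bot_iff_of_injective _ G₀.subtype_injective).1 (le_bot_iff.1 (hO ▸ Cores.le_pPrimeCore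
        (Cores.map_subtype_normal_of_characteristic G₀ _) ?_))
      rw [Cores.card_map_subtype]
      exact Cores.coprime_card_pPrimeCore 2
    obtain ⟨hs, hor⟩ := recog hO₀ hp₀ (hR₀.toSylow hi) hm ⟨(subgroupOfEquivOfLe hSG).trans f⟩
    haveI := hs
    refine ⟨φ.symm.isSimpleGroup, ?_, ?_⟩
    · rw [_root_.commutator_def, ← map_top_of_surjective φ.toMonoidHom φ.surjective, ← map_commutator,
        ← _root_.commutator_def, hp₀]
    · rcases hor with ⟨F, _, _, ho, h3, ⟨ψ⟩⟩ | ⟨⟨ψ⟩⟩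
      · exact Or.inl ⟨F, _, _, ho, h3, ⟨φ.symm.trans ψ⟩⟩
      · exact Or.inr ⟨φ.symm.trans ψ⟩
  have hne : ∀ {T : Subgroup ↥M} {m : ℕ}, (↥T ≃* DihedralGroup m) → 2 ≤ m → T.map M.subtype ≠ ⊥ := by
    intro T m f hm e
    have h := Cores.card_map_subtype M T
    rw [e, card_bot, Nat.card_congr f.toEquiv, DihedralGroup.nat_card] at h
    omega
  refine ⟨M, G₁.map M.subtype, G₂.map M.subtype, S₁.map M.subtype, S₂.map M.subtype, hMn, ?_, ?_,
    map_mono hS₁, map_mono hS₂, hne f₁ hm₁, hne f₂ hm₂,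
    hfac G₁ S₁ m₁ hG₁ (perfect_factor hG hp) hS₁ hS.1 f₁ hm₁ hi₁,
    hfac G₂ S₂ m₂ hG₂ (perfect_factor (swap_product hG) hp) hS₂ hS.2.1 f₂ hm₂ hi₂⟩
  · have h := IsInternalDirectProduct.map' hG M.subtype M.subtype_injective
    rwa [← MonoidHom.range_eq_map, range_subtype] at h
  · have h := IsInternalDirectProduct.map' hS M.subtype M.subtype_injective
    rwa [hR', map_subgroupOf_eq_of_le hPM] at h

/-- The two simple subgroups. -/
theorem exists_pair_large (hn : 8 ≤ n) :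
    ∃ N₁ N₂ : Subgroup (Q ⧸ cd.Z), N₁.Normal ∧ N₂.Normal ∧ (∀ a ∈ N₁, ∀ b ∈ N₂, Commute a b) ∧
      cd.P0.map cd.pr ≤ N₁ ⊔ N₂ ∧ N₁ ≠ ⊥ ∧ N₂ ≠ ⊥ ∧
      (∃ (F : Type) (_ : Field F) (_ : Fintype F), Odd (Fintype.card F) ∧ 3 < Fintype.card F ∧
        Nonempty (↥N₁ ≃* Matrix.ProjectiveSpecialLinearGroup (Fin 2) F)) ∧
      (∃ (F : Type) (_ : Field F) (_ : Fintype F), Odd (Fintype.card F) ∧ 3 < Fintype.card F ∧
        Nonempty (↥N₂ ≃* Matrix.ProjectiveSpecialLinearGroup (Fin 2) F)) := by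
  classical
  haveI := Fact.mk Nat.prime_two
  have := cd.D.ne_zero
  have h4 := cd.D.four_dvd
  obtain ⟨s, hs2, hns⟩ := cd.D.exists_two_pow cd.P.2
  obtain ⟨hsplit, hA₁, hA₂⟩ := cd.exists_split
  obtain ⟨⟨e₁⟩, ⟨e₂⟩⟩ := cd.dihedral_D
  obtain ⟨M, N₁, N₂, T₁, T₂, hMn, hN, hT, hT₁, hT₂, hT₁b, hT₂b, hF₁, hF₂⟩ := cd.exists_factors hn
  have hN₁b : N₁ ≠ ⊥ := fun e => hT₁b (le_bot_iff.1 (e ▸ hT₁))
  have hN₂b : N₂ ≠ ⊥ := fun e => hT₂b (le_bot_iff.1 (e ▸ hT₂))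
  set u := cd.D.E (1, 0) false false
  have hfu : cd.f u = Multiplicative.ofAdd 1 := by rw [cd.f_E]; simp
  have hN12 : N₁ ≠ N₂ := fun e => hN₁b (le_bot_iff.1 (hN.2.2.2.1 ▸ le_inf le_rfl e.le))
  -- the action on the two factors
  let cj : Q → Subgroup (Q ⧸ cd.Z) → Subgroup (Q ⧸ cd.Z) :=
    fun g A => A.map (MulAut.conj (cd.pr g)).toMonoidHom
  have cj_mul : ∀ a b A, cj (a * b) A = cj a (cj b A) := fun a b A => by
    show A.map _ = (A.map _).map _
    rw [Subgroup.map_map]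
    congr 1
    refine MonoidHom.ext fun x => ?_
    simp only [MonoidHom.comp_apply, MulEquiv.coe_toMonoidHom, map_mul, MulAut.mul_apply]
  have cj_inj : ∀ g, Function.Injective (cj g) := fun g => map_injective (MulAut.conj (cd.pr g)).injective
  have or₁ : ∀ g, cj g N₁ = N₁ ∨ cj g N₁ = N₂ := fun g => conj_eq_or hMn hN hF₁.1 hF₁.2.1 hF₂.1 _
  have or₂ : ∀ g, cj g N₂ = N₂ ∨ cj g N₂ = N₁ := fun g =>
    conj_eq_or hMn (swap_product hN) hF₂.1 hF₂.2.1 hF₁.1 _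
  have two_of : ∀ g, (cj g N₁ = N₁ → cj g N₂ = N₂) ∧ (cj g N₁ = N₂ → cj g N₂ = N₁) := fun g =>
    ⟨fun e => (or₂ g).resolve_right fun e' => hN12 ((cj_inj g) (e.trans e'.symm)),
      fun e => (or₂ g).resolve_left fun e' => hN12 ((cj_inj g) (e.trans e'.symm))⟩
  have hfix₁ : ∀ g ∈ cd.f.ker, cj g N₁ = N₁ := by
    let φ : ↥cd.f.ker →* Z₂ := MonoidHom.mk'
      (fun g => if cj g N₁ = N₁ then 1 else Multiplicative.ofAdd 1) fun a b => by
        rw [Subgroup.coe_mul, cj_mul]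
        rcases or₁ (b : Q) with eb | eb <;> rcases or₁ (a : Q) with ea | ea <;> rw [eb] <;>
          simp [ea, (two_of (a : Q)).1, (two_of (a : Q)).2, hN12.symm, z₂_mul_self]
    intro g hg
    have h := DFunLike.congr_fun (cd.no_two φ) ⟨g, hg⟩
    simp only [φ, MonoidHom.mk'_apply, MonoidHom.one_apply] at h
    by_contra hne
    rw [if_neg hne] at h
    exact z₂_one_ne h
  have hu₁ : cj u N₁ = N₁ := by
    refine (or₁ u).resolve_right fun hsw => ?_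
    have hsw' : cj u N₂ = N₁ := (two_of u).2 hsw
    have hPu : ∀ x ∈ cd.P0.map cd.pr, cd.pr u * x * (cd.pr u)⁻¹ ∈ cd.P0.map cd.pr := by
      rintro _ ⟨y, hy, rfl⟩
      exact ⟨u * y * u⁻¹, ⟨(cd.P : Subgroup Q).mul_mem ((cd.P : Subgroup Q).mul_mem (cd.D.E_mem _ _ _) hy.1) ((cd.P : Subgroup Q).inv_mem (cd.D.E_mem _ _ _)),
        (MonoidHom.normal_ker cd.f).conj_mem y hy.2 u⟩, by rw [map_mul, map_mul, map_inv]⟩
    have hmove : ∀ (A B TA TB : Subgroup (Q ⧸ cd.Z)), TA ≤ A → TB ≤ B → cj u A = B →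
        IsInternalDirectProduct A B M → IsInternalDirectProduct TA TB (cd.P0.map cd.pr) →
        ∀ x ∈ TA, cd.pr u * x * (cd.pr u)⁻¹ ∈ TB := by
      intro A B TA TB hA hB e hAB hTT x hx
      obtain ⟨a, ha, b, hb, hab⟩ := internal_exists hTT (hPu x (hTT.1 hx))
      have hxB : cd.pr u * x * (cd.pr u)⁻¹ ∈ B := e ▸ ⟨x, hA hx, rfl⟩
      have := internal_unique hAB A.one_mem (hA ha) hxB (hB hb) (by rw [one_mul, hab])
      rw [hab, ← this.1, one_mul]
      exact hb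
    have hm12 := hmove N₁ N₂ T₁ T₂ hT₁ hT₂ hsw hN hT
    have hm21 := hmove N₂ N₁ T₂ T₁ hT₂ hT₁ hsw' (swap_product hN) (swap_product hT)
    have hle : ∀ {A B : Subgroup (Q ⧸ cd.Z)}, (∀ x ∈ A, cd.pr u * x * (cd.pr u)⁻¹ ∈ B) → Nat.card A ≤ Nat.card B :=
      fun {A B} h => Nat.card_le_card_of_injective
        (fun x : A => (⟨cd.pr u * x * (cd.pr u)⁻¹, h x x.2⟩ : B)) fun x y e =>
          Subtype.ext (mul_left_cancel (mul_right_cancel (congrArg Subtype.val e)))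
    have hc12 : Nat.card T₁ = Nat.card T₂ := le_antisymm (hle hm12) (hle hm21)
    have hcard : Nat.card T₁ * Nat.card T₂ = 2 * (n / 2) * (2 * (n / 2)) := by
      rw [← card_internal hT, card_internal hsplit, Nat.card_congr e₁.toEquiv, Nat.card_congr e₂.toEquiv,
        DihedralGroup.nat_card]
    rw [← hc12, Nat.mul_self_inj] at hcard
    -- the image of the torus is centralised by `u`
    have hex : ∀ kl : Fin (n / 2) × Fin (n / 2), ∃ a : T₁, ∃ b ∈ T₂,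
        cd.pr (cd.A₁ ^ (kl.1 : ℕ)) * cd.pr (cd.A₂ ^ (kl.2 : ℕ)) = a * b := fun kl => by
      obtain ⟨a, ha, b, hb, e⟩ := internal_exists hT (x := cd.pr (cd.A₁ ^ (kl.1 : ℕ)) * cd.pr (cd.A₂ ^ (kl.2 : ℕ)))
        (mul_mem (mem_map_of_mem _ (pow_mem cd.A₁_mem _)) (mem_map_of_mem _ (pow_mem cd.A₂_mem _)))
      exact ⟨⟨a, ha⟩, b, hb, e⟩
    choose F B hB hFB using hex
    have hB' : ∀ kl, B kl = cd.pr u * (F kl : Q ⧸ cd.Z) * (cd.pr u)⁻¹ := fun kl => by
      have hcomm : Commute (cd.pr u) (F kl * B kl) := by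
        rw [← hFB kl]
        rw [map_pow, map_pow]
        exact ((cd.u_A₁.map cd.pr).pow_right _).mul_right ((cd.u_A₂.map cd.pr).pow_right _)
      have h1 := hcomm.eq
      have h2 : (cd.pr u * B kl * (cd.pr u)⁻¹) * (cd.pr u * F kl * (cd.pr u)⁻¹) = F kl * B kl := by
        rw [show ∀ a b c : Q ⧸ cd.Z, a * b * a⁻¹ * (a * c * a⁻¹) = a * (b * c) * a⁻¹ from fun a b c => by group,
          ← hT.2.2.1 _ (F kl).2 _ (hB kl), h1, mul_inv_cancel_right]
      exact (internal_unique hT (hm21 _ (hB kl)) (F kl).2 (hm12 _ (F kl).2) (hB kl) h2).2.symm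
    have hinj : Function.Injective F := by
      intro x y e
      have h1 : cd.pr (cd.A₁ ^ (x.1 : ℕ)) * cd.pr (cd.A₂ ^ (x.2 : ℕ)) =
          cd.pr (cd.A₁ ^ (y.1 : ℕ)) * cd.pr (cd.A₂ ^ (y.2 : ℕ)) := by
        rw [hFB, hFB, hB', hB', e]
      have hA : ∀ k : ℕ, cd.pr (cd.A₁ ^ k) ∈ cd.D₁ := fun k => by rw [map_pow]; exact pow_mem cd.A_mem_D₁ k
      have hA' : ∀ k : ℕ, cd.pr (cd.A₂ ^ k) ∈ cd.D₂ := fun k => by rw [map_pow]; exact pow_mem cd.A_mem_D₂ k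
      obtain ⟨ea, eb⟩ := internal_unique hsplit (hA _) (hA _) (hA' _) (hA' _) h1
      rw [map_pow, map_pow] at ea eb
      exact Prod.ext
        (Fin.ext (pow_injOn_Iio_orderOf (by rw [hA₁]; exact x.1.2) (by rw [hA₁]; exact y.1.2) ea))
        (Fin.ext (pow_injOn_Iio_orderOf (by rw [hA₂]; exact x.2.2) (by rw [hA₂]; exact y.2.2) eb))
    have h := Nat.card_le_card_of_injective F hinj
    rw [Nat.card_prod, Nat.card_fin, hcard] at h
    have h3 : 4 ≤ n / 2 := by omega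
    nlinarith
  have hNn : ∀ A : Subgroup (Q ⧸ cd.Z), (∀ g ∈ cd.f.ker, cj g A = A) → cj u A = A → A.Normal := fun A hk hu =>
    cd.fix_all (fun g hg x hx => by nth_rewrite 1 [← hk g hg]; exact ⟨x, hx, rfl⟩)
      (fun x hx => by nth_rewrite 1 [← hu]; exact ⟨x, hx, rfl⟩)
  have hn₁ : N₁.Normal := hNn N₁ hfix₁ hu₁
  have hn₂ : N₂.Normal := hNn N₂ (fun g hg => (two_of g).1 (hfix₁ g hg)) ((two_of u).1 hu₁)
  -- no `A₇`
  have hA7 : ∀ (A T : Subgroup (Q ⧸ cd.Z)), A.Normal → IsFactor A → T ≤ A → T ≠ ⊥ → T ≤ cd.P0.map cd.pr →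
      ∃ (F : Type) (_ : Field F) (_ : Fintype F), Odd (Fintype.card F) ∧ 3 < Fintype.card F ∧
        Nonempty (↥A ≃* Matrix.ProjectiveSpecialLinearGroup (Fin 2) F) := by
    rintro A T hAn ⟨hAs, hAp, hor⟩ hTA hTb hTP
    refine hor.resolve_right fun ⟨ψ⟩ => ?_
    haveI := hAn
    haveI := hAs
    let θ : Q →* MulAut (alternatingGroup (Fin 7)) :=
      (MulAut.congr ψ).toMonoidHom.comp ((MulAut.conjNormal : Q ⧸ cd.Z →* MulAut ↥A).comp cd.pr)
    have hun : u ^ n = 1 := by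
      show cd.D.E (1, 0) false false ^ n = 1
      rw [Gens.E_u]; exact cd.D.u_pow
    have hu4 : θ u ^ 4 = 1 := QGroup.mulAut_alt_seven_pow_four (θ u) (j := s) (by
      rw [← hns, ← map_pow, hun, map_one])
    have he : θ cd.D.e = 1 := by
      have hse : cd.D.e = (u ^ 4) ^ (n / 8) := by
        have h8 : 8 ∣ n := hns ▸ (show 2 ^ 3 ∣ 2 ^ s from pow_dvd_pow 2 (by
          by_contra h; interval_cases s; omega))
        rw [← pow_mul, show 4 * (n / 8) = n / 2 by omega, Gens.E_pow, Gens.e]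
        simp
      rw [hse, map_pow, map_pow, hu4, one_pow]
    have hconj : MulAut.conjNormal (H := A) (cd.pr cd.D.e) = 1 :=
      (MulAut.congr ψ).injective (he.trans (map_one _).symm)
    have hC : cd.pr cd.D.e ∈ centralizer (A : Set (Q ⧸ cd.Z)) := mem_centralizer_iff.2 fun x hx => by
      have h := congrArg Subtype.val (MulEquiv.congr_fun hconj ⟨x, hx⟩)
      rw [MulAut.conjNormal_apply] at h
      exact (mul_inv_eq_iff_eq_mul.1 h).symm
    have hle := cd.even_le_of_e ((inferInstance : (centralizer (A : Set (Q ⧸ cd.Z))).Normal).comap cd.pr) hC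
    refine hTb (le_bot_iff.1 fun x hx => ?_)
    have hxc : (⟨x, hTA hx⟩ : ↥A) ∈ center ↥A := mem_center_iff.2 fun y => Subtype.ext (by
      exact mem_centralizer_iff.1 (map_le_iff_le_comap.2 hle (hTP hx)) y y.2)
    rw [center_eq_bot_of_perfect hAp, mem_bot] at hxc
    exact congrArg Subtype.val hxc
  refine ⟨N₁, N₂, hn₁, hn₂, hN.2.2.1, hT.2.2.2.2 ▸ sup_le_sup hT₁ hT₂, hN₁b, hN₂b,
    hA7 N₁ T₁ hn₁ hF₁ hT₁ hT₁b hT.1, hA7 N₂ T₂ hn₂ hF₂ hT₂ hT₂b hT.2.1⟩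

include cd in
/-- The conclusion for `n ≥ 8`. -/
theorem main_large (hn : 8 ≤ n) :
    ∃ L₁ L₂ : Subgroup Q, L₁.Normal ∧ L₂.Normal ∧
      (∃ (F₁ : Type) (_ : Field F₁) (_ : Fintype F₁), Odd (Fintype.card F₁) ∧
        Nonempty (↥L₁ ≃* Matrix.SpecialLinearGroup (Fin 2) F₁)) ∧
      (∃ (F₂ : Type) (_ : Field F₂) (_ : Fintype F₂), Odd (Fintype.card F₂) ∧
        Nonempty (↥L₂ ≃* Matrix.SpecialLinearGroup (Fin 2) F₂)) ∧
      ⁅L₁, L₂⁆ = ⊥ ∧ L₁ ⊔ L₂ = commutator Q := by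
  obtain ⟨N₁, N₂, hn₁, hn₂, hc, hP, hb₁, hb₂, ⟨F₁, _, _, ho₁, h3₁, ⟨φ₁⟩⟩, ⟨F₂, _, _, ho₂, h3₂, ⟨φ₂⟩⟩⟩ :=
    cd.exists_pair_large hn
  obtain ⟨s₁, hp₁⟩ := cd.side_of_simple hn₁ hb₁ ho₁ h3₁ φ₁
  obtain ⟨s₂, -⟩ := cd.side_of_simple hn₂ hb₂ ho₂ h3₂ φ₂
  refine cd.conclude s₁ s₂ (fun a ha b hb => ?_) ?_
  · refine (commute_of_perfect_mod hp₁ (fun k hk => cd.Z_le_center (cd.pr_eq_one.1 ?_)) a ha).symm
    rw [map_commutatorElement]
    exact commutatorElement_eq_one_iff_mul_comm.2 (hc _ hk _ hb).symm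
  · have hmap : (N₁.comap cd.pr ⊔ N₂.comap cd.pr).map cd.pr = N₁ ⊔ N₂ := by
      rw [Subgroup.map_sup, map_comap_eq_self_of_surjective cd.pr_surj, map_comap_eq_self_of_surjective cd.pr_surj]
    intro x hx
    have hx' : cd.pr x ∈ (N₁.comap cd.pr ⊔ N₂.comap cd.pr).map cd.pr := hmap ▸ hP (mem_map_of_mem _ hx)
    obtain ⟨y, hy, hyx⟩ := hx'
    obtain ⟨c, hc', rfl⟩ := cd.pr_eq.1 hyx
    exact mul_mem hy ((le_sup_left : N₁.comap cd.pr ≤ N₁.comap cd.pr ⊔ N₂.comap cd.pr)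
      (show cd.pr c ∈ N₁ by rw [cd.pr_eq_one.2 hc']; exact one_mem _))

end CentData

end Cfsg.Agent.G2TypeFusion
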