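import Cfsg.Agent.Lib.G2TypeFusion.FourClosed
import Cfsg.Agent.Lib.G2TypeFusion.FourSide
import Cfsg.Agent.Lib.G2TypeFusion.Recog
import Cfsg.Agent.Lib.G2TypeFusion.Large

/-!
# `C(z)/O` for `n = 4`, and the general conclusion

* `CentData.closure_cases` : each normal closure is a four-group or `PSL₂(q)`.
* `CentData.main` : the two factors `SL₂`.
-/

set_option autoImplicit false

namespace Cfsg.Agent.G2TypeFusion

open Cfsg Subgroup
open scoped commutatorElement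

variable {Q : Type*} [Group Q] [Finite Q] {n : ℕ}

namespace Gens

variable {G : Type*} [Group G]

/-- The only central involution of `S` is `z`. -/
theorem eq_z_of_central {S : Subgroup G} (D : Gens S n) {p : ZMod n × ZMod n} {i j : Bool}
    (h2 : orderOf (el D.u D.v D.w D.s p i j) = 2)
    (hc : ∀ x ∈ S, x * el D.u D.v D.w D.s p i j = el D.u D.v D.w D.s p i j * x) :
    el D.u D.v D.w D.s p i j = D.z := by
  change orderOf (D.E p i j) = 2 at h2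
  change D.E p i j = D.z
  have e1 : D.E (1, 0) false false * D.E p i j = D.E p i j * D.E (1, 0) false false := hc _ (D.E_mem _ _ _)
  have e2 : D.E 0 true false * D.E p i j = D.E p i j * D.E 0 true false := hc _ (D.E_mem _ _ _)
  have e3 : D.E 0 false true * D.E p i j = D.E p i j * D.E 0 false true := hc _ (D.E_mem _ _ _)
  rw [E_mul, E_mul] at e1 e2 e3
  have p1 := (D.E_inj e1).1
  have p2 := (D.E_inj e2).1
  have p3 := (D.E_inj e3).1
  have hn := D.four_le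
  haveI : Fact (1 < n) := ⟨by omega⟩
  have htwo : (1 : ZMod n) + 1 ≠ 0 := fun e => by
    have h1 : ((2 : ℕ) : ZMod n) = 0 := by rw [← one_add_one_eq_two, Nat.cast_add, Nat.cast_one, e]
    rw [ZMod.natCast_eq_zero_iff] at h1
    exact absurd (Nat.le_of_dvd (by norm_num) h1) (by omega)
  obtain ⟨a, b⟩ := p
  cases i <;> cases j <;> simp [act, Prod.ext_iff] at p1 p2 p3
  · have hab : a = b := p3.2
    subst hab
    have ha : a + a = 0 := by linear_combination -p2.1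
    rcases D.two_torsion ha with rfl | rfl
    · rw [show ((0 : ZMod n), (0 : ZMod n)) = 0 from rfl, E_one, orderOf_one] at h2
      omega
    · rfl
  all_goals
    refine absurd ?_ htwo
    first
      | linear_combination p1
      | linear_combination p1.1
      | linear_combination (-1 : ZMod n) * p1.1
      | linear_combination p1.2
      | linear_combination (-1 : ZMod n) * p1.2

end Gens

namespace CentData

variable (cd : CentData Q n)

/-- The goal. -/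
def Goal (_ : CentData Q n) : Prop :=
  ∃ L₁ L₂ : Subgroup Q, L₁.Normal ∧ L₂.Normal ∧
    (∃ (F₁ : Type) (_ : Field F₁) (_ : Fintype F₁), Odd (Fintype.card F₁) ∧
      Nonempty (↥L₁ ≃* Matrix.SpecialLinearGroup (Fin 2) F₁)) ∧
    (∃ (F₂ : Type) (_ : Field F₂) (_ : Fintype F₂), Odd (Fintype.card F₂) ∧
      Nonempty (↥L₂ ≃* Matrix.SpecialLinearGroup (Fin 2) F₂)) ∧
    ⁅L₁, L₂⁆ = ⊥ ∧ L₁ ⊔ L₂ = commutator Q

/-- A factor commutes with what commutes with it modulo `z`. -/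
theorem side_commute {K L : Subgroup Q} (s : cd.Side K L) {r : Q} (h : ∀ k ∈ L, ⁅r, k⁆ ∈ cd.Z) :
    ∀ k ∈ L, Commute r k := by
  obtain ⟨F, _, _, hodd, ⟨φ⟩⟩ := s.sl
  let ψ : ↥L →* ↥cd.Z := MonoidHom.mk' (fun k => ⟨⁅r, (k : Q)⁆, h k k.2⟩) fun a b => Subtype.ext (by
    have e := mem_center_iff.1 (cd.Z_le_center (h b b.2)) (a : Q)⁻¹
    show ⁅r, (a : Q) * b⁆ = ⁅r, (a : Q)⁆ * ⁅r, (b : Q)⁆
    rw [commutatorElement_def, commutatorElement_def, commutatorElement_def] at *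
    calc r * (a * b) * r⁻¹ * (a * b : Q)⁻¹
        = r * a * r⁻¹ * ((r * b * r⁻¹ * (b : Q)⁻¹) * (a : Q)⁻¹) := by group
      _ = r * a * r⁻¹ * ((a : Q)⁻¹ * (r * b * r⁻¹ * (b : Q)⁻¹)) := by rw [e]
      _ = _ := by group)
  have h1 := QGroup.sl_two_hom_two_group hodd (IsPGroup.of_card (n := 1) (by rw [cd.card_Z, pow_one]))
    (ψ.comp φ.symm.toMonoidHom)
  intro k hk
  have h2 := DFunLike.congr_fun h1 (φ ⟨k, hk⟩)
  simp only [MonoidHom.comp_apply, MulEquiv.coe_toMonoidHom, MulEquiv.symm_apply_apply, MonoidHom.one_apply] at h2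
  exact commutatorElement_eq_one_iff_mul_comm.1 (congrArg Subtype.val h2)

/-- Covering upstairs. -/
theorem cover_comap {N₁ N₂ : Subgroup (Q ⧸ cd.Z)} (h : cd.P0.map cd.pr ≤ N₁ ⊔ N₂) :
    cd.P0 ≤ N₁.comap cd.pr ⊔ N₂.comap cd.pr := by
  intro x hx
  have hmap : (N₁.comap cd.pr ⊔ N₂.comap cd.pr).map cd.pr = N₁ ⊔ N₂ := by
    rw [Subgroup.map_sup, map_comap_eq_self_of_surjective cd.pr_surj, map_comap_eq_self_of_surjective cd.pr_surj]
  obtain ⟨y, hy, e⟩ := hmap ▸ h (mem_map_of_mem _ hx)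
  obtain ⟨c, hc, rfl⟩ := cd.pr_eq.1 e
  refine mul_mem hy ((le_sup_left : N₁.comap cd.pr ≤ N₁.comap cd.pr ⊔ N₂.comap cd.pr) ?_)
  show cd.pr c ∈ N₁
  rw [cd.pr_eq_one.2 hc]; exact one_mem _

/-- A normal closure is a four-group or simple. -/
theorem closure_cases {N D : Subgroup (Q ⧸ cd.Z)} (hN : N.Normal) (hX : N ≤ cd.X1)
    (hinf : cd.P0.map cd.pr ⊓ N = D) (hmin : ∀ T : Subgroup (Q ⧸ cd.Z), T.Normal → D ≤ T → N ≤ T)
    (hD : ClosedPair.IsFour D) (e : Nonempty (↥D ≃* DihedralGroup 2)) :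
    N = D ∨ (N ≠ ⊥ ∧ ∃ (F : Type) (_ : Field F) (_ : Fintype F), Odd (Fintype.card F) ∧ 3 < Fintype.card F ∧
      Nonempty (↥N ≃* Matrix.ProjectiveSpecialLinearGroup (Fin 2) F)) := by
  haveI := Fact.mk Nat.prime_two
  haveI := hN
  have hDN : D ≤ N := hinf ▸ inf_le_right
  set PX := cd.P.mapSurjective cd.pr_surj
  have hPX : ∀ T : Subgroup (Q ⧸ cd.Z), T ≤ N → (PX : Subgroup (Q ⧸ cd.Z)) ⊓ T ≤ D := by
    rintro T hT x ⟨⟨y, hy, rfl⟩, hxT⟩
    rw [← hinf]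
    exact ⟨⟨y, ⟨hy, cd.comap_X1 ▸ (show y ∈ cd.X1.comap cd.pr from hX (hT hxT))⟩, rfl⟩, hT hxT⟩
  have hTn : (⁅N, N⁆).Normal := inferInstance
  have hTN : ⁅N, N⁆ ≤ N := commutator_le_self N
  by_cases hab : ⁅N, N⁆ = ⊥
  · left
    have hc : ∀ a ∈ N, ∀ b ∈ N, Commute a b := fun a ha b hb =>
      commutatorElement_eq_one_iff_mul_comm.1 (mem_bot.1 (hab ▸ commutator_mem_commutator ha hb))
    let Ω : Subgroup (Q ⧸ cd.Z) :=
      { carrier := {x | x ∈ N ∧ x * x = 1}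
        mul_mem' := fun {a b} ha hb => ⟨mul_mem ha.1 hb.1, by
          rw [show a * b * (a * b) = a * (b * a) * b by group, ← (hc a ha.1 b hb.1).eq,
            show a * (a * b) * b = a * a * (b * b) by group, ha.2, hb.2, one_mul]⟩
        one_mem' := ⟨one_mem _, one_mul 1⟩
        inv_mem' := fun {a} ha => ⟨inv_mem ha.1, by rw [← mul_inv_rev, ha.2, inv_one]⟩ }
    have hΩn : Ω.Normal := ⟨fun x hx g => ⟨hN.conj_mem x hx.1 g, by
      rw [show g * x * g⁻¹ * (g * x * g⁻¹) = g * (x * x) * g⁻¹ by group, hx.2, mul_one, mul_inv_cancel]⟩⟩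
    have hle := hmin Ω hΩn fun x hx => ⟨hDN hx, hD.sq x hx⟩
    have hp : IsPGroup 2 ↥N := fun x => ⟨1, Subtype.ext (by
      show (x : Q ⧸ cd.Z) ^ 2 ^ 1 = 1
      rw [pow_one, pow_two, (hle x.2).2])⟩
    exact le_antisymm (fun x hx => hPX N le_rfl ⟨(Cores.le_pCore hN hp).trans (Cores.pCore_le_sylow PX) hx, hx⟩) hDN
  right
  have hperf : ⁅N, N⁆ = N := by
    obtain ⟨T, hT⟩ := QGroup.exists_sylow_subgroupOf PX ⁅N, N⁆
    by_cases hDT : D ≤ ⁅N, N⁆
    · exact le_antisymm hTN (hmin _ hTn hDT)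
    exfalso
    set S := (PX : Subgroup (Q ⧸ cd.Z)) ⊓ ⁅N, N⁆ with hS
    have hSc : Nat.card ↥(T : Subgroup ↥⁅N, N⁆) = Nat.card S := by
      rw [hT, ← Cores.card_map_subtype, subgroupOf_map_subtype]
    have hlt : Nat.card S < 4 := by
      by_contra hge
      have := eq_of_le_of_card_ge (hPX _ hTN) (show Nat.card D ≤ Nat.card S by rw [hD.card]; omega)
      exact hDT (this ▸ inf_le_right)
    have hdvd : Nat.card S ∣ 4 := hD.card ▸ card_dvd_of_le (hPX _ hTN)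
    have hS1 : Nat.card S ≠ 1 := fun h1 => by
      apply hab
      refine cd.odd_eq_bot_quot hTn (Nat.prime_two.coprime_iff_not_dvd.2 ?_).symm
      have hidx := T.not_dvd_index
      rw [← (T : Subgroup ↥⁅N, N⁆).card_mul_index, hSc, h1, one_mul]
      exact hidx
    have hS2 : Nat.card S = 2 := by
      have : Nat.card S ≠ 0 := Nat.card_pos.ne'
      interval_cases h : Nat.card S <;> first | rfl | omega
    have hc : normalizer ((T : Subgroup ↥⁅N, N⁆) : Set ↥⁅N, N⁆) ≤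
        centralizer ((T : Subgroup ↥⁅N, N⁆) : Set ↥⁅N, N⁆) := fun y hy x hx => by
      by_cases hx1 : x = 1
      · rw [hx1, mul_one, one_mul]
      obtain ⟨a, -, ha⟩ := (Nat.card_eq_two_iff' (1 : ↥(T : Subgroup ↥⁅N, N⁆))).1 (hSc.trans hS2)
      have h1 := ha ⟨x, hx⟩ fun e => hx1 (congrArg Subtype.val e)
      have h2 := ha ⟨y * x * y⁻¹, (mem_normalizer_iff.1 hy x).1 hx⟩ fun e => hx1 (conj_eq_one_iff.1 (congrArg Subtype.val e))
      exact (mul_inv_eq_iff_eq_mul.1 (congrArg Subtype.val (h2.trans h1.symm))).symm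
    have hker : (MonoidHom.transferSylow T hc).ker = ⊥ := by
      have hb : (Cfsg.pPrimeCore 2 ↥⁅N, N⁆).map (⁅N, N⁆).subtype = ⊥ := by
        refine cd.odd_eq_bot_quot (Cores.map_subtype_normal_of_characteristic _ _) ?_
        rw [Cores.card_map_subtype]
        exact Cores.coprime_card_pPrimeCore 2
      rw [map_eq_bot_iff_of_injective _ (⁅N, N⁆).subtype_injective] at hb
      refine le_bot_iff.1 (hb ▸ Cores.le_pPrimeCore inferInstance ?_)
      exact (Nat.prime_two.coprime_iff_not_dvd.2 (MonoidHom.not_dvd_card_ker_transferSylow T hc)).symm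
    have hc' := MonoidHom.ker_transferSylow_isComplement' T hc
    rw [hker, isComplement'_bot_left] at hc'
    refine cd.no_order_two hTn (hTN.trans hX) ?_
    rw [← hS2, ← hSc, hc', card_top]
  refine ⟨fun e' => hab (by rw [e', commutator_bot_left]), ?_⟩
  obtain ⟨R, hR⟩ := QGroup.exists_sylow_subgroupOf PX N
  have hRD : (R : Subgroup ↥N) = D.subgroupOf N := by
    rw [hR]
    ext x
    rw [mem_subgroupOf, mem_subgroupOf]
    refine ⟨fun h => hPX N le_rfl ⟨h, x.2⟩, fun h => ?_⟩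
    rw [← hinf] at h
    exact map_mono inf_le_left h.1
  have hp : commutator ↥N = ⊤ := map_injective N.subtype_injective (by
    rw [_root_.commutator_def, map_commutator, ← MonoidHom.range_eq_map, range_subtype, hperf])
  have hO : Cfsg.oddCore ↥N = ⊥ := by
    refine (map_eq_bot_iff_of_injective _ N.subtype_injective).1
      (cd.odd_eq_bot_quot (Cores.map_subtype_normal_of_characteristic N _) ?_)
    rw [Cores.card_map_subtype]
    exact Cores.coprime_card_pPrimeCore 2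
  obtain ⟨φ⟩ := e
  obtain ⟨-, h | ⟨⟨ψ⟩⟩⟩ := recog hO hp R (le_refl 2)
    ⟨((MulEquiv.subgroupCongr hRD).trans (subgroupOfEquivOfLe hDN)).trans φ⟩
  · exact h
  · exfalso
    have := alt_seven_sylow ψ R
    rw [hRD, Nat.card_congr (subgroupOfEquivOfLe hDN).toEquiv, hD.card] at this
    omega

/-- The four-group is generated by `A` and `R` upstairs. -/
theorem comap_le_closure {A R : Q} (hA : A * A = cd.D.z) {D : Subgroup (Q ⧸ cd.Z)}
    (hD : D = closure {cd.pr R, cd.pr (R * A)}) : D.comap cd.pr ≤ closure {A, R} := by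
  intro x hx
  have hle : D ≤ (closure ({A, R} : Set Q)).map cd.pr := by
    rw [hD, closure_le]
    rintro y (rfl | rfl)
    · exact mem_map_of_mem _ (subset_closure (Or.inr rfl))
    · exact mem_map_of_mem _ (mul_mem (subset_closure (Or.inr rfl)) (subset_closure (Or.inl rfl)))
  obtain ⟨y, hy, e⟩ := hle hx
  obtain ⟨c, hc, rfl⟩ := cd.pr_eq.1 e
  refine mul_mem hy ?_
  rcases cd.mem_Z.1 hc with rfl | rfl
  · exact one_mem _
  · exact hA ▸ mul_mem (subset_closure (Or.inl rfl)) (subset_closure (Or.inl rfl))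

theorem isFour_D (hn : n = 4) : ClosedPair.IsFour cd.D₁ ∧ ClosedPair.IsFour cd.D₂ :=
  ⟨⟨mul_comm_of_sq (cd.D_sq hn).1, (cd.D_sq hn).1, (cd.card_D hn).1⟩,
    ⟨mul_comm_of_sq (cd.D_sq hn).2, (cd.D_sq hn).2, (cd.card_D hn).2⟩⟩

/-- An element of the kernel moving one rotation and fixing the other. -/
theorem exists_move (hn : n = 4) {N₁ N₂ : Subgroup (Q ⧸ cd.Z)} (h₁ : N₁.Normal) (h₂ : N₂.Normal)
    (hc : ∀ a ∈ N₁, ∀ b ∈ N₂, Commute a b) (hd : N₁ ⊓ N₂ = ⊥) (hD₁ : cd.D₁ ≤ N₁) (hD₂ : cd.D₂ ≤ N₂) :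
    (∃ x ∈ cd.f.ker, cd.pr x * cd.pr cd.A₁ * (cd.pr x)⁻¹ = cd.pr cd.R₁ ∧
      cd.pr x * cd.pr cd.A₂ * (cd.pr x)⁻¹ = cd.pr cd.A₂) ∧
    ∃ x ∈ cd.f.ker, cd.pr x * cd.pr cd.A₂ * (cd.pr x)⁻¹ = cd.pr cd.R₂ ∧
      cd.pr x * cd.pr cd.A₁ * (cd.pr x)⁻¹ = cd.pr cd.A₁ := by
  have hI : IsInternalDirectProduct N₁ N₂ (N₁ ⊔ N₂) := ⟨le_sup_left, le_sup_right, hc, hd, rfl⟩
  have hA₁ := hD₁ cd.A_mem_D₁
  have hA₂ := hD₂ cd.A_mem_D₂
  have hR₁ : cd.pr cd.R₁ ∈ N₁ := hD₁ (subset_closure (Or.inl rfl))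
  have hR₂ : cd.pr cd.R₂ ∈ N₂ := hD₂ (subset_closure (Or.inl rfl))
  have key : ∀ (a b : Q), a ∈ cd.P0 → b ∈ cd.P0 → Commute a b → a * a = cd.D.z → b * b = cd.D.z →
      a * b ∉ cd.Z → cd.pr a ∈ N₁ → cd.pr b ∈ N₂ →
      ∃ x ∈ cd.f.ker, cd.pr x * cd.pr cd.A₁ * (cd.pr x)⁻¹ = cd.pr a ∧
        cd.pr x * cd.pr cd.A₂ * (cd.pr x)⁻¹ = cd.pr b := by
    intro a b ha hb hab haa hbb hne haN hbN
    obtain ⟨p, i, j, hp, he⟩ := cd.P0_cases (cd.P0.mul_mem ha hb)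
    have hsq : a * b * (a * b) = 1 := by
      rw [show a * b * (a * b) = a * (b * a) * b by group, ← hab.eq, show a * (a * b) * b = a * a * (b * b) by group,
        haa, hbb, cd.D.z_sq]
    obtain ⟨c, hc', hce⟩ := cd.fuse p i j hp (he ▸ hsq) (fun e => hne (by rw [he, e]; exact one_mem _))
      (fun e => hne (by rw [he, e]; exact cd.z_mem_Z))
    refine ⟨c⁻¹, inv_mem (MonoidHom.mem_ker.2 hc'), ?_⟩
    have e : cd.pr c⁻¹ * (cd.pr cd.A₁ * cd.pr cd.A₂) * (cd.pr c⁻¹)⁻¹ = cd.pr a * cd.pr b := by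
      rw [← map_mul, ← map_mul, ← map_inv, ← map_mul, ← map_mul, ← cd.e_eq hn, ← hce, ← he]
      congr 1
      group
    rw [show cd.pr c⁻¹ * (cd.pr cd.A₁ * cd.pr cd.A₂) * (cd.pr c⁻¹)⁻¹ =
      cd.pr c⁻¹ * cd.pr cd.A₁ * (cd.pr c⁻¹)⁻¹ * (cd.pr c⁻¹ * cd.pr cd.A₂ * (cd.pr c⁻¹)⁻¹) by group] at e
    exact internal_unique hI (h₁.conj_mem _ hA₁ _) haN (h₂.conj_mem _ hA₂ _) hbN e
  have hnot : ∀ {p : ZMod n × ZMod n} {i j : Bool}, i = true ∨ j = true → cd.D.E p i j ∉ cd.Z := by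
    intro p i j hij h
    rcases cd.mem_Z.1 h with e | e
    · obtain ⟨-, rfl, rfl⟩ := cd.D.E_eq_one.1 e
      simp at hij
    · exact cd.D.E_ne_z hij e
  refine ⟨key _ _ cd.R₁_mem cd.A₂_mem cd.R₁_A₂ cd.R₁_sq (cd.A₂_sq hn) ?_ hR₁ hA₂, ?_⟩
  · rw [R₁, A₂, Gens.E_mul]
    exact hnot (Or.inr rfl)
  · obtain ⟨x, hx, e1, e2⟩ := key _ _ cd.A₁_mem cd.R₂_mem cd.A₁_R₂ (cd.A₁_sq hn) cd.R₂_sq
      (by rw [A₁, R₂, Gens.E_mul]; exact hnot (Or.inl rfl)) hA₁ hR₂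
    exact ⟨x, hx, e2, e1⟩

/-- One factor over a normal four-group. -/
theorem side_four {A R B S : Q} {D D' N : Subgroup (Q ⧸ cd.Z)} (hA : A * A = cd.D.z) (hB : B * B = cd.D.z)
    (hR : R * R = cd.D.z) (hS : S * S = cd.D.z) (hRA : R * A * R⁻¹ = A⁻¹)
    (hAm : A ∈ cd.P0) (hRm : R ∈ cd.P0) (hDeq : D = closure {cd.pr R, cd.pr (R * A)})
    (hDeq' : D' = closure {cd.pr S, cd.pr (S * B)}) (hD : ClosedPair.IsFour D) (hD' : ClosedPair.IsFour D')
    (huA : Commute (cd.D.E (1, 0) false false) A)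
    (huR : cd.D.E (1, 0) false false * R * (cd.D.E (1, 0) false false)⁻¹ = A * R)
    (huB : Commute (cd.D.E (1, 0) false false) B)
    (huS : cd.D.E (1, 0) false false * S * (cd.D.E (1, 0) false false)⁻¹ = B * S)
    (hAB : Commute A B) (hAS : Commute A S) (hRB : Commute R B) (hRS : Commute R S)
    (hDn : D.Normal) (hN : N.Normal) (hNX : N ≤ cd.X1) (hDN : ∀ a ∈ D, ∀ b ∈ N, Commute a b)
    (hcov : cd.P0.map cd.pr ≤ D ⊔ N)
    (hcase : N = D' ∨ (N ≠ ⊥ ∧ ∃ (F : Type) (_ : Field F) (_ : Fintype F), Odd (Fintype.card F) ∧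
      3 < Fintype.card F ∧ Nonempty (↥N ≃* Matrix.ProjectiveSpecialLinearGroup (Fin 2) F)))
    (hx : ∃ x ∈ cd.f.ker, cd.pr x * cd.pr A * (cd.pr x)⁻¹ = cd.pr R ∧
      cd.pr x * cd.pr B * (cd.pr x)⁻¹ = cd.pr B) :
    cd.Side (D.comap cd.pr) (cd.f.ker ⊓ centralizer (N.comap cd.pr : Set Q)) := by
  obtain ⟨x, hxk, hxA, hxB⟩ := hx
  set u := cd.D.E (1, 0) false false
  have mk : (∀ a ∈ D.comap cd.pr, ∀ b ∈ N.comap cd.pr, Commute a b) →
      (∃ l ∈ N.comap cd.pr, l ∈ commutator Q ∧ ∀ b ∈ N, Commute (cd.pr (⁅u, x⁆ * l⁻¹)) b) →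
      cd.Side (D.comap cd.pr) (cd.f.ker ⊓ centralizer (N.comap cd.pr : Set Q)) := fun hc ht =>
    Four.side (A := A) (R := R) ⟨hA, hR, hRA, hAm, hRm, hDeq, hD, hDn, hN, hNX, hc, hcov, huA, huR,
      ⟨x, hxk, hxA, ht⟩⟩
  rcases hcase with rfl | ⟨hne, F, _, _, hodd, h3, ⟨φ⟩⟩
  · refine mk (fun a ha b hb => ?_) ⟨1, one_mem _, one_mem _, ?_⟩
    · have h1 := cd.comap_le_closure hA hDeq ha
      have h2 := cd.comap_le_closure hB hDeq' hb
      have hle : closure ({A, R} : Set Q) ≤ centralizer (closure ({B, S} : Set Q) : Set Q) := by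
        rw [centralizer_closure, closure_le]
        rintro p (rfl | rfl) <;> refine mem_centralizer_iff.2 fun q hq => ?_ <;> rcases hq with rfl | rfl
        · exact hAB.eq.symm
        · exact hAS.eq.symm
        · exact hRB.eq.symm
        · exact hRS.eq.symm
      exact (mem_centralizer_iff.1 (hle h1) b h2).symm
    · intro b hb
      rw [inv_one, mul_one, map_commutatorElement]
      set a := cd.pr B
      set r := cd.pr S
      set U := cd.pr u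
      set X := cd.pr x
      have hrm : r ∈ N := hDeq' ▸ subset_closure (Or.inl rfl)
      have ham : a ∈ N := by
        show cd.pr B ∈ N
        rw [← cd.pr_R_mul (A := B) hS]
        exact N.mul_mem hrm (hDeq' ▸ subset_closure (Or.inr rfl))
      have hne1 : ∀ y : Q, y * y = cd.D.z → cd.pr y ≠ 1 := fun y hy e => by
        rcases cd.mem_Z.1 (cd.pr_eq_one.1 e) with e' | e'
        · rw [e', one_mul] at hy; exact cd.D.z_ne hy.symm
        · rw [e', cd.D.z_sq] at hy; exact cd.D.z_ne hy.symm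
      have hUa : U * a * U⁻¹ = a := by rw [(huB.map cd.pr).eq, mul_inv_cancel_right]
      have hUr : U * r * U⁻¹ = a * r := by rw [← map_inv, ← map_mul, ← map_mul, huS, map_mul]
      have hgen : ∀ y ∈ N, (U * X) * y * (U * X)⁻¹ = (X * U) * y * (X * U)⁻¹ := by
        have hr' : (U * X) * r * (U * X)⁻¹ = (X * U) * r * (X * U)⁻¹ := by
          have hcj : ∀ g h y : Q ⧸ cd.Z, g * h * y * (g * h)⁻¹ = g * (h * y * h⁻¹) * g⁻¹ := fun g h y => by group
          have hm : ∀ g y y' : Q ⧸ cd.Z, g * (y * y') * g⁻¹ = (g * y * g⁻¹) * (g * y' * g⁻¹) := fun g y y' => by group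
          have har : a ≠ r := fun e => by
            rw [← e, hUa, left_eq_mul] at hUr
            exact hne1 B hB hUr
          have hXr : X * r * X⁻¹ ∈ N := hN.conj_mem r hrm X
          rw [hcj, hcj, hUr, hm X, hxB]
          rcases hD'.eq_cases ham hrm (hne1 B hB) (hne1 S hS) har hXr with e | e | e | e
          · exact absurd (conj_eq_one_iff.1 e) (hne1 S hS)
          · exact absurd (mul_left_cancel (mul_right_cancel (e.trans hxB.symm))).symm har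
          · rw [e, hUr]
          · rw [e, hm U, hUa, hUr]
        have ha' : (U * X) * a * (U * X)⁻¹ = (X * U) * a * (X * U)⁻¹ := by
          rw [show U * X * a * (U * X)⁻¹ = U * (X * a * X⁻¹) * U⁻¹ by group, hxB, hUa,
            show X * U * a * (X * U)⁻¹ = X * (U * a * U⁻¹) * X⁻¹ by group, hUa, hxB]
        intro y hy
        have hle : N ≤ MonoidHom.eqLocus (MulAut.conj (U * X)).toMonoidHom (MulAut.conj (X * U)).toMonoidHom := by
          rw [hDeq', closure_le]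
          rintro z (rfl | rfl)
          · exact hr'
          · show MulAut.conj (U * X) (cd.pr (S * B)) = MulAut.conj (X * U) (cd.pr (S * B))
            rw [map_mul cd.pr, map_mul (MulAut.conj (U * X)), map_mul (MulAut.conj (X * U))]
            exact congrArg₂ (· * ·) hr' ha'
        exact hle hy
      have hb' := hgen _ (hN.conj_mem b hb ((X * U)⁻¹))
      refine mul_inv_eq_iff_eq_mul.1 ?_
      rw [commutatorElement_def]
      calc U * X * U⁻¹ * X⁻¹ * b * (U * X * U⁻¹ * X⁻¹)⁻¹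
          = (U * X) * ((X * U)⁻¹ * b * (X * U)⁻¹⁻¹) * (U * X)⁻¹ := by group
        _ = (X * U) * ((X * U)⁻¹ * b * (X * U)⁻¹⁻¹) * (X * U)⁻¹ := hb'
        _ = b := by group
  · obtain ⟨s, hp⟩ := cd.side_of_simple hN hne hodd h3 φ
    refine mk (fun a ha b hb => commute_of_perfect_mod hp (fun k hk => cd.Z_le_center (cd.pr_eq_one.1 ?_)) b hb) ?_
    · rw [map_commutatorElement]
      exact commutatorElement_eq_one_iff_mul_comm.2 (hDN _ ha _ hk)
    · have hcQ : ⁅u, x⁆ ∈ commutator Q := commutator_mem_commutator (mem_top _) (mem_top _)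
      obtain ⟨l, hl, hlc⟩ := s.inner _ hcQ
      refine ⟨l, hl, s.le_comm hl, fun b hb => ?_⟩
      obtain ⟨k, rfl⟩ := cd.pr_surj b
      exact (hlc k hb).map cd.pr

/-- The conclusion for `n = 4`. -/
theorem main_four (hn : n = 4) : cd.Goal := by
  obtain ⟨⟨hD₁P, hD₂P, hDc, hDd, hDsup⟩, -, -⟩ := cd.exists_split
  obtain ⟨hF₁, hF₂⟩ := cd.isFour_D hn
  obtain ⟨⟨e₁⟩, ⟨e₂⟩⟩ := cd.dihedral_D
  obtain ⟨N₁, N₂, hn₁, hn₂, hX₁, hX₂, hc, hd, hi₁, hi₂, hm₁, hm₂⟩ := cd.exists_closures hn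
  have hD₁ : cd.D₁ ≤ N₁ := hi₁ ▸ inf_le_right
  have hD₂ : cd.D₂ ≤ N₂ := hi₂ ▸ inf_le_right
  have hn2 : n / 2 = 2 := by omega
  rw [hn2] at e₁ e₂
  have hcases₁ := cd.closure_cases hn₁ hX₁ hi₁ hm₁ hF₁ ⟨e₁⟩
  have hcases₂ := cd.closure_cases hn₂ hX₂ hi₂ hm₂ hF₂ ⟨e₂⟩
  obtain ⟨hx₁, hx₂⟩ := cd.exists_move hn hn₁ hn₂ hc hd hD₁ hD₂
  have hcov : cd.P0.map cd.pr ≤ N₁ ⊔ N₂ := hDsup ▸ sup_le_sup hD₁ hD₂
  have hcovQ := cd.cover_comap hcov
  have s₁ : N₁ = cd.D₁ → cd.Side (cd.D₁.comap cd.pr) (cd.f.ker ⊓ centralizer (N₂.comap cd.pr : Set Q)) := fun e =>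
    cd.side_four (cd.A₁_sq hn) (cd.A₂_sq hn) cd.R₁_sq cd.R₂_sq cd.R₁_conj cd.A₁_mem cd.R₁_mem rfl rfl hF₁ hF₂
      cd.u_A₁ cd.u_R₁ cd.u_A₂ cd.u_R₂ cd.A₁_A₂ cd.A₁_R₂ cd.R₁_A₂ cd.R₁_R₂ (e ▸ hn₁) hn₂ hX₂
      (fun a ha b hb => hc a (hD₁ ha) b hb) (e ▸ hcov) hcases₂ hx₁
  have s₂ : N₂ = cd.D₂ → cd.Side (cd.D₂.comap cd.pr) (cd.f.ker ⊓ centralizer (N₁.comap cd.pr : Set Q)) := fun e =>
    cd.side_four (cd.A₂_sq hn) (cd.A₁_sq hn) cd.R₂_sq cd.R₁_sq cd.R₂_conj cd.A₂_mem cd.R₂_mem rfl rfl hF₂ hF₁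
      cd.u_A₂ cd.u_R₂ cd.u_A₁ cd.u_R₁ cd.A₁_A₂.symm cd.R₁_A₂.symm cd.A₁_R₂.symm cd.R₁_R₂.symm (e ▸ hn₂) hn₁ hX₁
      (fun a ha b hb => (hc b hb a (hD₂ ha)).symm) (by rw [sup_comm]; exact e ▸ hcov) hcases₁ hx₂
  rcases hcases₁ with f₁ | ⟨hb₁, F₁, _, _, ho₁, h3₁, ⟨φ₁⟩⟩ <;>
    rcases hcases₂ with f₂ | ⟨hb₂, F₂, _, _, ho₂, h3₂, ⟨φ₂⟩⟩
  · subst f₁ f₂
    have t₁ := s₁ rfl
    have t₂ := s₂ rfl
    haveI := t₁.normalL
    haveI := t₂.normalL
    refine cd.conclude t₁ t₂ (fun a ha b hb => cd.side_commute t₂ (fun k hk => ?_) b hb) hcovQ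
    have hmem := commutator_le_inf _ _ (commutator_mem_commutator ha hk)
    exact cd.pair_le_Z t₁.normalK t₂.normalK hcovQ ⟨⟨hmem.1.1, hmem.2.2⟩, hmem.1.2⟩
  · subst f₁
    obtain ⟨t₂, -⟩ := cd.side_of_simple hn₂ hb₂ ho₂ h3₂ φ₂
    refine cd.conclude (s₁ rfl) t₂ (fun a ha b hb => ?_) hcovQ
    exact (mem_centralizer_iff.1 ha.2 b hb).symm
  · subst f₂
    obtain ⟨t₁, -⟩ := cd.side_of_simple hn₁ hb₁ ho₁ h3₁ φ₁
    refine cd.conclude t₁ (s₂ rfl) (fun a ha b hb => ?_) hcovQ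
    exact mem_centralizer_iff.1 hb.2 a ha
  · obtain ⟨t₁, hp₁⟩ := cd.side_of_simple hn₁ hb₁ ho₁ h3₁ φ₁
    obtain ⟨t₂, -⟩ := cd.side_of_simple hn₂ hb₂ ho₂ h3₂ φ₂
    refine cd.conclude t₁ t₂ (fun a ha b hb => ?_) hcovQ
    refine (commute_of_perfect_mod hp₁ (fun k hk => cd.Z_le_center (cd.pr_eq_one.1 ?_)) a ha).symm
    rw [map_commutatorElement]
    exact commutatorElement_eq_one_iff_mul_comm.2 (hc _ hk _ hb).symm

/-- The two factors. -/
theorem main : cd.Goal := by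
  obtain ⟨s, hs, hns⟩ := cd.D.exists_two_pow cd.P.2
  rcases (show s = 2 ∨ 3 ≤ s by omega) with rfl | h3
  · exact cd.main_four hns
  · exact cd.main_large (hns ▸ (show 2 ^ 3 ≤ 2 ^ s from Nat.pow_le_pow_right two_pos h3))

end CentData

end Cfsg.Agent.G2TypeFusion
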