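import Cfsg.Agent.Lib.G2TypeFusion.Split
import Cfsg.Agent.Lib.ClosedPair.Product

/-!
# The case `n = 4`: two normal subgroups modulo `z`

* `CentData.stronglyClosed₁`, `CentData.stronglyClosed₂`
* `CentData.exists_closures` : commuting disjoint normal closures of the two four-groups.
-/

set_option autoImplicit false

namespace Cfsg.Agent.G2TypeFusion

open Cfsg Subgroup

theorem four_check : ∀ (a b : ZMod 4) (i j : Bool), (a.val + b.val) % 2 = 0 →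
    ((a, b) + act i j (a, b) = (2, 2)) →
    (i = false ∧ j = false ∧ (a + b = 0 ∨ a - b = 0)) ∨ (i = false ∧ j = true ∧ a + b = 2) ∨
      (i = true ∧ j = true ∧ a - b = 2) := by
  unfold act
  decide

theorem mul_comm_of_sq {G : Type*} [Group G] {S : Subgroup G} (h : ∀ x ∈ S, x * x = 1) :
    ∀ x ∈ S, ∀ y ∈ S, x * y = y * x := by
  intro x hx y hy
  have e := h _ (S.mul_mem hx hy)
  rw [← inv_eq_iff_mul_eq_one, mul_inv_rev, inv_eq_of_mul_eq_one_right (h x hx),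
    inv_eq_of_mul_eq_one_right (h y hy)] at e
  exact e.symm

theorem le_or_le_of_subset_union {G : Type*} [Group G] {H A B : Subgroup G} (h : ∀ x ∈ H, x ∈ A ∨ x ∈ B) :
    H ≤ A ∨ H ≤ B := by
  by_contra hne
  push Not at hne
  obtain ⟨x, hx, hxA⟩ := SetLike.not_le_iff_exists.1 hne.1
  obtain ⟨y, hy, hyB⟩ := SetLike.not_le_iff_exists.1 hne.2
  have hxB := (h x hx).resolve_left hxA
  have hyA := (h y hy).resolve_right hyB
  rcases h _ (H.mul_mem hx hy) with e | e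
  · exact hxA ((mul_mem_cancel_right hyA).1 e)
  · exact hyB ((mul_mem_cancel_left hxB).1 e)

variable {Q : Type*} [Group Q] [Finite Q] {n : ℕ}

namespace CentData

variable (cd : CentData Q n)

theorem four_mul (hn : n = 4) : cd.k4 = 1 := by
  subst hn
  rfl

theorem A₁_sq (hn : n = 4) : cd.A₁ * cd.A₁ = cd.D.z := by
  rw [← pow_two, A₁_pow, Gens.z]
  subst hn
  rfl

theorem A₂_sq (hn : n = 4) : cd.A₂ * cd.A₂ = cd.D.z := by
  rw [← pow_two, A₂_pow, Gens.z]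
  subst hn
  rfl

theorem e_eq (hn : n = 4) : cd.D.e = cd.A₁ * cd.A₂ := by
  rw [A₁, A₂, Gens.E_mul, Gens.e]
  subst hn
  rfl

/-- A nontrivial element of a four-group lifts to a square root of `z`. -/
theorem lift₁ (hn : n = 4) {x : Q ⧸ cd.Z} (hx : x ∈ cd.D₁) (h1 : x ≠ 1) :
    ∃ y ∈ cd.P0, cd.pr y = x ∧ y * y = cd.D.z := by
  obtain ⟨c, hc | hc⟩ := cd.mem_D₁ hx
  · refine ⟨_, cd.E_mem_P0 (by simp [CharTwo.add_self_eq_zero]), hc.symm, ?_⟩
    have hcc : c + c ≠ 0 := fun e => h1 (hc.trans (cd.pr_torus_eq_one e))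
    rw [Gens.E_sq, Gens.z]
    subst hn
    revert hcc
    have : ∀ c : ZMod 4, c + c ≠ 0 → (c, -c) + act false false (c, -c) = (((4 / 2 : ℕ) : ZMod 4), ((4 / 2 : ℕ) : ZMod 4)) := by
      unfold act
      decide
    exact fun hcc => by rw [this c hcc]
  · refine ⟨_, cd.E_mem_P0 (by simp [act, CharTwo.add_self_eq_zero]), hc.symm, ?_⟩
    rw [Gens.E_sq, Gens.z, cd.four_mul hn]
    subst hn
    have : ∀ c : ZMod 4, ((1, 1) + act false true (c, -c)) + act false true ((1, 1) + act false true (c, -c)) =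
        (((4 / 2 : ℕ) : ZMod 4), ((4 / 2 : ℕ) : ZMod 4)) := by
      unfold act
      decide
    rw [this c]

/-- The same for the second one. -/
theorem lift₂ (hn : n = 4) {x : Q ⧸ cd.Z} (hx : x ∈ cd.D₂) (h1 : x ≠ 1) :
    ∃ y ∈ cd.P0, cd.pr y = x ∧ y * y = cd.D.z := by
  obtain ⟨c, hc | hc⟩ := cd.mem_D₂ hx
  · refine ⟨_, cd.E_mem_P0 (by simp [CharTwo.add_self_eq_zero]), hc.symm, ?_⟩
    have hcc : c + c ≠ 0 := fun e => h1 (by
      rw [hc, pr_eq_one, mem_Z]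
      rcases cd.D.two_torsion e with rfl | rfl
      · left; simp [Gens.E_eq_one]
      · right; rfl)
    rw [Gens.E_sq, Gens.z]
    subst hn
    have : ∀ c : ZMod 4, c + c ≠ 0 → (c, c) + act false false (c, c) = (((4 / 2 : ℕ) : ZMod 4), ((4 / 2 : ℕ) : ZMod 4)) := by
      unfold act
      decide
    rw [this c hcc]
  · refine ⟨_, cd.E_mem_P0 (by simp [act, CharTwo.add_self_eq_zero]), hc.symm, ?_⟩
    rw [Gens.E_sq, Gens.z, cd.four_mul hn]
    subst hn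
    have : ∀ c : ZMod 4, ((1, -1) + act true true (c, c)) + act true true ((1, -1) + act true true (c, c)) =
        (((4 / 2 : ℕ) : ZMod 4), ((4 / 2 : ℕ) : ZMod 4)) := by
      unfold act
      decide
    rw [this c]

/-- A square root of `z` lies over one of the four-groups. -/
theorem mem_of_sq (hn : n = 4) {y : Q} (hy : y ∈ cd.P0) (h : y * y = cd.D.z) :
    cd.pr y ∈ cd.D₁ ∨ cd.pr y ∈ cd.D₂ := by
  obtain ⟨⟨a, b⟩, i, j, hp, rfl⟩ := cd.P0_cases hy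
  rw [Gens.E_sq, Gens.z] at h
  have h' := (cd.D.E_inj h).1
  have hA : ∀ k : ℕ, cd.pr (cd.A₁ ^ k) ∈ cd.D₁ := fun k => by rw [map_pow]; exact pow_mem cd.A_mem_D₁ k
  have hA' : ∀ k : ℕ, cd.pr (cd.A₂ ^ k) ∈ cd.D₂ := fun k => by rw [map_pow]; exact pow_mem cd.A_mem_D₂ k
  have hR : ∀ k : ℕ, cd.pr (cd.R₁ * cd.A₁ ^ k) ∈ cd.D₁ := fun k => by
    rw [map_mul]; exact mul_mem (subset_closure (Or.inl rfl)) (hA k)
  have hR' : ∀ k : ℕ, cd.pr (cd.R₂ * cd.A₂ ^ k) ∈ cd.D₂ := fun k => by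
    rw [map_mul]; exact mul_mem (subset_closure (Or.inl rfl)) (hA' k)
  subst hn
  have hpar : (a.val + b.val) % 2 = 0 := by
    have : cd.D.par (((a.val + b.val : ℕ)) : ZMod 4) = 0 := by
      rw [Nat.cast_add, ZMod.natCast_zmod_val, ZMod.natCast_zmod_val, map_add]; exact hp
    rw [map_natCast, ZMod.natCast_eq_zero_iff] at this
    omega
  rcases four_check a b i j hpar h' with ⟨rfl, rfl, e | e⟩ | ⟨rfl, rfl, e⟩ | ⟨rfl, rfl, e⟩
  · left
    convert hA a.val using 2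
    rw [A₁_pow, ZMod.natCast_zmod_val, show b = -a by linear_combination e]
  · right
    convert hA' a.val using 2
    rw [A₂_pow, ZMod.natCast_zmod_val, show b = a by linear_combination -e]
  · left
    convert hR (1 - a).val using 2
    rw [A₁_pow, R₁, Gens.E_mul, ZMod.natCast_zmod_val, cd.four_mul rfl, show b = 2 - a by linear_combination e]
    simp [act]
    ring
  · right
    convert hR' (1 - a).val using 2
    rw [A₂_pow, R₂, Gens.E_mul, ZMod.natCast_zmod_val, cd.four_mul rfl, show b = a - 2 by linear_combination -e]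
    simp [act]
    ring

theorem D_sq (hn : n = 4) : (∀ x ∈ cd.D₁, x * x = 1) ∧ ∀ x ∈ cd.D₂, x * x = 1 := by
  constructor <;> intro x hx <;> by_cases h1 : x = 1
  · rw [h1, one_mul]
  · obtain ⟨y, -, rfl, hy⟩ := cd.lift₁ hn hx h1
    rw [← map_mul, hy, cd.pr_z]
  · rw [h1, one_mul]
  · obtain ⟨y, -, rfl, hy⟩ := cd.lift₂ hn hx h1
    rw [← map_mul, hy, cd.pr_z]

theorem P0bar_sq (hn : n = 4) : ∀ x ∈ cd.P0.map cd.pr, x * x = 1 := by
  obtain ⟨hs, -, -⟩ := cd.exists_split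
  obtain ⟨h1, h2, hc, -, hsup⟩ := hs
  obtain ⟨q1, q2⟩ := cd.D_sq hn
  intro x hx
  have hn' : cd.D₂ ≤ normalizer (cd.D₁ : Set (Q ⧸ cd.Z)) := fun b hb => centralizer_le_normalizer _
    (mem_centralizer_iff.2 fun a ha => hc a ha b hb)
  rw [← hsup, ← SetLike.mem_coe, coe_mul_of_right_le_normalizer_left _ _ hn'] at hx
  obtain ⟨a, ha, b, hb, rfl⟩ := hx
  show a * b * (a * b) = 1
  rw [show a * b * (a * b) = a * (b * a) * b by group, ← hc a ha b hb, show a * (a * b) * b = a * a * (b * b) by group,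
    q1 a ha, q2 b hb, one_mul]

theorem card_D (hn : n = 4) : Nat.card cd.D₁ = 4 ∧ Nat.card cd.D₂ = 4 := by
  obtain ⟨⟨e₁⟩, ⟨e₂⟩⟩ := cd.dihedral_D
  rw [Nat.card_congr e₁.toEquiv, Nat.card_congr e₂.toEquiv, DihedralGroup.nat_card]
  omega

/-- The image of the even part as a Sylow subgroup of the kernel part. -/
theorem exists_sylow_X1 : ∃ R : Sylow 2 ↥cd.X1, (R : Subgroup ↥cd.X1) = (cd.P0.map cd.pr).subgroupOf cd.X1 := by
  haveI := Fact.mk Nat.prime_two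
  obtain ⟨R, hR⟩ := PReduced.exists_sylow_inf (cd.P.mapSurjective cd.pr_surj) (C := cd.X1)
    (by rw [normalizer_eq_top]; exact le_top)
  refine ⟨R, hR.trans ?_⟩
  ext x
  rw [mem_subgroupOf, mem_subgroupOf]
  constructor
  · rintro ⟨y, hy, e⟩
    exact ⟨y, ⟨hy, cd.comap_X1 ▸ (show y ∈ cd.X1.comap cd.pr by rw [mem_comap, e]; exact x.2)⟩, e⟩
  · rintro ⟨y, hy, e⟩
    exact ⟨y, hy.1, e⟩

theorem P0bar_le_X1 : cd.P0.map cd.pr ≤ cd.X1 := map_mono inf_le_right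

/-- Elements of the kernel part normalising the Sylow subgroup fix both four-groups. -/
theorem norm_fix (hn : n = 4) {h : Q ⧸ cd.Z} (hh : h ∈ cd.X1)
    (hN : ∀ x ∈ cd.P0.map cd.pr, h * x * h⁻¹ ∈ cd.P0.map cd.pr) :
    (∀ x ∈ cd.D₁, h * x * h⁻¹ ∈ cd.D₁) ∧ ∀ x ∈ cd.D₂, h * x * h⁻¹ ∈ cd.D₂ := by
  haveI := Fact.mk Nat.prime_two
  obtain ⟨⟨hD₁, hD₂, -, hd, -⟩, -, -⟩ := cd.exists_split
  obtain ⟨c₁, c₂⟩ := cd.card_D hn
  set φ : (Q ⧸ cd.Z) ≃* (Q ⧸ cd.Z) := MulAut.conj h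
  obtain ⟨g, hgk, hgh⟩ := hh
  have hU : ∀ D : Subgroup (Q ⧸ cd.Z), D ≤ cd.P0.map cd.pr → Nat.card D = 4 →
      (∀ x ∈ D, x ≠ 1 → ∃ y ∈ cd.P0, cd.pr y = x ∧ y * y = cd.D.z) →
      D.map φ.toMonoidHom = cd.D₁ ∨ D.map φ.toMonoidHom = cd.D₂ := by
    intro D hDP hc hlift
    have hsub : ∀ x ∈ D.map φ.toMonoidHom, x ∈ cd.D₁ ∨ x ∈ cd.D₂ := by
      rintro _ ⟨x, hx, rfl⟩
      simp only [MulEquiv.coe_toMonoidHom, φ, MulAut.conj_apply]
      by_cases h1 : x = 1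
      · left; rw [h1, mul_one, mul_inv_cancel]; exact one_mem _
      obtain ⟨y, hy, hyx, hyz⟩ := hlift x hx h1
      have hmem := hN x (hDP hx)
      rw [← hgh, ← hyx, ← map_mul, ← map_inv, ← map_mul] at hmem ⊢
      obtain ⟨w, hw, e⟩ := hmem
      obtain ⟨c, hc, e'⟩ := cd.pr_eq.1 e
      refine cd.mem_of_sq hn (e' ▸ cd.P0.mul_mem hw (cd.Z_le_P0 hc)) ?_
      rw [show g * y * g⁻¹ * (g * y * g⁻¹) = g * (y * y) * g⁻¹ by group, hyz, (cd.central g).eq,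
        mul_inv_cancel_right]
    have hcm : Nat.card (D.map φ.toMonoidHom) = 4 := by rw [card_map_of_injective φ.injective, hc]
    exact (le_or_le_of_subset_union hsub).imp (fun e => eq_of_le_of_card_ge e (by omega))
      fun e => eq_of_le_of_card_ge e (by omega)
  have hne : cd.D₁ ≠ cd.D₂ := fun e => by
    rw [← e, inf_idem] at hd
    rw [hd, card_bot] at c₁
    omega
  have hinj : Function.Injective (Subgroup.map φ.toMonoidHom) := map_injective φ.injective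
  rcases hU cd.D₁ hD₁ c₁ (fun x => cd.lift₁ hn) with e₁ | e₁
  · have e₂ : cd.D₂.map φ.toMonoidHom = cd.D₂ :=
      (hU cd.D₂ hD₂ c₂ (fun x => cd.lift₂ hn)).resolve_left fun e => hne (hinj (e₁.trans e.symm))
    exact ⟨fun x hx => e₁.le ⟨x, hx, rfl⟩, fun x hx => e₂.le ⟨x, hx, rfl⟩⟩
  · exfalso
    have e₂ : cd.D₂.map φ.toMonoidHom = cd.D₁ :=
      (hU cd.D₂ hD₂ c₂ (fun x => cd.lift₂ hn)).resolve_right fun e => hne (hinj (e₁.trans e.symm))
    have hodd : ∀ k : ℕ, cd.D₁.map (MulAut.conj (h ^ (2 * k + 1))).toMonoidHom = cd.D₂ := by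
      intro k
      induction k with
      | zero => rw [pow_one]; exact e₁
      | succ k ih =>
        have hc : (MulAut.conj (h ^ (2 * (k + 1) + 1))).toMonoidHom =
            (φ.toMonoidHom.comp φ.toMonoidHom).comp (MulAut.conj (h ^ (2 * k + 1))).toMonoidHom := by
          refine MonoidHom.ext fun x => ?_
          simp only [MonoidHom.comp_apply, MulEquiv.coe_toMonoidHom, φ, MulAut.conj_apply]
          rw [show 2 * (k + 1) + 1 = 1 + (1 + (2 * k + 1)) by ring, pow_add, pow_add, pow_one]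
          group
        rw [hc, ← Subgroup.map_map, ih, ← Subgroup.map_map, e₂, e₁]
    obtain ⟨R, hR⟩ := cd.exists_sylow_X1
    have hmemR : ∀ {w : ↥cd.X1}, w ∈ (R : Subgroup ↥cd.X1) ↔ (w : Q ⧸ cd.Z) ∈ cd.P0.map cd.pr := fun {w} => by
      rw [hR, mem_subgroupOf]
    set T := normalizer ((R : Subgroup ↥cd.X1) : Set ↥cd.X1)
    have hhX : h ∈ cd.X1 := ⟨g, hgk, hgh⟩
    have hhT : (⟨h, hhX⟩ : ↥cd.X1) ∈ T := by
      refine mem_normalizer_iff.2 fun w => ⟨fun hw => hmemR.2 (hN _ (hmemR.1 hw)), fun hw => hmemR.2 ?_⟩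
      have hmap : (cd.P0.map cd.pr).map φ.toMonoidHom = cd.P0.map cd.pr :=
        eq_of_le_of_card_ge (by rintro _ ⟨x, hx, rfl⟩; exact hN x hx) (card_map_of_injective φ.injective).ge
      obtain ⟨x, hx, ex⟩ := hmap.ge (hmemR.1 hw)
      rw [show (w : Q ⧸ cd.Z) = x from φ.injective ex.symm]
      exact hx
    haveI : ((R : Subgroup ↥cd.X1).subgroupOf T).Normal := normal_in_normalizer
    have hk := pow_index_mem ((R : Subgroup ↥cd.X1).subgroupOf T) (⟨⟨h, hhX⟩, hhT⟩ : ↥T)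
    have hko : Odd ((R : Subgroup ↥cd.X1).subgroupOf T).index := by
      rw [← Nat.not_even_iff_odd, even_iff_two_dvd]
      exact fun e => R.not_dvd_index (e.trans (relIndex_dvd_index_of_le le_normalizer))
    obtain ⟨k, hk'⟩ := hko
    rw [hk'] at hk
    have hP : h ^ (2 * k + 1) ∈ cd.P0.map cd.pr := hmemR.1 hk
    refine hne (eq_of_le_of_card_ge (fun x hx => ?_) (by omega)).symm |>.elim
    obtain ⟨y, hy, rfl⟩ := (hodd k).ge (show x ∈ cd.D₂ from hx)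
    rw [MulEquiv.coe_toMonoidHom, MulAut.conj_apply,
      mul_comm_of_sq (cd.P0bar_sq hn) _ hP _ (hD₁ hy), mul_inv_cancel_right]
    exact hy

/-- Strong closure in the kernel part. -/
theorem stronglyClosed (hn : n = 4) {R : Sylow 2 ↥cd.X1}
    (hR : (R : Subgroup ↥cd.X1) = (cd.P0.map cd.pr).subgroupOf cd.X1) :
    IsStronglyClosed (cd.D₁.subgroupOf cd.X1) (R : Subgroup ↥cd.X1) ∧
      IsStronglyClosed (cd.D₂.subgroupOf cd.X1) (R : Subgroup ↥cd.X1) := by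
  haveI := Fact.mk Nat.prime_two
  obtain ⟨⟨hD₁, hD₂, -, -, -⟩, -, -⟩ := cd.exists_split
  haveI : IsMulCommutative ↥(R : Subgroup ↥cd.X1) := ⟨⟨fun a b => Subtype.ext (Subtype.ext (by
    refine mul_comm_of_sq (cd.P0bar_sq hn) _ ?_ _ ?_
    · exact (SetLike.ext_iff.1 hR _).1 a.2
    · exact (SetLike.ext_iff.1 hR _).1 b.2))⟩⟩
  have key : ∀ (x g : ↥cd.X1), x ∈ (R : Subgroup ↥cd.X1) → g * x * g⁻¹ ∈ (R : Subgroup ↥cd.X1) →
      ((x : Q ⧸ cd.Z) ∈ cd.D₁ → ((g * x * g⁻¹ : ↥cd.X1) : Q ⧸ cd.Z) ∈ cd.D₁) ∧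
      ((x : Q ⧸ cd.Z) ∈ cd.D₂ → ((g * x * g⁻¹ : ↥cd.X1) : Q ⧸ cd.Z) ∈ cd.D₂) := by
    intro x g hx hg
    obtain ⟨m, hm, e⟩ := R.conj_eq_normalizer_conj_of_mem x g⁻¹ hx (by rwa [inv_inv])
    rw [inv_inv] at e
    have hN : ∀ y ∈ cd.P0.map cd.pr, ((m⁻¹ : ↥cd.X1) : Q ⧸ cd.Z) * y * ((m⁻¹ : ↥cd.X1) : Q ⧸ cd.Z)⁻¹ ∈
        cd.P0.map cd.pr := fun y hy => by
      have := (mem_normalizer_iff.1 ((normalizer _).inv_mem hm) ⟨y, cd.P0bar_le_X1 hy⟩).1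
        (hR ▸ mem_subgroupOf.2 hy)
      exact (SetLike.ext_iff.1 hR _).1 this
    obtain ⟨f1, f2⟩ := cd.norm_fix hn (m⁻¹).2 hN
    rw [e, show m⁻¹ * x * m = m⁻¹ * x * m⁻¹⁻¹ by rw [inv_inv]]
    exact ⟨f1 _, f2 _⟩
  refine ⟨⟨hR ▸ comap_mono hD₁, fun x hx g hg => ?_⟩, ⟨hR ▸ comap_mono hD₂, fun x hx g hg => ?_⟩⟩
  · exact (key x g (hR ▸ comap_mono hD₁ hx) hg).1 hx
  · exact (key x g (hR ▸ comap_mono hD₂ hx) hg).2 hx

/-- The normal closures. -/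
theorem exists_closures (hn : n = 4) :
    ∃ N₁ N₂ : Subgroup (Q ⧸ cd.Z), N₁.Normal ∧ N₂.Normal ∧ N₁ ≤ cd.X1 ∧ N₂ ≤ cd.X1 ∧
      (∀ a ∈ N₁, ∀ b ∈ N₂, Commute a b) ∧ N₁ ⊓ N₂ = ⊥ ∧
      cd.P0.map cd.pr ⊓ N₁ = cd.D₁ ∧ cd.P0.map cd.pr ⊓ N₂ = cd.D₂ ∧
      (∀ T : Subgroup (Q ⧸ cd.Z), T.Normal → cd.D₁ ≤ T → N₁ ≤ T) ∧
      ∀ T : Subgroup (Q ⧸ cd.Z), T.Normal → cd.D₂ ≤ T → N₂ ≤ T := by
  haveI := Fact.mk Nat.prime_two
  obtain ⟨⟨hD₁, hD₂, hc, hd, hsup⟩, -, -⟩ := cd.exists_split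
  obtain ⟨R, hR⟩ := cd.exists_sylow_X1
  obtain ⟨h₁, h₂⟩ := cd.stronglyClosed hn hR
  have hX₁ := hD₁.trans cd.P0bar_le_X1
  have hX₂ := hD₂.trans cd.P0bar_le_X1
  have hO : Cfsg.pPrimeCore 2 ↥cd.X1 = ⊥ := by
    refine (map_eq_bot_iff_of_injective _ cd.X1.subtype_injective).1 (cd.odd_eq_bot_quot
      (Cores.map_subtype_normal_of_characteristic cd.X1 _) ?_)
    rw [Cores.card_map_subtype]
    exact Cores.coprime_card_pPrimeCore 2
  have hc' : ∀ a ∈ cd.D₁.subgroupOf cd.X1, ∀ b ∈ cd.D₂.subgroupOf cd.X1, a * b = b * a :=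
    fun a ha b hb => Subtype.ext (hc _ ha _ hb)
  have hd' : cd.D₁.subgroupOf cd.X1 ⊓ cd.D₂.subgroupOf cd.X1 = ⊥ := by
    rw [subgroupOf, subgroupOf, ← comap_inf, hd, MonoidHom.comap_bot, MonoidHom.ker_eq_bot_iff]
    exact cd.X1.subtype_injective
  have hsup' : cd.D₁.subgroupOf cd.X1 ⊔ cd.D₂.subgroupOf cd.X1 = (R : Subgroup ↥cd.X1) := by
    rw [← subgroupOf_sup hX₁ hX₂, hsup, hR]
  have hcent := ClosedPair.commute_normalClosure R h₁ h₂ hc' hd' hO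
  have hinf := ClosedPair.normalClosure_inf R h₁ h₂ hc' hd' hO hsup'
  have hS₁ := ClosedPair.sylow_inf_normalClosure R h₁ h₂ hc' hd' hO hsup'
  have hS₂ := ClosedPair.sylow_inf_normalClosure R h₂ h₁ (fun a ha b hb => (hc' b hb a ha).symm)
    (by rw [inf_comm]; exact hd') hO (by rw [sup_comm]; exact hsup')
  set C₁ := normalClosure ((cd.D₁.subgroupOf cd.X1 : Subgroup ↥cd.X1) : Set ↥cd.X1) with hC₁
  set C₂ := normalClosure ((cd.D₂.subgroupOf cd.X1 : Subgroup ↥cd.X1) : Set ↥cd.X1) with hC₂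
  set u := cd.D.E (1, 0) false false
  have mk : ∀ (D : Subgroup (Q ⧸ cd.Z)) (R₀ A₀ : Q), D = closure {cd.pr R₀, cd.pr (R₀ * A₀)} → D ≤ cd.X1 →
      Commute u A₀ → u * R₀ * u⁻¹ = A₀ * R₀ → cd.pr A₀ ∈ D →
      ((normalClosure ((D.subgroupOf cd.X1 : Subgroup ↥cd.X1) : Set ↥cd.X1)).map cd.X1.subtype).Normal ∧
      ∀ T : Subgroup (Q ⧸ cd.Z), T.Normal → D ≤ T →
        (normalClosure ((D.subgroupOf cd.X1 : Subgroup ↥cd.X1) : Set ↥cd.X1)).map cd.X1.subtype ≤ T := by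
    intro D R₀ A₀ hD hDX hA hR hAD
    set C := normalClosure ((D.subgroupOf cd.X1 : Subgroup ↥cd.X1) : Set ↥cd.X1)
    have hDC : D ≤ C.map cd.X1.subtype := fun x hx =>
      ⟨⟨x, hDX hx⟩, subset_normalClosure (show (x : Q ⧸ cd.Z) ∈ D from hx), rfl⟩
    refine ⟨cd.fix_all ?_ ?_, fun T hT hDT => ?_⟩
    · rintro g hg _ ⟨x, hx, rfl⟩
      exact ⟨_, normalClosure_normal.conj_mem x hx ⟨cd.pr g, mem_map_of_mem _ hg⟩, rfl⟩
    · have hTn : (((C.map cd.X1.subtype).comap (MulAut.conj (cd.pr u)).toMonoidHom).subgroupOf cd.X1).Normal := by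
        refine ⟨fun y hy a => ?_⟩
        rw [mem_subgroupOf, mem_comap, MulEquiv.coe_toMonoidHom, MulAut.conj_apply] at hy ⊢
        obtain ⟨w, hw, ew⟩ := hy
        refine ⟨_, normalClosure_normal.conj_mem w hw
          ⟨cd.pr u * (a : Q ⧸ cd.Z) * (cd.pr u)⁻¹, cd.X1_normal.conj_mem _ a.2 _⟩, ?_⟩
        rw [map_mul, map_mul, map_inv, ew]
        show cd.pr u * (a : Q ⧸ cd.Z) * (cd.pr u)⁻¹ * (cd.pr u * (y : Q ⧸ cd.Z) * (cd.pr u)⁻¹) *
          (cd.pr u * (a : Q ⧸ cd.Z) * (cd.pr u)⁻¹)⁻¹ = cd.pr u * ((a * y * a⁻¹ : ↥cd.X1) : Q ⧸ cd.Z) * (cd.pr u)⁻¹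
        push_cast
        group
      have hgen : D ≤ (C.map cd.X1.subtype).comap (MulAut.conj (cd.pr u)).toMonoidHom := by
        rw [hD, closure_le]
        have h1 : cd.pr u * cd.pr R₀ * (cd.pr u)⁻¹ = cd.pr A₀ * cd.pr R₀ := by
          rw [← map_mul, ← map_inv, ← map_mul, hR, map_mul]
        have h2 : cd.pr u * cd.pr A₀ * (cd.pr u)⁻¹ = cd.pr A₀ := by
          rw [(hA.map cd.pr).eq, mul_inv_cancel_right]
        have hR₀ : cd.pr R₀ ∈ D := hD ▸ subset_closure (Or.inl rfl)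
        rintro x (rfl | rfl)
        · rw [SetLike.mem_coe, mem_comap, MulEquiv.coe_toMonoidHom, MulAut.conj_apply, h1]
          exact hDC (D.mul_mem hAD hR₀)
        · rw [SetLike.mem_coe, mem_comap, MulEquiv.coe_toMonoidHom, MulAut.conj_apply, map_mul,
            show cd.pr u * (cd.pr R₀ * cd.pr A₀) * (cd.pr u)⁻¹ =
              cd.pr u * cd.pr R₀ * (cd.pr u)⁻¹ * (cd.pr u * cd.pr A₀ * (cd.pr u)⁻¹) by group, h1, h2]
          exact hDC (D.mul_mem (D.mul_mem hAD hR₀) hAD)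
      haveI := hTn
      have hle := normalClosure_le_normal (N := ((C.map cd.X1.subtype).comap
        (MulAut.conj (cd.pr u)).toMonoidHom).subgroupOf cd.X1) (fun x hx => hgen hx)
      rintro _ ⟨x, hx, rfl⟩
      exact hle hx
    · haveI := hT.subgroupOf cd.X1
      rintro _ ⟨x, hx, rfl⟩
      exact normalClosure_le_normal (N := T.subgroupOf cd.X1) (fun y hy => hDT hy) hx
  obtain ⟨hn₁, hm₁⟩ := mk cd.D₁ cd.R₁ cd.A₁ rfl hX₁ cd.u_A₁ cd.u_R₁ cd.A_mem_D₁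
  obtain ⟨hn₂, hm₂⟩ := mk cd.D₂ cd.R₂ cd.A₂ rfl hX₂ cd.u_A₂ cd.u_R₂ cd.A_mem_D₂
  have hinter : ∀ (D : Subgroup (Q ⧸ cd.Z)) (C : Subgroup ↥cd.X1), D ≤ cd.X1 →
      (R : Subgroup ↥cd.X1) ⊓ C = D.subgroupOf cd.X1 → cd.P0.map cd.pr ⊓ C.map cd.X1.subtype = D := by
    intro D C hDX h
    rw [← map_subgroupOf_eq_of_le cd.P0bar_le_X1, ← hR, ← map_inf _ _ _ cd.X1.subtype_injective, h,
      map_subgroupOf_eq_of_le hDX]
  refine ⟨C₁.map cd.X1.subtype, C₂.map cd.X1.subtype, hn₁, hn₂, map_subtype_le _, map_subtype_le _, ?_, ?_,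
    hinter _ _ hX₁ hS₁, hinter _ _ hX₂ hS₂, hm₁, hm₂⟩
  · rintro _ ⟨a, ha, rfl⟩ _ ⟨b, hb, rfl⟩
    exact ((congrArg Subtype.val (mem_centralizer_iff.1 (hcent ha) b hb)).symm)
  · rw [← map_inf _ _ _ cd.X1.subtype_injective, hinf, Subgroup.map_bot]

end CentData

end Cfsg.Agent.G2TypeFusion
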