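import Cfsg.Agent.Lib.G2TypeFusion.Gens
import Cfsg.Agent.S1853
import Cfsg.Agent.S0215

/-!
# Classes of involutions of a simple group with a Sylow 2-subgroup of `G₂` type

* `extremal` : an involution outside a normal subgroup with cyclic quotient moves inside, with its centraliser in `S`.
* `Gens.conj_z_or_small` : every involution is conjugate to the central one, or `n = 4` and there are two classes.
-/

set_option autoImplicit false

namespace Cfsg.Agent.G2TypeFusion

open Cfsg

variable {G : Type*} [Group G]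

/-- An involution outside `T` has a conjugate in `T` whose conjugation carries `C_S(y)` into `S`. -/
theorem extremal [Finite G] [IsSimpleGroup G] (hG : ¬ IsMulCommutative G) (S : Sylow 2 G) (T : Subgroup G)
    (hTS : T ≤ S) [hTn : (T.subgroupOf (S : Subgroup G)).Normal]
    (hcyc : IsCyclic (↥(S : Subgroup G) ⧸ T.subgroupOf (S : Subgroup G)))
    (y : G) (hy : orderOf y = 2) (hyS : y ∈ S) (hyT : y ∉ T) :
    ∃ g : G, g * y * g⁻¹ ∈ T ∧ ∀ a ∈ (S : Subgroup G), Commute a y → g * a * g⁻¹ ∈ (S : Subgroup G) := by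
  have hP : IsPGroup 2 ↥(((S : Subgroup G)).subgroupOf (Subgroup.centralizer ({y} : Set G))) :=
    S.2.comap_of_injective _ (Subgroup.subtype_injective _)
  obtain ⟨C, hC⟩ := hP.exists_le_sylow
  set C0 := (C : Subgroup ↥(Subgroup.centralizer ({y} : Set G))).map
    (Subgroup.centralizer ({y} : Set G)).subtype with hC0
  have hC0y : ∀ a ∈ C0, a * y = y * a := by
    rintro _ ⟨a, -, rfl⟩
    exact Subgroup.mem_centralizer_singleton_iff.1 a.2
  let act : MulAction ↥C0 ↥(S1853.goodCosets (S : Subgroup G) T y) :=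
    { smul := fun a c => ⟨(a : G) • c.1, by
        obtain ⟨g, hg, hgT⟩ := c.2
        refine ⟨a * g, by rw [← hg, MulAction.Quotient.smul_mk]; rfl, ?_⟩
        have h := hC0y a a.2
        have : ((a : G) * g)⁻¹ * y * ((a : G) * g) = g⁻¹ * y * g := by
          calc ((a : G) * g)⁻¹ * y * ((a : G) * g) = g⁻¹ * (a : G)⁻¹ * (y * (a : G)) * g := by group
            _ = g⁻¹ * (a : G)⁻¹ * ((a : G) * y) * g := by rw [h]
            _ = g⁻¹ * y * g := by group
        rwa [this]⟩
      one_smul := fun c => Subtype.ext (one_smul G c.1)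
      mul_smul := fun a b c => Subtype.ext (mul_smul (a : G) (b : G) c.1) }
  have hC0p : IsPGroup 2 ↥C0 := C.2.map _
  have hfix := hC0p.card_modEq_card_fixedPoints (S1853.goodCosets (S : Subgroup G) T y)
  have hne : Nat.card (MulAction.fixedPoints ↥C0 ↥(S1853.goodCosets (S : Subgroup G) T y)) ≠ 0 := by
    intro h
    have hodd := Nat.odd_iff.1 (S1853.odd_card_good hG S T hTS hcyc y hy hyS hyT)
    unfold Nat.ModEq at hfix
    omega
  obtain ⟨⟨c, hc⟩, hcfix⟩ := (Nat.card_ne_zero.1 hne).1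
  obtain ⟨g, rfl, hgT⟩ := id hc
  have hconj : ∀ a ∈ C0, g⁻¹ * a * g ∈ (S : Subgroup G) := by
    intro a ha
    have h : a • (QuotientGroup.mk g : G ⧸ (S : Subgroup G)) = QuotientGroup.mk g :=
      congrArg Subtype.val (hcfix ⟨a, ha⟩)
    rw [MulAction.Quotient.smul_mk, eq_comm, QuotientGroup.eq] at h
    simpa [mul_assoc] using h
  refine ⟨g⁻¹, by simpa using hgT, fun a haS hay => ?_⟩
  have haC : a ∈ C0 := ⟨⟨a, Subgroup.mem_centralizer_singleton_iff.2 hay.eq⟩, hC (Subgroup.mem_subgroupOf.2 haS), rfl⟩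
  simpa using hconj a haC

namespace Gens

variable {n : ℕ} [Finite G] {S : Sylow 2 G}

/-- `true ↦ 1`. -/
def bz (b : Bool) : ZMod 2 := if b then 1 else 0

theorem bz_xor (a b : Bool) : bz (Bool.xor a b) = bz a + bz b := by cases a <;> cases b <;> decide

/-- The two signs as homomorphisms: `true` selects `i`, `false` selects `j`. -/
theorem exists_sign (D : Gens (S : Subgroup G) n) (c : Bool) : ∃ χ : ↥(S : Subgroup G) →* Multiplicative (ZMod 2),
    ∀ p i j, χ ⟨D.E p i j, D.E_mem p i j⟩ = Multiplicative.ofAdd (bz (cond c i j)) := by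
  classical
  choose P I J hPIJ using fun x : ↥(S : Subgroup G) => D.surj x x.2
  refine ⟨MonoidHom.mk' (fun x => Multiplicative.ofAdd (bz (cond c (I x) (J x)))) fun x y => ?_, fun p i j => ?_⟩
  · have h : D.E (P (x * y)) (I (x * y)) (J (x * y)) =
        D.E (P x + act (I x) (J x) (P y)) (Bool.xor (I x) (I y)) (Bool.xor (J x) (J y)) := by
      rw [← D.E_mul]
      exact (hPIJ (x * y)).symm.trans (congrArg₂ (· * ·) (hPIJ x) (hPIJ y))
    obtain ⟨-, hi, hj⟩ := D.E_inj h
    rw [← ofAdd_add, hi, hj]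
    cases c <;> simp [bz_xor]
  · obtain ⟨-, hi, hj⟩ := D.E_inj (hPIJ ⟨D.E p i j, D.E_mem p i j⟩)
    rw [MonoidHom.mk'_apply, ← hi, ← hj]

/-- The number of elements of `S` commuting with `x`. -/
noncomputable def cd (_ : Gens (S : Subgroup G) n) (x : G) : ℕ := {a : G | a ∈ (S : Subgroup G) ∧ Commute a x}.ncard

theorem cd_le_of_map (D : Gens (S : Subgroup G) n) {x g : G}
    (h : ∀ a ∈ (S : Subgroup G), Commute a x → g * a * g⁻¹ ∈ (S : Subgroup G)) :
    D.cd x ≤ D.cd (g * x * g⁻¹) := by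
  refine Set.ncard_le_ncard_of_injOn (MulAut.conj g) (fun a ha => ⟨h a ha.1 ha.2, ha.2.map (MulAut.conj g).toMonoidHom⟩)
    (MulAut.conj g).injective.injOn (Set.toFinite _)

theorem orderOf_two {x : G} (h2 : x * x = 1) (h1 : x ≠ 1) : orderOf x = 2 :=
  orderOf_eq_prime (by rw [pow_two, h2]) h1

theorem inv_conj {x : G} (g : G) (h2 : x * x = 1) (h1 : x ≠ 1) :
    g * x * g⁻¹ * (g * x * g⁻¹) = 1 ∧ g * x * g⁻¹ ≠ 1 := by
  refine ⟨?_, fun e => h1 (conj_eq_one_iff.1 e)⟩
  rw [show g * x * g⁻¹ * (g * x * g⁻¹) = g * (x * x) * g⁻¹ by group, h2, mul_one, mul_inv_cancel]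

/-- One transfer step. -/
theorem step [IsSimpleGroup G] (hG : ¬ IsMulCommutative G) (D : Gens (S : Subgroup G) n) (c : Bool)
    {p : ZMod n × ZMod n} {i j : Bool} (hc : cond c i j = true) (h2 : D.E p i j * D.E p i j = 1) :
    ∃ (q : ZMod n × ZMod n) (k l : Bool), cond c k l = false ∧ IsConj (D.E p i j) (D.E q k l) ∧
      D.cd (D.E p i j) ≤ D.cd (D.E q k l) := by
  obtain ⟨χ, hχ⟩ := D.exists_sign c
  set T := χ.ker.map (S : Subgroup G).subtype with hT
  have hsub : T.subgroupOf (S : Subgroup G) = χ.ker :=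
    Subgroup.comap_map_eq_self_of_injective (Subgroup.subtype_injective _) _
  haveI : (T.subgroupOf (S : Subgroup G)).Normal := by rw [hsub]; infer_instance
  have hcyc : IsCyclic (↥(S : Subgroup G) ⧸ T.subgroupOf (S : Subgroup G)) :=
    haveI : IsCyclic ↥χ.range := inferInstance
    ((QuotientGroup.quotientMulEquivOfEq hsub).trans (QuotientGroup.quotientKerEquivRange χ)).isCyclic.2 inferInstance
  have hyT : D.E p i j ∉ T := by
    rintro ⟨y, hy, e⟩
    have : y = ⟨D.E p i j, D.E_mem p i j⟩ := Subtype.ext e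
    rw [SetLike.mem_coe, MonoidHom.mem_ker, this, hχ, hc] at hy
    exact absurd hy (by decide)
  have hne : D.E p i j ≠ 1 := fun e => by
    obtain ⟨-, rfl, rfl⟩ := D.E_eq_one.1 e
    cases c <;> simp at hc
  obtain ⟨g, ⟨y, hy, hgy⟩, hC⟩ := extremal hG S T (Subgroup.map_subtype_le _) hcyc _ (orderOf_two h2 hne)
    (D.E_mem p i j) hyT
  obtain ⟨q, k, l, hq⟩ := D.surj y y.2
  have hy' : y = ⟨D.E q k l, D.E_mem q k l⟩ := Subtype.ext hq
  have hgy' : g * D.E p i j * g⁻¹ = D.E q k l := hgy.symm.trans hq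
  refine ⟨q, k, l, ?_, isConj_iff.2 ⟨g, hgy'⟩, hgy' ▸ D.cd_le_of_map hC⟩
  rw [SetLike.mem_coe, MonoidHom.mem_ker, hy', hχ] at hy
  cases h : cond c k l
  · rfl
  · rw [h] at hy; exact absurd hy (by decide)

/-- A conjugate of `x` that is central in `S` pulls `C_S(x)` into `S`. -/
theorem pull (D : Gens (S : Subgroup G) n) {x h : G} (hx : h * x * h⁻¹ = D.z) :
    ∃ g : G, g * x * g⁻¹ = D.z ∧ ∀ a ∈ (S : Subgroup G), Commute a x → g * a * g⁻¹ ∈ (S : Subgroup G) := by
  set C := Subgroup.centralizer ({D.z} : Set G)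
  have hSC : (S : Subgroup G) ≤ C := fun a ha => Subgroup.mem_centralizer_singleton_iff.2 (D.z_central ha).eq
  set Q : Subgroup G := ((S : Subgroup G) ⊓ Subgroup.centralizer ({x} : Set G)).map (MulAut.conj h).toMonoidHom
  have hQC : Q ≤ C := by
    rintro _ ⟨a, ha, rfl⟩
    rw [Subgroup.mem_centralizer_singleton_iff, ← hx]
    exact ((show Commute a x from Subgroup.mem_centralizer_singleton_iff.1 ha.2).map (MulAut.conj h).toMonoidHom).eq
  have hQ : IsPGroup 2 ↥Q := IsPGroup.map (S.isPGroup'.to_inf_left) _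
  have hQ' : IsPGroup 2 ↥(Q.subgroupOf C) := hQ.comap_of_injective _ (Subgroup.subtype_injective _)
  obtain ⟨P, hP⟩ := hQ'.exists_le_sylow
  obtain ⟨k, hk⟩ := MulAction.exists_smul_eq ↥C P (S.subtype hSC)
  refine ⟨(k : G) * h, ?_, fun a ha hax => ?_⟩
  · rw [show (k : G) * h * x * ((k : G) * h)⁻¹ = (k : G) * (h * x * h⁻¹) * (k : G)⁻¹ by group, hx,
      Subgroup.mem_centralizer_singleton_iff.1 k.2, mul_inv_cancel_right]
  · have hq : h * a * h⁻¹ ∈ Q := Subgroup.mem_map_of_mem _ ⟨ha, Subgroup.mem_centralizer_singleton_iff.2 hax.eq⟩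
    have h1 : (⟨_, hQC hq⟩ : ↥C) ∈ P := hP (Subgroup.mem_subgroupOf.2 hq)
    have h2 : k * ⟨_, hQC hq⟩ * k⁻¹ ∈ (S.subtype hSC : Subgroup ↥C) := by
      rw [← hk]
      exact ⟨_, h1, rfl⟩
    have h3 : (k : G) * (h * a * h⁻¹) * (k : G)⁻¹ ∈ (S : Subgroup G) := h2
    rwa [show (k : G) * h * a * ((k : G) * h)⁻¹ = (k : G) * (h * a * h⁻¹) * (k : G)⁻¹ by group]

/-- The involutions of the torus. -/
theorem torus_cases (D : Gens (S : Subgroup G) n) {p : ZMod n × ZMod n} (hp : p + p = 0) (h0 : p ≠ 0) :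
    D.E p false false = D.z ∨ IsConj D.e (D.E p false false) := by
  obtain ⟨a, b⟩ := p
  have ha' : a + a = 0 := congrArg Prod.fst hp
  have hb' : b + b = 0 := congrArg Prod.snd hp
  rcases D.two_torsion ha' with rfl | rfl <;> rcases D.two_torsion hb' with rfl | rfl
  · exact absurd rfl h0
  · exact Or.inr (isConj_iff.2 ⟨D.s, by rw [e, s_conj]⟩)
  · exact Or.inr (IsConj.refl _)
  · exact Or.inl rfl

theorem isConj_of_sconj (D : Gens (S : Subgroup G) n) {x y : G} (h : D.SConj x y) : IsConj x y :=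
  isConj_iff.2 (h.imp fun _ hg => hg.2)

theorem E_ne_z (D : Gens (S : Subgroup G) n) {p : ZMod n × ZMod n} {i j : Bool} (h : i = true ∨ j = true) :
    D.E p i j ≠ D.z := by
  intro e
  obtain ⟨-, hi, hj⟩ := D.E_inj (show D.E p i j = D.E _ false false from e)
  subst hi hj
  simp at h

variable [IsSimpleGroup G]

/-- `z` is not conjugate to an involution commuting with a square root of it, unless it fuses into the torus. -/
theorem not_conj_of_root (D : Gens (S : Subgroup G) n) (hze : ¬ IsConj D.z D.e) {x d : G}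
    (hd : d ∈ (S : Subgroup G)) (hdx : Commute d x) (hdz : d * d = D.z) (hne : x ≠ D.z) : ¬ IsConj D.z x := by
  intro hzx
  obtain ⟨h, hh⟩ := isConj_iff.1 hzx.symm
  obtain ⟨g, hg, hS⟩ := D.pull hh
  have hdS := hS d hd hdx
  obtain ⟨p, i, j, hp⟩ := D.surj _ hdS
  change _ = D.E p i j at hp
  have hsq : g * D.z * g⁻¹ = D.E (p + act i j p) false false := by
    rw [← D.E_sq, ← hp, ← hdz]; group
  have hz := inv_conj g (show D.z * D.z = 1 by
    rw [z, E_mul, E_eq_one]; simp [act, D.h_two]) (fun e => D.h_ne (by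
      simpa using (D.E_eq_one.1 e).1))
  rw [hsq] at hz
  rw [E_sq, E_eq_one] at hz
  rcases D.torus_cases (p := p + act i j p) (by simpa [act] using hz.1.1)
      (fun e => hz.2 (by rw [e, E_one])) with h1 | h1
  · apply hne
    have h2 : g * x * g⁻¹ = g * D.z * g⁻¹ := by rw [hg, hsq, h1]
    exact mul_left_cancel (mul_right_cancel h2)
  · rw [← hsq] at h1
    exact hze ((isConj_iff.2 ⟨g, rfl⟩ : IsConj D.z (g * D.z * g⁻¹)).trans h1.symm)

/-- The central involution is conjugate to another involution of `S`. -/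
theorem exists_ne_conj (hG : ¬ IsMulCommutative G) (D : Gens (S : Subgroup G) n) :
    ∃ x ∈ (S : Subgroup G), x ≠ D.z ∧ IsConj D.z x := by
  by_contra hc
  push_neg at hc
  have hz2 : orderOf D.z = 2 := orderOf_two (by rw [z, E_mul, E_eq_one]; simp [act, D.h_two])
    (fun e => D.h_ne (by simpa using (D.E_eq_one.1 e).1))
  obtain ⟨N, hN, hodd, hcomm⟩ := Cfsg.Agent.S0215.result S D.z hz2 (D.E_mem _ _ _) fun g hg =>
    by_contra fun hne => hc _ hg hne (isConj_iff.2 ⟨g, rfl⟩)
  rcases hN.eq_bot_or_eq_top with rfl | rfl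
  · have hcen : D.z ∈ Subgroup.center G := Subgroup.mem_center_iff.2 fun g => by
      have := Subgroup.mem_bot.1 (hcomm g)
      rw [mul_inv_eq_one, mul_inv_eq_iff_eq_mul] at this
      exact this.symm
    rcases (Subgroup.instNormalCenter (G := G)).eq_bot_or_eq_top with h | h
    · rw [h, Subgroup.mem_bot] at hcen
      rw [hcen, orderOf_one] at hz2
      exact absurd hz2 (by norm_num)
    · exact hG ⟨⟨fun a b => (Subgroup.mem_center_iff.1 (h ▸ Subgroup.mem_top b) a)⟩⟩
  · rw [Subgroup.card_top] at hodd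
    exact Nat.not_even_iff_odd.2 hodd (even_iff_two_dvd.2 (hz2 ▸ orderOf_dvd_natCard D.z))

theorem z_conj_e (hG : ¬ IsMulCommutative G) (D : Gens (S : Subgroup G) n) : IsConj D.z D.e := by
  by_contra hze
  set h : ZMod n := ((n / 2 : ℕ) : ZMod n) with hh
  have hneg : -h = h := neg_eq_of_add_eq_zero_left D.h_two
  have nS : ∀ x, x ∈ ({D.wi 0 0, D.wi 1 1, D.s0, D.t0} : Set G) → ¬ IsConj D.z x := by
    intro x hx
    have key : ∀ (d p : ZMod n × ZMod n) (i j k l : Bool), (i = true ∨ j = true) →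
        d + act k l p = p + act i j d → d + act k l d = (h, h) → ¬ IsConj D.z (D.E p i j) := fun d p i j k l hij h1 h2 =>
      D.not_conj_of_root hze (D.E_mem d k l)
        (show D.E d k l * D.E p i j = D.E p i j * D.E d k l by
          rw [E_mul, E_mul, h1, Bool.xor_comm k i, Bool.xor_comm l j])
        (by rw [E_sq, h2]; rfl) (D.E_ne_z hij)
    rcases hx with rfl | rfl | rfl | rfl
    · exact key (h, 0) _ true false false true (Or.inl rfl) (by simp [act, hneg]) (by simp [act])
    · exact key (h, 0) _ true false false true (Or.inl rfl) (by simp [act, hneg]; exact add_comm _ _) (by simp [act])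
    · exact key (((n / 4 : ℕ) : ZMod n), ((n / 4 : ℕ) : ZMod n)) _ false true false false (Or.inr rfl)
        (by simp [act]) (by simp [act, D.h_half, hh])
    · exact key (((n / 4 : ℕ) : ZMod n), -((n / 4 : ℕ) : ZMod n)) _ true true false false (Or.inl rfl)
        (by simp [act]) (by
          simp only [act, Bool.false_eq_true, if_false, Prod.mk_add_mk, ← neg_add, D.h_half]
          rw [← hh, hneg])
  -- the conjugates of z in S
  have cases_z : ∀ x ∈ (S : Subgroup G), IsConj D.z x → x = D.z ∨ ∃ q, x = D.E q true false := by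
    intro x hxS hzx
    obtain ⟨g, hg⟩ := isConj_iff.1 hzx
    have hinv := inv_conj g (show D.z * D.z = 1 by
      rw [z, E_mul, E_eq_one]; simp [act, D.h_two]) (fun e => D.h_ne (by simpa using (D.E_eq_one.1 e).1))
    rw [hg] at hinv
    rcases D.inv_cases hxS hinv.1 hinv.2 with h1 | h1 | h1 | h1 | h1 | h1 | h1
    · exact Or.inl h1
    · exact absurd (hzx.trans (D.isConj_of_sconj h1).symm) hze
    · exact absurd (hzx.trans (D.isConj_of_sconj h1).symm) (nS _ (by simp))
    · obtain ⟨a, ha, e1⟩ := h1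
      obtain ⟨r, k, l, rfl⟩ := D.surj a ha
      obtain ⟨q, i, j, rfl⟩ := D.surj x hxS
      right
      change D.E r k l * D.wi 1 0 * (D.E r k l)⁻¹ = D.E q i j at e1
      rw [mul_inv_eq_iff_eq_mul, wi, E_mul, E_mul] at e1
      obtain ⟨-, hi, hj⟩ := D.E_inj e1
      refine ⟨q, ?_⟩
      show D.E q i j = D.E q true false
      cases i <;> cases j <;> cases k <;> cases l <;> simp_all
    · exact absurd (hzx.trans (D.isConj_of_sconj h1).symm) (nS _ (by simp))
    · exact absurd (hzx.trans (D.isConj_of_sconj h1).symm) (nS _ (by simp))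
    · exact absurd (hzx.trans (D.isConj_of_sconj h1).symm) (nS _ (by simp))
  obtain ⟨x, hxS, hxz, hzx⟩ := D.exists_ne_conj hG
  have hw : IsConj D.z (D.wi 1 0) := by
    have h1 := D.inv_cases hxS
    obtain ⟨g, hg⟩ := isConj_iff.1 hzx
    have hinv := inv_conj g (show D.z * D.z = 1 by
      rw [z, E_mul, E_eq_one]; simp [act, D.h_two]) (fun e => D.h_ne (by simpa using (D.E_eq_one.1 e).1))
    rw [hg] at hinv
    rcases h1 hinv.1 hinv.2 with h2 | h2 | h2 | h2 | h2 | h2 | h2
    · exact absurd h2 hxz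
    · exact absurd (hzx.trans (D.isConj_of_sconj h2).symm) hze
    · exact absurd (hzx.trans (D.isConj_of_sconj h2).symm) (nS _ (by simp))
    · exact hzx.trans (D.isConj_of_sconj h2).symm
    · exact absurd (hzx.trans (D.isConj_of_sconj h2).symm) (nS _ (by simp))
    · exact absurd (hzx.trans (D.isConj_of_sconj h2).symm) (nS _ (by simp))
    · exact absurd (hzx.trans (D.isConj_of_sconj h2).symm) (nS _ (by simp))
  obtain ⟨g₀, hg₀⟩ := isConj_iff.1 hw.symm
  obtain ⟨g, hg, hS⟩ := D.pull hg₀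
  -- the images of the two other members of the coset
  have img : ∀ a b : ZMod n, D.par a = 1 → D.par b = 0 → (a, b) ≠ (1, 0) → Commute (D.wi a b) (D.wi 1 0) →
      ∃ q, g * D.wi a b * g⁻¹ = D.E q true false := by
    intro a b ha hb hne hcm
    have hz1 : IsConj D.z (D.wi a b) := hw.trans (D.isConj_of_sconj (D.wi_conj (by simp [ha]) (by simp [hb])))
    rcases cases_z _ (hS _ (D.E_mem _ _ _) hcm) (hz1.trans (isConj_iff.2 ⟨g, rfl⟩)) with h1 | h1
    · rw [← hg] at h1
      exact absurd (D.E_inj (mul_left_cancel (mul_right_cancel h1))).1 hne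
    · exact h1
  have hcm : ∀ a b : ZMod n, (a - 1) + (a - 1) = 0 → b + b = 0 → Commute (D.wi a b) (D.wi 1 0) := by
    intro a b ha hb
    show D.E _ _ _ * D.E _ _ _ = D.E _ _ _ * D.E _ _ _
    rw [E_mul, E_mul]
    refine congrArg (fun p => D.E p _ _) (Prod.ext ?_ ?_) <;> simp [act]
    · linear_combination ha
    · linear_combination hb
  obtain ⟨q₁, h₁⟩ := img (1 + h) 0 (by simp [hh, D.par_h]) (map_zero _)
    (fun e => D.h_ne (by simpa using congrArg Prod.fst e)) (hcm _ _ (by linear_combination D.h_two) (add_zero 0))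
  obtain ⟨q₂, h₂⟩ := img 1 h (map_one _) (by simp [hh, D.par_h])
    (fun e => D.h_ne (by simpa using congrArg Prod.snd e)) (hcm _ _ (by simp) D.h_two)
  have hp : D.wi (1 + h) 0 * D.wi 1 h = D.z := by
    show D.E _ _ _ * D.E _ _ _ = D.z
    rw [E_mul, z]
    refine congrArg (fun p => D.E p _ _) (Prod.ext ?_ ?_) <;> simp [act, ← hh, hneg]
  have hprod : g * D.z * g⁻¹ = D.E (q₁ + act true false q₂) false false := by
    rw [← hp, show g * (D.wi (1 + h) 0 * D.wi 1 h) * g⁻¹ = g * D.wi (1 + h) 0 * g⁻¹ * (g * D.wi 1 h * g⁻¹) by group,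
      h₁, h₂, E_mul]
    rfl
  rcases cases_z _ (hprod ▸ D.E_mem _ _ _) (isConj_iff.2 ⟨g, rfl⟩) with h3 | ⟨q, h3⟩
  · exact D.E_ne_z (Or.inl rfl) (mul_left_cancel (mul_right_cancel (h3.trans hg.symm))).symm
  · rw [hprod] at h3
    exact absurd (D.E_inj h3).2.1 (by decide)

theorem cd_wi (D : Gens (S : Subgroup G) n) (a b : ZMod n) : D.cd (D.wi a b) ≤ 16 := by
  classical
  have := D.ne_zero
  set A := {x : G | x ∈ (S : Subgroup G) ∧ Commute x (D.wi a b)}
  choose q k l hq using fun x : A => D.surj x.1 x.2.1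
  let f : A → Bool × Bool × Bool × Bool := fun x =>
    (k x, l x, decide ((q x).1.val < n / 2), decide ((q x).2.val < n / 2))
  have hA : D.cd (D.wi a b) = Nat.card A := (Nat.card_coe_set_eq A).symm
  rw [hA]
  refine (Nat.card_le_card_of_injective f ?_).trans (by simp)
  intro x y hxy
  simp only [f, Prod.mk.injEq, decide_eq_decide] at hxy
  obtain ⟨hk, hl, h1, h2⟩ := hxy
  have hcomm : ∀ x : A, q x + act (k x) (l x) (a, b) = (a, b) + act true false (q x) := by
    intro x
    have := x.2.2.eq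
    rw [hq x] at this
    change D.E _ _ _ * D.E _ _ _ = D.E _ _ _ * D.E _ _ _ at this
    rw [E_mul, E_mul] at this
    exact (D.E_inj this).1
  have hx := hcomm x
  have hy := hcomm y
  rw [hk, hl] at hx
  have key : ∀ u v : ZMod n, u + u = v + v → (u.val < n / 2 ↔ v.val < n / 2) → u = v := by
    intro u v huv hiff
    rcases D.two_torsion (x := u - v) (by linear_combination huv) with h | h
    · exact sub_eq_zero.1 h
    · exfalso
      have := D.four_dvd
      have := D.four_le
      have hu := ZMod.val_lt u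
      have hv := ZMod.val_lt v
      have e : u.val = (v.val + n / 2) % n := by
        rw [show u = v + ((n / 2 : ℕ) : ZMod n) by rw [← h]; ring, ZMod.val_add, ZMod.val_natCast,
          Nat.mod_eq_of_lt (show n / 2 < n by omega)]
      rcases Nat.lt_or_ge (v.val + n / 2) n with h' | h'
      · rw [Nat.mod_eq_of_lt h'] at e; omega
      · rw [Nat.mod_eq_sub_mod h', Nat.mod_eq_of_lt (by omega)] at e; omega
  have e1 : (q x).1 + (q x).1 = (q y).1 + (q y).1 := by
    have a1 := congrArg Prod.fst hx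
    have a2 := congrArg Prod.fst hy
    simp [act] at a1 a2
    linear_combination a1 - a2
  have e2 : (q x).2 + (q x).2 = (q y).2 + (q y).2 := by
    have a1 := congrArg Prod.snd hx
    have a2 := congrArg Prod.snd hy
    simp [act] at a1 a2
    linear_combination a1 - a2
  have : q x = q y := Prod.ext (key _ _ e1 h1) (key _ _ e2 h2)
  exact Subtype.ext (by rw [hq x, hq y, this, hk, hl])

theorem cd_s0 (D : Gens (S : Subgroup G) n) : 4 * n ≤ D.cd D.s0 := by
  have := D.ne_zero
  let f : ZMod n × Bool × Bool → G := fun x => D.E (x.1, x.1) x.2.1 x.2.2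
  have hf : Function.Injective f := fun x y h => by
    obtain ⟨h1, h2, h3⟩ := D.E_inj h
    exact Prod.ext (show x.1 = y.1 by simpa using congrArg Prod.fst h1) (Prod.ext h2 h3)
  have hsub : Set.range f ⊆ {a : G | a ∈ (S : Subgroup G) ∧ Commute a D.s0} := by
    rintro _ ⟨⟨a, i, j⟩, rfl⟩
    refine ⟨D.E_mem _ _ _, ?_⟩
    show D.E _ _ _ * D.E _ _ _ = D.E _ _ _ * D.E _ _ _
    rw [E_mul, E_mul, Bool.xor_comm i, Bool.xor_comm j]
    refine congrArg (fun p => D.E p _ _) ?_
    cases i <;> cases j <;> simp [act]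
  refine le_trans ?_ (Set.ncard_le_ncard hsub (Set.toFinite _))
  rw [← Nat.card_coe_set_eq, Nat.card_range_of_injective hf]
  simp [Nat.card_prod]
  omega

/-- Every involution is conjugate to `z`, or `n = 4` and every other one is conjugate to `s0`. -/
theorem class_cases (hG : ¬ IsMulCommutative G) (D : Gens (S : Subgroup G) n) {x : G} (hx : orderOf x = 2) :
    IsConj D.z x ∨ (n = 4 ∧ IsConj D.s0 x) := by
  rw [or_iff_not_imp_left]
  intro hzx
  -- an involution with `j = false` not fused to `z` is an inverting one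
  have wlike : ∀ (q : ZMod n × ZMod n) (k : Bool), IsConj x (D.E q k false) → k = true := by
    intro q k hc
    cases k
    · exfalso
      apply hzx
      have h2 : D.E q false false ≠ 1 := fun e => by
        rw [e] at hc
        rw [isConj_one_left.1 hc, orderOf_one] at hx
        exact absurd hx (by norm_num)
      obtain ⟨g, hg⟩ := isConj_iff.1 hc
      have hinv := inv_conj g (by rw [← pow_two, ← hx, pow_orderOf_eq_one]) (fun e => by
        rw [e, orderOf_one] at hx; exact absurd hx (by norm_num))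
      rw [hg, E_sq, E_eq_one] at hinv
      rcases D.torus_cases (p := q) (by simpa [act] using hinv.1.1) (fun e => h2 (by rw [e, E_one])) with h3 | h3
      · exact h3 ▸ hc.symm
      · exact ((D.z_conj_e hG).trans h3).trans hc.symm
    · rfl
  have sq_one : ∀ {y : G}, IsConj x y → y * y = 1 := by
    intro y hy
    obtain ⟨g, rfl⟩ := isConj_iff.1 hy
    exact (inv_conj g (by rw [← pow_two, ← hx, pow_orderOf_eq_one]) (fun e => by
        rw [e, orderOf_one] at hx; exact absurd hx (by norm_num))).1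
  have tos0 : ∀ (q : ZMod n × ZMod n), IsConj x (D.E q true false) → IsConj x D.s0 := by
    intro q hc
    obtain ⟨r, k, l, hkl, hc', -⟩ := D.step hG true (i := true) (j := false) rfl (sq_one hc)
    change k = false at hkl
    subst hkl
    have hc2 := hc.trans hc'
    cases l
    · exact absurd (wlike r false hc2) (by decide)
    · have h2 := sq_one hc2
      rw [E_sq, E_eq_one] at h2
      obtain ⟨a, b⟩ := r
      have hab : a + b = 0 := by simpa [act] using congrArg Prod.fst h2.1
      refine hc2.trans (D.isConj_of_sconj (D.sconj_E (-a, 0) (Prod.ext ?_ ?_))) <;> simp [act]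
      linear_combination hab
  -- find a representative in `S`
  obtain ⟨g, hg⟩ : ∃ g, g * x * g⁻¹ ∈ (S : Subgroup G) := by
    obtain ⟨P, hP⟩ := (IsPGroup.of_card (n := 1) (show Nat.card ↥(Subgroup.zpowers x) = 2 ^ 1 by
      rw [Nat.card_zpowers, hx, pow_one])).exists_le_sylow
    obtain ⟨g, hg⟩ := MulAction.exists_smul_eq G P S
    exact ⟨g, by rw [← hg]; exact ⟨x, hP (Subgroup.mem_zpowers x), rfl⟩⟩
  obtain ⟨p, i, j, hp⟩ := D.surj _ hg
  have hc : IsConj x (D.E p i j) := isConj_iff.2 ⟨g, hp⟩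
  have hs0 : IsConj x D.s0 := by
    cases j
    · obtain rfl := wlike p i hc
      exact tos0 p hc
    · obtain ⟨r, k, l, hkl, hc', -⟩ := D.step hG false (i := i) (j := true) rfl (sq_one hc)
      change l = false at hkl
      subst hkl
      obtain rfl := wlike r k (hc.trans hc')
      exact tos0 r (hc.trans hc')
  refine ⟨?_, hs0.symm⟩
  obtain ⟨r, k, l, hkl, hc', hcd⟩ := D.step hG false (p := 0) (i := false) (j := true) rfl (sq_one hs0)
  change l = false at hkl
  subst hkl
  obtain rfl := wlike r k (hs0.trans hc')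
  have := (D.cd_s0).trans (hcd.trans (D.cd_wi r.1 r.2))
  have := D.four_le
  omega

/-- The classes of involutions. -/
theorem main (hG : ¬ IsMulCommutative G) (D : Gens (S : Subgroup G) n) :
    (∀ x y : G, orderOf x = 2 → orderOf y = 2 → IsConj x y) ∨
      (Nat.card ↥(S : Subgroup G) = 64 ∧ ∃ x y : G, orderOf x = 2 ∧ orderOf y = 2 ∧ ¬ IsConj x y ∧
        ∀ z : G, orderOf z = 2 → IsConj z x ∨ IsConj z y) := by
  refine or_iff_not_imp_left.2 fun hne => ?_
  obtain ⟨y, hy, hzy⟩ : ∃ y, orderOf y = 2 ∧ ¬ IsConj D.z y := by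
    by_contra! h
    exact hne fun a b ha hb => (h a ha).symm.trans (h b hb)
  obtain ⟨hn, hsy⟩ := (D.class_cases hG hy).resolve_left hzy
  have hz : orderOf D.z = 2 := orderOf_two (by rw [z, E_mul, E_eq_one]; simp [act, D.h_two])
    (fun e => D.h_ne (by simpa using (D.E_eq_one.1 e).1))
  refine ⟨by rw [D.card, hn]; norm_num, D.z, y, hz, hy, hzy, fun w hw => ?_⟩
  rcases D.class_cases hG hw with h | ⟨-, h⟩
  · exact Or.inl h.symm
  · exact Or.inr (h.symm.trans hsy)

end Gens

end Cfsg.Agent.G2TypeFusion
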