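import Cfsg.Agent.EqLemmas

/-!
# Groups `(C_n × C_n) : (C_2 × C_2)` with an inverting and a swapping involution

* `Gens S n` : generators `u, v, w, s` of the subgroup `S` with the relations.
* `el`, `el_mul`, `el_inj`, `exists_el` : normal form.
* `inv_cases` : the involutions up to conjugacy in `S`.
* `Gens.map` : transport along an injective homomorphism.
-/

set_option autoImplicit false

namespace Cfsg.Agent.G2TypeFusion

variable {G : Type*} [Group G]

/-- Powers indexed by `ZMod n`. -/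
def pz {n : ℕ} (x : G) (a : ZMod n) : G := x ^ a.val

/-- The normal form. -/
def el {n : ℕ} (u v w s : G) (p : ZMod n × ZMod n) (i j : Bool) : G :=
  pz u p.1 * pz v p.2 * cond i w 1 * cond j s 1

/-- The action of `w^i s^j` on pairs. -/
def act {n : ℕ} (i j : Bool) (p : ZMod n × ZMod n) : ZMod n × ZMod n :=
  if i then (if j then (-p.2, -p.1) else (-p.1, -p.2)) else (if j then (p.2, p.1) else p)

/-- The generators and relations. -/
structure Gens (S : Subgroup G) (n : ℕ) where
  /-- first torus generator -/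
  u : G
  /-- second torus generator -/
  v : G
  /-- inverting involution -/
  w : G
  /-- swapping involution -/
  s : G
  four_le : 4 ≤ n
  four_dvd : 4 ∣ n
  u_mem : u ∈ S
  w_mem : w ∈ S
  s_mem : s ∈ S
  u_pow : u ^ n = 1
  uv : u * v = v * u
  w_sq : w * w = 1
  s_sq : s * s = 1
  ws : w * s = s * w
  wu : w * u * w = u⁻¹
  su : s * u * s = v
  surj : ∀ x ∈ S, ∃ (p : ZMod n × ZMod n) (i j : Bool), x = el u v w s p i j
  card : Nat.card S = 4 * n ^ 2

variable {n : ℕ}

theorem pz_add [NeZero n] {x : G} (hx : x ^ n = 1) (a b : ZMod n) : pz x (a + b) = pz x a * pz x b := by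
  rw [pz, pz, pz, ← pow_add, ZMod.val_add, ← pow_eq_pow_mod _ hx]

theorem pz_zero (x : G) : pz x (0 : ZMod n) = 1 := by rw [pz, ZMod.val_zero, pow_zero]

theorem pz_neg [NeZero n] {x : G} (hx : x ^ n = 1) (a : ZMod n) : pz x (-a) = (pz x a)⁻¹ := by
  rw [eq_inv_iff_mul_eq_one, ← pz_add hx, neg_add_cancel, pz_zero]

theorem pz_map {H : Type*} [Group H] (f : G →* H) (x : G) (a : ZMod n) : f (pz x a) = pz (f x) a :=
  map_pow f _ _

theorem el_map {H : Type*} [Group H] (f : G →* H) (u v w s : G) (p : ZMod n × ZMod n) (i j : Bool) :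
    f (el u v w s p i j) = el (f u) (f v) (f w) (f s) p i j := by
  cases i <;> cases j <;> simp [el, pz_map]

namespace Gens

variable {S : Subgroup G}

theorem ne_zero (D : Gens S n) : NeZero n := ⟨by have := D.four_le; omega⟩

theorem v_mem (D : Gens S n) : D.v ∈ S := by
  rw [← D.su]; exact S.mul_mem (S.mul_mem D.s_mem D.u_mem) D.s_mem

theorem v_pow (D : Gens S n) : D.v ^ n = 1 := by
  have e : D.v = MulAut.conj D.s D.u := by
    rw [← D.su, MulAut.conj_apply, inv_eq_of_mul_eq_one_right D.s_sq]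
  rw [e, ← map_pow, D.u_pow, map_one]

theorem wv (D : Gens S n) : D.w * D.v * D.w = D.v⁻¹ := by
  rw [← D.su, show D.w * (D.s * D.u * D.s) * D.w = D.w * D.s * D.u * (D.s * D.w) by group, D.ws, ← D.ws,
    show D.w * D.s * D.u * (D.w * D.s) = D.w * D.s * (D.u * D.w) * D.s by group, D.ws,
    show D.s * D.w * (D.u * D.w) * D.s = D.s * (D.w * D.u * D.w) * D.s by group, D.wu]
  have := inv_eq_of_mul_eq_one_right D.s_sq
  rw [show (D.s * D.u * D.s)⁻¹ = D.s⁻¹ * D.u⁻¹ * D.s⁻¹ by group, this]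

theorem sv (D : Gens S n) : D.s * D.v * D.s = D.u := by
  rw [← D.su, show D.s * (D.s * D.u * D.s) * D.s = (D.s * D.s) * D.u * (D.s * D.s) by group, D.s_sq, one_mul,
    mul_one]

/-- The normal form. -/
abbrev E (D : Gens S n) (p : ZMod n × ZMod n) (i j : Bool) : G := el D.u D.v D.w D.s p i j

/-- The torus part. -/
def tt (D : Gens S n) (p : ZMod n × ZMod n) : G := pz D.u p.1 * pz D.v p.2

theorem tt_add (D : Gens S n) (p q : ZMod n × ZMod n) : D.tt (p + q) = D.tt p * D.tt q := by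
  have := D.ne_zero
  have hc : Commute (pz D.v p.2) (pz D.u q.1) := ((show Commute D.u D.v from D.uv).symm.pow_pow _ _)
  simp only [tt, Prod.fst_add, Prod.snd_add, pz_add D.u_pow, pz_add D.v_pow]
  calc pz D.u p.1 * pz D.u q.1 * (pz D.v p.2 * pz D.v q.2)
      = pz D.u p.1 * (pz D.u q.1 * pz D.v p.2) * pz D.v q.2 := by group
    _ = pz D.u p.1 * (pz D.v p.2 * pz D.u q.1) * pz D.v q.2 := by rw [hc.eq]
    _ = _ := by group

theorem w_tt (D : Gens S n) (p : ZMod n × ZMod n) : D.w * D.tt p = D.tt (-p) * D.w := by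
  have := D.ne_zero
  have key : ∀ {x : G}, x ^ n = 1 → D.w * x * D.w = x⁻¹ → ∀ a : ZMod n, D.w * pz x a * D.w = pz x (-a) := by
    intro x hx hw a
    have hwi := inv_eq_of_mul_eq_one_right D.w_sq
    rw [pz_neg hx, pz, ← inv_pow, ← hw]
    conv_rhs => rw [show D.w * x * D.w = MulAut.conj D.w x by rw [MulAut.conj_apply, hwi], ← map_pow,
      MulAut.conj_apply, hwi]
  rw [tt, tt, Prod.fst_neg, Prod.snd_neg, ← key D.u_pow D.wu, ← key D.v_pow D.wv]
  simp only [mul_assoc]
  rw [← mul_assoc D.w D.w, D.w_sq, one_mul, mul_one]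

theorem s_tt (D : Gens S n) (p : ZMod n × ZMod n) : D.s * D.tt p = D.tt (p.2, p.1) * D.s := by
  have := D.ne_zero
  have hsi := inv_eq_of_mul_eq_one_right D.s_sq
  have key : ∀ {x y : G}, D.s * x * D.s = y → ∀ a : ZMod n, D.s * pz x a * D.s = pz y a := by
    intro x y h a
    rw [pz, pz, ← h]
    conv_rhs => rw [show D.s * x * D.s = MulAut.conj D.s x by rw [MulAut.conj_apply, hsi], ← map_pow,
      MulAut.conj_apply, hsi]
  have hc : Commute (pz D.u p.2) (pz D.v p.1) := (show Commute D.u D.v from D.uv).pow_pow _ _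
  rw [tt, tt, hc.eq, ← key D.su p.1, ← key D.sv p.2]
  simp only [mul_assoc]
  rw [← mul_assoc D.s D.s, D.s_sq, one_mul, mul_one]

theorem E_eq (D : Gens S n) (p : ZMod n × ZMod n) (i j : Bool) :
    D.E p i j = D.tt p * (cond i D.w 1 * cond j D.s 1) := by
  simp [E, el, tt, mul_assoc]

theorem cond_tt (D : Gens S n) (i j : Bool) (q : ZMod n × ZMod n) :
    cond i D.w 1 * cond j D.s 1 * D.tt q = D.tt (act i j q) * (cond i D.w 1 * cond j D.s 1) := by
  cases i <;> cases j
  · simp [act]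
  · simp [act, D.s_tt q]
  · simp [act, D.w_tt q]; rfl
  · simp only [cond_true, act, if_true]
    rw [mul_assoc, D.s_tt q, ← mul_assoc, D.w_tt, mul_assoc]
    rfl

theorem cond_mul (D : Gens S n) (i j k l : Bool) :
    cond i D.w 1 * cond j D.s 1 * (cond k D.w 1 * cond l D.s 1) =
      cond (Bool.xor i k) D.w 1 * cond (Bool.xor j l) D.s 1 := by
  have h1 : ∀ x, D.s * (D.w * x) = D.w * (D.s * x) := fun x => by rw [← mul_assoc, ← D.ws, mul_assoc]
  have h2 : ∀ x, D.w * (D.w * x) = x := fun x => by rw [← mul_assoc, D.w_sq, one_mul]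
  have h3 : ∀ x, D.s * (D.s * x) = x := fun x => by rw [← mul_assoc, D.s_sq, one_mul]
  cases i <;> cases j <;> cases k <;> cases l <;>
    simp [mul_assoc, D.w_sq, D.s_sq, D.ws.symm, h1, h2, h3]

theorem E_mul (D : Gens S n) (p q : ZMod n × ZMod n) (i j k l : Bool) :
    D.E p i j * D.E q k l = D.E (p + act i j q) (Bool.xor i k) (Bool.xor j l) := by
  rw [E_eq, E_eq, E_eq, tt_add, mul_assoc, ← mul_assoc (cond i D.w 1 * cond j D.s 1) (D.tt q), cond_tt,
    mul_assoc, cond_mul, ← mul_assoc, ← mul_assoc]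

theorem E_mem (D : Gens S n) (p : ZMod n × ZMod n) (i j : Bool) : D.E p i j ∈ S := by
  have := D.v_mem
  refine S.mul_mem (S.mul_mem (S.mul_mem (S.pow_mem D.u_mem _) (S.pow_mem this _)) ?_) ?_
  · cases i
    · exact S.one_mem
    · exact D.w_mem
  · cases j
    · exact S.one_mem
    · exact D.s_mem

theorem E_inj (D : Gens S n) {p q : ZMod n × ZMod n} {i j k l : Bool} (h : D.E p i j = D.E q k l) :
    p = q ∧ i = k ∧ j = l := by
  have := D.ne_zero
  have hsS : Finite S := Nat.finite_of_card_ne_zero (by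
    rw [D.card]; have := D.four_le; positivity)
  let f : (ZMod n × ZMod n) × Bool × Bool → S := fun x => ⟨D.E x.1 x.2.1 x.2.2, D.E_mem _ _ _⟩
  have hf : Function.Surjective f := fun x => by
    obtain ⟨p, i, j, hx⟩ := D.surj x x.2
    exact ⟨(p, i, j), Subtype.ext hx.symm⟩
  have hb : Function.Bijective f := (Nat.bijective_iff_surjective_and_card f).2 ⟨hf, by
    rw [D.card, Nat.card_prod, Nat.card_prod, Nat.card_prod, Nat.card_zmod]; simp; ring⟩
  have := hb.1 (a₁ := (p, i, j)) (a₂ := (q, k, l)) (Subtype.ext h)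
  simpa using this

theorem E_one (D : Gens S n) : D.E 0 false false = 1 := by simp [E, el, pz_zero]

theorem E_eq_one (D : Gens S n) {p : ZMod n × ZMod n} {i j : Bool} :
    D.E p i j = 1 ↔ p = 0 ∧ i = false ∧ j = false := by
  refine ⟨fun h => D.E_inj (h.trans D.E_one.symm), ?_⟩
  rintro ⟨rfl, rfl, rfl⟩
  exact D.E_one

theorem E_sq (D : Gens S n) (p : ZMod n × ZMod n) (i j : Bool) :
    D.E p i j * D.E p i j = D.E (p + act i j p) false false := by
  rw [E_mul, Bool.xor_self, Bool.xor_self]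

theorem E_conj_T (D : Gens S n) (r p : ZMod n × ZMod n) (i j : Bool) :
    D.E r false false * D.E p i j * (D.E r false false)⁻¹ = D.E (r + p - act i j r) i j := by
  rw [mul_inv_eq_iff_eq_mul, E_mul, E_mul]
  simp [act]

/-- Transport. -/
def map (D : Gens S n) {H : Type*} [Group H] (f : G →* H) (T : Subgroup H) (hT : S.map f = T)
    (hf : Function.Injective f) : Gens T n where
  u := f D.u
  v := f D.v
  w := f D.w
  s := f D.s
  four_le := D.four_le
  four_dvd := D.four_dvd
  u_mem := hT ▸ Subgroup.mem_map_of_mem f D.u_mem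
  w_mem := hT ▸ Subgroup.mem_map_of_mem f D.w_mem
  s_mem := hT ▸ Subgroup.mem_map_of_mem f D.s_mem
  u_pow := by rw [← map_pow, D.u_pow, map_one]
  uv := by rw [← map_mul, D.uv, map_mul]
  w_sq := by rw [← map_mul, D.w_sq, map_one]
  s_sq := by rw [← map_mul, D.s_sq, map_one]
  ws := by rw [← map_mul, D.ws, map_mul]
  wu := by rw [← map_mul, ← map_mul, D.wu, map_inv]
  su := by rw [← map_mul, ← map_mul, D.su]
  surj := by
    intro x hx
    rw [← hT] at hx
    obtain ⟨y, hy, rfl⟩ := hx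
    obtain ⟨p, i, j, rfl⟩ := D.surj y hy
    exact ⟨p, i, j, el_map f _ _ _ _ p i j⟩
  card := by rw [← hT, Subgroup.card_map_of_injective hf, D.card]

theorem E_s (D : Gens S n) : D.E 0 false true = D.s := by simp [E, el, pz_zero]

theorem s_conj (D : Gens S n) (p : ZMod n × ZMod n) (i j : Bool) :
    D.s * D.E p i j * D.s⁻¹ = D.E (p.2, p.1) i j := by
  have : D.E 0 false true * D.E p i j = D.E (p.2, p.1) i j * D.E 0 false true := by
    rw [E_mul, E_mul]
    cases i <;> cases j <;> simp [act]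
  rw [E_s] at this
  rw [this, mul_inv_cancel_right]

/-! ### Half of `n` -/

theorem h_two (D : Gens S n) : ((n / 2 : ℕ) : ZMod n) + ((n / 2 : ℕ) : ZMod n) = 0 := by
  rw [← Nat.cast_add, show n / 2 + n / 2 = n by have := D.four_dvd; omega, ZMod.natCast_self]

theorem h_ne (D : Gens S n) : ((n / 2 : ℕ) : ZMod n) ≠ 0 := by
  rw [Ne, ZMod.natCast_eq_zero_iff]
  intro h
  have := D.four_le
  exact absurd (Nat.le_of_dvd (by omega) h) (by omega)

theorem h_half (D : Gens S n) :
    ((n / 4 : ℕ) : ZMod n) + ((n / 4 : ℕ) : ZMod n) = ((n / 2 : ℕ) : ZMod n) := by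
  rw [← Nat.cast_add, show n / 4 + n / 4 = n / 2 by have := D.four_dvd; omega]

theorem two_torsion (D : Gens S n) {x : ZMod n} (hx : x + x = 0) : x = 0 ∨ x = ((n / 2 : ℕ) : ZMod n) := by
  have := D.ne_zero
  have hv := ZMod.val_lt x
  have h1 : (x + x).val = 0 := by rw [hx, ZMod.val_zero]
  rw [ZMod.val_add] at h1
  rcases Nat.lt_or_ge (x.val + x.val) n with h | h
  · rw [Nat.mod_eq_of_lt h] at h1
    exact Or.inl ((ZMod.val_eq_zero x).1 (by omega))
  · rw [Nat.mod_eq_sub_mod h, Nat.mod_eq_of_lt (by omega)] at h1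
    exact Or.inr ((ZMod.natCast_zmod_val x).symm.trans (congrArg _ (by omega)))

/-- The parity map. -/
def par (D : Gens S n) : ZMod n →+* ZMod 2 :=
  ZMod.castHom ((show (2 : ℕ) ∣ 4 by norm_num).trans D.four_dvd) (ZMod 2)

theorem par_h (D : Gens S n) : D.par ((n / 2 : ℕ) : ZMod n) = 0 := by
  rw [← D.h_half, map_add]; exact CharTwo.add_self_eq_zero _

theorem exists_half (D : Gens S n) {x : ZMod n} (hx : D.par x = 0) : ∃ y, y + y = x := by
  have := D.ne_zero
  refine ⟨((x.val / 2 : ℕ) : ZMod n), ?_⟩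
  rw [← ZMod.natCast_zmod_val x, map_natCast, ZMod.natCast_eq_zero_iff] at hx
  rw [← Nat.cast_add, show x.val / 2 + x.val / 2 = x.val by omega, ZMod.natCast_zmod_val]

/-! ### Named elements -/

/-- The central involution. -/
def z (D : Gens S n) : G := D.E (((n / 2 : ℕ) : ZMod n), ((n / 2 : ℕ) : ZMod n)) false false
/-- The non-central torus involution. -/
def e (D : Gens S n) : G := D.E (((n / 2 : ℕ) : ZMod n), 0) false false
/-- Inverting involutions. -/
def wi (D : Gens S n) (a b : ZMod n) : G := D.E (a, b) true false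
/-- Swapping involution. -/
def s0 (D : Gens S n) : G := D.E 0 false true
/-- The other reflection. -/
def t0 (D : Gens S n) : G := D.E 0 true true

/-- Conjugacy by an element of `S`. -/
def SConj (_ : Gens S n) (x y : G) : Prop := ∃ g ∈ S, g * x * g⁻¹ = y

theorem sconj_E (D : Gens S n) {p q : ZMod n × ZMod n} {i j : Bool} (r : ZMod n × ZMod n)
    (h : r + p - act i j r = q) : D.SConj (D.E p i j) (D.E q i j) :=
  ⟨D.E r false false, D.E_mem _ _ _, by rw [E_conj_T, h]⟩

theorem wi_conj (D : Gens S n) {a b c d : ZMod n} (h1 : D.par a = D.par c) (h2 : D.par b = D.par d) :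
    D.SConj (D.wi a b) (D.wi c d) := by
  obtain ⟨x, hx⟩ := D.exists_half (x := c - a) (by rw [map_sub, h1, sub_self])
  obtain ⟨y, hy⟩ := D.exists_half (x := d - b) (by rw [map_sub, h2, sub_self])
  refine D.sconj_E (x, y) (Prod.ext ?_ ?_) <;> simp [act]
  · linear_combination hx
  · linear_combination hy

/-- The involutions up to conjugacy in `S`. -/
theorem inv_cases (D : Gens S n) {x : G} (hx : x ∈ S) (h2 : x * x = 1) (h1 : x ≠ 1) :
    x = D.z ∨ D.SConj D.e x ∨ D.SConj (D.wi 0 0) x ∨ D.SConj (D.wi 1 0) x ∨ D.SConj (D.wi 1 1) x ∨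
      D.SConj D.s0 x ∨ D.SConj D.t0 x := by
  obtain ⟨p, i, j, rfl⟩ := D.surj x hx
  change D.E p i j * D.E p i j = 1 at h2
  change D.E p i j ≠ 1 at h1
  rw [E_sq, E_eq_one] at h2
  have hp := h2.1
  obtain ⟨a, b⟩ := p
  rcases i with _ | _ <;> rcases j with _ | _ <;> simp [act, Prod.ext_iff] at hp
  · rcases D.two_torsion hp.1 with ha | ha <;> rcases D.two_torsion hp.2 with hb | hb <;> subst ha <;> subst hb
    · exact absurd D.E_one h1
    · refine Or.inr (Or.inl ⟨D.s, D.s_mem, ?_⟩)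
      rw [e, s_conj]
    · exact Or.inr (Or.inl ⟨1, S.one_mem, by simp [e, E]⟩)
    · exact Or.inl rfl
  · refine Or.inr (Or.inr (Or.inr (Or.inr (Or.inr (Or.inl ?_)))))
    refine D.sconj_E (a, 0) (Prod.ext ?_ ?_) <;> simp [act]
    linear_combination -hp.1
  · have key : ∀ z : ZMod 2, z = 0 ∨ z = 1 := by decide
    rcases key (D.par a) with ha | ha <;> rcases key (D.par b) with hb | hb
    · exact Or.inr (Or.inr (Or.inl (D.wi_conj (by simp [ha]) (by simp [hb]))))
    · refine Or.inr (Or.inr (Or.inr (Or.inl ?_)))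
      obtain ⟨g, hg, e'⟩ := D.wi_conj (a := (0 : ZMod n)) (b := 1) (c := a) (d := b) (by simp [ha]) (by simp [hb])
      refine ⟨g * D.s, S.mul_mem hg D.s_mem, ?_⟩
      have e2 : D.s * D.wi 1 0 * D.s⁻¹ = D.wi 0 1 := by rw [wi, wi, s_conj]
      rw [show g * D.s * D.wi 1 0 * (g * D.s)⁻¹ = g * (D.s * D.wi 1 0 * D.s⁻¹) * g⁻¹ by group, e2]
      exact e'
    · exact Or.inr (Or.inr (Or.inr (Or.inl (D.wi_conj (by simp [ha]) (by simp [hb])))))
    · exact Or.inr (Or.inr (Or.inr (Or.inr (Or.inl (D.wi_conj (by simp [ha]) (by simp [hb]))))))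
  · refine Or.inr (Or.inr (Or.inr (Or.inr (Or.inr (Or.inr ?_)))))
    refine D.sconj_E (a, 0) (Prod.ext ?_ ?_) <;> simp [act]
    linear_combination hp.1

theorem z_central (D : Gens S n) {x : G} (hx : x ∈ S) : Commute x D.z := by
  obtain ⟨p, i, j, rfl⟩ := D.surj x hx
  have hh : -((n / 2 : ℕ) : ZMod n) = ((n / 2 : ℕ) : ZMod n) := neg_eq_of_add_eq_zero_left D.h_two
  show D.E p i j * D.z = D.z * D.E p i j
  rw [z, E_mul, E_mul]
  cases i <;> cases j <;> simp [act, hh, add_comm]

end Gens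

end Cfsg.Agent.G2TypeFusion
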