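import Cfsg.Agent.Lib.G2TypeFusion.Gens

/-!
# A group `(C_n × C_n) : (C_2 × C_2)` inside a central product `L ∘ L` extended by an element

* `Dat` : two commuting homomorphisms of `L` and an element `u`, with the relations.
* `Dat.exists_gens` : the group generated by `u` and three products is of the required shape.
-/

set_option autoImplicit false

namespace Cfsg.Agent.G2TypeFusion

/-- The input of the construction. -/
structure Dat (L G : Type*) [Group L] [Group G] (n : ℕ) where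
  /-- first factor -/
  f : L →* G
  /-- second factor -/
  g : L →* G
  /-- the action of `u` -/
  θ : L → L
  /-- the central involution -/
  ζ : L
  /-- the torus generator -/
  α : L
  /-- the inverting element -/
  β : L
  /-- the outer element -/
  u : G
  two_pow : ∃ m, 2 ≤ m ∧ n = 2 ^ m
  comm : ∀ X Y, Commute (f X) (g Y)
  fζ_ne : f ζ ≠ 1
  fgζ : f ζ = g ζ
  fg : ∀ X Y, f X = g Y → X = 1 ∨ X = ζ
  ζζ : ζ * ζ = 1
  ζc : ∀ X, Commute ζ X
  αh : α ^ (n / 2) = ζ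
  ββ : β * β = ζ
  βα : β * α * β⁻¹ = α⁻¹
  uf : ∀ X, u * f X = f (θ X) * u
  ug : ∀ X, u * g X = g (θ X) * u
  θα : θ α = α
  θβ : β * θ β⁻¹ = α⁻¹
  usq : u * u = f α * g α

namespace Dat

variable {L G : Type*} [Group L] [Group G] {n : ℕ} (D : Dat L G n)

include D in
theorem four_dvd : 4 ∣ n ∧ 4 ≤ n := by
  obtain ⟨m, hm, rfl⟩ := D.two_pow
  obtain ⟨k, rfl⟩ := Nat.exists_eq_add_of_le hm
  rw [pow_add]
  exact ⟨dvd_mul_right _ _, Nat.le_mul_of_pos_right _ (by positivity)⟩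

theorem mm (X X' Y Y' : L) : D.f X * D.g Y * (D.f X' * D.g Y') = D.f (X * X') * D.g (Y * Y') := by
  rw [map_mul, map_mul, mul_assoc, ← mul_assoc (D.g Y), ← (D.comm X' Y).eq]
  group

/-- The element of order four. -/
def ι : L := D.α ^ (n / 4)

theorem ιι : D.ι * D.ι = D.ζ := by
  rw [ι, ← pow_add, show n / 4 + n / 4 = n / 2 by have := D.four_dvd; omega, D.αh]

theorem βι : D.β * D.ι * D.β⁻¹ = D.ι⁻¹ := by
  rw [ι, ← MulAut.conj_apply, map_pow, MulAut.conj_apply, D.βα, inv_pow]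

theorem ιβ : D.ι * D.β = D.β * D.ι⁻¹ := by
  rw [← D.βι]
  have h := congrArg (fun x => x⁻¹) D.βι
  simp only [mul_inv_rev, inv_inv] at h
  rw [← mul_assoc] at h
  conv_lhs => rw [← h]
  rw [D.βι]
  group

theorem βιβι : D.β * D.ι * (D.β * D.ι) = D.ζ := by
  rw [mul_assoc, ← mul_assoc D.ι, D.ιβ, inv_mul_cancel_right, D.ββ]

/-- The first torus generator squares into the factors. -/
theorem u_comm : Commute D.u (D.f D.α) ∧ Commute D.u (D.g D.α) := by
  constructor
  · have h := D.uf D.α; rw [D.θα] at h; exact h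
  · have h := D.ug D.α; rw [D.θα] at h; exact h

/-- The involution in the torus of `u`. -/
def e : G := D.f D.ι * D.g D.ι
/-- The inverting involution. -/
def w : G := D.f (D.β * D.ι) * D.g (D.β * D.ι)
/-- The swapping involution. -/
def s : G := D.f D.β * D.g D.ι
/-- The second torus generator. -/
def v : G := D.f D.α⁻¹ * D.u

theorem u_half : D.u ^ (n / 2) = D.e := by
  have h := D.four_dvd
  rw [show n / 2 = 2 * (n / 4) by omega, pow_mul, pow_two, D.usq, (D.comm _ _).mul_pow, ← map_pow, ← map_pow]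
  rfl

theorem u_pow : D.u ^ n = 1 := by
  have h := D.four_dvd
  have h2 := pow_add D.u (n / 2) (n / 2)
  rw [show n / 2 + n / 2 = n by omega] at h2
  rw [h2, u_half, e, mm, D.ιι, ← D.fgζ, ← map_mul, D.ζζ, map_one]

theorem w_sq : D.w * D.w = 1 := by
  rw [w, mm, D.βιβι, ← D.fgζ, ← map_mul, D.ζζ, map_one]

theorem s_sq : D.s * D.s = 1 := by
  rw [s, mm, D.ββ, D.ιι, ← D.fgζ, ← map_mul, D.ζζ, map_one]

theorem ws : D.w * D.s = D.s * D.w := by
  have h1 : D.β * D.ι * D.β = D.ι := by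
    rw [mul_assoc, D.ιβ, ← mul_assoc, D.ββ, ← D.ιι, mul_inv_cancel_right]
  have h2 : D.ι * (D.β * D.ι) = D.β := by rw [← mul_assoc, D.ιβ, inv_mul_cancel_right]
  rw [w, s, mm, mm, h1, h2, mul_assoc D.β D.ι, D.ιι, ← mul_assoc D.β D.β, D.ββ]
  rw [map_mul D.g, map_mul D.f, D.fgζ, ← (D.comm D.ι D.ζ).eq, mul_assoc, ← map_mul, ← map_mul,
    (D.ζc D.β).eq]

theorem conjfβ : D.f D.β * D.u * (D.f D.β)⁻¹ = D.f D.α⁻¹ * D.u := by
  rw [← map_inv, mul_assoc, D.uf, ← mul_assoc, ← map_mul, D.θβ]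

theorem conjgβ : D.g D.β * D.u * (D.g D.β)⁻¹ = D.g D.α⁻¹ * D.u := by
  rw [← map_inv D.g D.β, mul_assoc, D.ug, ← mul_assoc, ← map_mul, D.θβ]

theorem u_commι : Commute D.u (D.f D.ι) ∧ Commute D.u (D.g D.ι) := by
  simp only [ι, map_pow]
  exact ⟨D.u_comm.1.pow_right _, D.u_comm.2.pow_right _⟩

theorem su : D.s * D.u * D.s = D.v := by
  have hs : D.s⁻¹ = D.s := inv_eq_of_mul_eq_one_right D.s_sq
  conv_lhs => arg 2; rw [← hs]
  rw [s, mul_inv_rev, show D.f D.β * D.g D.ι * D.u * ((D.g D.ι)⁻¹ * (D.f D.β)⁻¹) =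
    D.f D.β * (D.g D.ι * D.u * (D.g D.ι)⁻¹) * (D.f D.β)⁻¹ by group, D.u_commι.2.symm.eq, mul_inv_cancel_right,
    D.conjfβ]
  rfl

theorem wu : D.w * D.u * D.w = D.u⁻¹ := by
  have hw : D.w⁻¹ = D.w := inv_eq_of_mul_eq_one_right D.w_sq
  conv_lhs => arg 2; rw [← hw]
  have hw' : D.w = D.f D.β * D.g D.β * D.e := by rw [w, e, mm]
  have he : D.e * D.u * D.e⁻¹ = D.u := by
    rw [e, (D.u_commι.1.mul_right D.u_commι.2).symm.eq, mul_inv_cancel_right]
  rw [hw', mul_inv_rev, show D.f D.β * D.g D.β * D.e * D.u * (D.e⁻¹ * (D.f D.β * D.g D.β)⁻¹) =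
    D.f D.β * (D.g D.β * (D.e * D.u * D.e⁻¹) * (D.g D.β)⁻¹) * (D.f D.β)⁻¹ by group, he, D.conjgβ,
    show D.f D.β * (D.g D.α⁻¹ * D.u) * (D.f D.β)⁻¹ = D.f D.β * D.g D.α⁻¹ * (D.u * (D.f D.β)⁻¹) by group,
    (D.comm _ _).eq, mul_assoc, ← mul_assoc (D.f D.β), D.conjfβ, ← mul_assoc, eq_inv_iff_mul_eq_one,
    mul_assoc, D.usq, map_inv, map_inv]
  group

theorem uv : D.u * D.v = D.v * D.u := by
  rw [v, ← mul_assoc, map_inv, D.u_comm.1.inv_right.eq]

theorem e_ne : D.e ≠ 1 := by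
  intro h
  rw [e, mul_eq_one_iff_eq_inv, ← map_inv] at h
  have h2 := D.ιι
  rcases D.fg _ _ h with h1 | h1
  · rw [h1, one_mul] at h2
    exact D.fζ_ne (by rw [← h2, map_one])
  · rw [h1, D.ζζ] at h2
    exact D.fζ_ne (by rw [← h2, map_one])

theorem u_sq_ne : D.u ^ 2 ≠ 1 := by
  intro h
  apply D.e_ne
  have := D.four_dvd
  rw [← u_half, show n / 2 = 2 * (n / 4) by omega, pow_mul, h, one_pow]

theorem fα_ne : D.f D.α ≠ 1 := fun h => D.fζ_ne (by rw [← D.αh, map_pow, h, one_pow])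

theorem gα_ne : D.g D.α ≠ 1 := fun h => D.fζ_ne (by rw [D.fgζ, ← D.αh, map_pow, h, one_pow])

/-- The normal form. -/
abbrev X (p : ZMod n × ZMod n) (i j : Bool) : G := el D.u D.v D.w D.s p i j

theorem v_pow : D.v ^ n = 1 := by
  rw [← D.su]
  conv_lhs => arg 1; arg 2; rw [← inv_eq_of_mul_eq_one_right D.s_sq]
  rw [conj_pow, D.u_pow, mul_one, mul_inv_cancel]

theorem pz_conj {c x y : G} (hc : c * c = 1) (h : c * x * c = y) (a : ZMod n) : c * pz x a = pz y a * c := by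
  rw [pz, pz, ← h]
  conv_rhs => arg 1; arg 1; arg 2; rw [← inv_eq_of_mul_eq_one_right hc]
  rw [conj_pow]
  group

theorem sv : D.s * D.v * D.s = D.u := by
  rw [← D.su, show D.s * (D.s * D.u * D.s) * D.s = (D.s * D.s) * D.u * (D.s * D.s) by group, D.s_sq, one_mul,
    mul_one]

theorem wv : D.w * D.v * D.w = D.v⁻¹ := by
  rw [← D.su, show D.w * (D.s * D.u * D.s) * D.w = D.w * D.s * D.u * (D.s * D.w) by group, D.ws, ← D.ws,
    show D.w * D.s * D.u * (D.w * D.s) = D.w * D.s * (D.u * D.w) * D.s by group, D.ws,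
    show D.s * D.w * (D.u * D.w) * D.s = D.s * (D.w * D.u * D.w) * D.s by group, D.wu]
  rw [show (D.s * D.u * D.s)⁻¹ = D.s⁻¹ * D.u⁻¹ * D.s⁻¹ by group, inv_eq_of_mul_eq_one_right D.s_sq]

theorem X_left {c : G} (hc : c = D.u ∨ c = D.v ∨ c = D.w ∨ c = D.s) (p : ZMod n × ZMod n) (i j : Bool) :
    ∃ q k l, c * D.X p i j = D.X q k l := by
  haveI : NeZero n := ⟨by have := D.four_dvd; omega⟩
  haveI : Fact (1 < n) := ⟨by have := D.four_dvd; omega⟩
  have hcm : Commute D.u D.v := D.uv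
  have hinv : ∀ {x : G}, x ^ n = 1 → ∀ a : ZMod n, pz x⁻¹ a = pz x (-a) := by
    intro x hx a; rw [pz_neg hx, pz, pz, inv_pow]
  obtain ⟨a, b⟩ := p
  have h1 : ∀ {x : G}, pz x (1 : ZMod n) = x := fun {x} => by rw [pz, ZMod.val_one, pow_one]
  rcases hc with rfl | rfl | rfl | rfl
  · refine ⟨(1 + a, b), i, j, ?_⟩
    simp [X, el, pz_add D.u_pow, h1, mul_assoc]
  · refine ⟨(a, 1 + b), i, j, ?_⟩
    have h2 : Commute D.v (pz D.u a) := hcm.symm.pow_right _
    simp only [X, el, pz_add D.v_pow, h1, ← mul_assoc]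
    rw [h2.eq]
  · refine ⟨(-a, -b), !i, j, ?_⟩
    simp only [X, el, ← mul_assoc]
    rw [pz_conj D.w_sq D.wu a, mul_assoc _ D.w (pz D.v b), pz_conj D.w_sq D.wv b, hinv D.u_pow, hinv D.v_pow,
      ← mul_assoc]
    cases i <;> simp [mul_assoc, D.w_sq]
  · refine ⟨(b, a), i, !j, ?_⟩
    simp only [X, el, ← mul_assoc]
    have h2 : Commute (pz D.v a) (pz D.u b) := hcm.symm.pow_pow _ _
    rw [pz_conj D.s_sq D.su a, mul_assoc _ D.s (pz D.v b), pz_conj D.s_sq D.sv b, ← mul_assoc, h2.eq]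
    have h3 : ∀ x, D.s * (D.s * x) = x := fun x => by rw [← mul_assoc, D.s_sq, one_mul]
    have h4 : ∀ x, D.s * (D.w * x) = D.w * (D.s * x) := fun x => by rw [← mul_assoc, ← D.ws, mul_assoc]
    cases i <;> cases j <;> simp [mul_assoc, D.s_sq, D.ws.symm, h3, h4]

theorem X_one : D.X 0 false false = 1 := by simp [X, el, pz_zero]

theorem kernel [NeZero n] : ∀ p : ZMod n × ZMod n, pz D.u p.1 * pz D.v p.2 = 1 → p = 0 := by
  have h4 := D.four_dvd
  have hcm : Commute D.u D.v := D.uv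
  have hdbl : ∀ p : ZMod n × ZMod n, pz D.u p.1 * pz D.v p.2 = 1 → pz D.u (p + p).1 * pz D.v (p + p).2 = 1 := by
    intro p hp
    have h2 : Commute (pz D.v p.2) (pz D.u p.1) := hcm.symm.pow_pow _ _
    rw [Prod.fst_add, Prod.snd_add, pz_add D.u_pow, pz_add D.v_pow,
      show pz D.u p.1 * pz D.u p.1 * (pz D.v p.2 * pz D.v p.2) =
        pz D.u p.1 * (pz D.u p.1 * pz D.v p.2) * pz D.v p.2 by group, hp, mul_one, hp]
  have hh : ∀ x : G, pz x ((n / 2 : ℕ) : ZMod n) = x ^ (n / 2) := fun x => by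
    rw [pz, ZMod.val_natCast, Nat.mod_eq_of_lt (by omega)]
  have hvh : D.v ^ (n / 2) ≠ 1 := by
    rw [← D.su]
    conv => arg 1; arg 1; arg 2; rw [← inv_eq_of_mul_eq_one_right D.s_sq]
    rw [conj_pow]
    intro h
    exact D.e_ne (by rw [← u_half, ← conj_eq_one_iff.1 h])
  have hinv : ∀ p : ZMod n × ZMod n, pz D.u p.1 * pz D.v p.2 = 1 → p + p = 0 → p = 0 := by
    rintro ⟨a, b⟩ hp h0
    have two : ∀ x : ZMod n, x + x = 0 → x = 0 ∨ x = ((n / 2 : ℕ) : ZMod n) := by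
      intro x hx
      have hv := ZMod.val_lt x
      have h1 : (x + x).val = 0 := by rw [hx, ZMod.val_zero]
      rw [ZMod.val_add] at h1
      rcases Nat.lt_or_ge (x.val + x.val) n with h | h
      · rw [Nat.mod_eq_of_lt h] at h1
        exact Or.inl ((ZMod.val_eq_zero x).1 (by omega))
      · rw [Nat.mod_eq_sub_mod h, Nat.mod_eq_of_lt (by omega)] at h1
        exact Or.inr ((ZMod.natCast_zmod_val x).symm.trans (congrArg _ (by omega)))
    rcases two a (congrArg Prod.fst h0) with rfl | rfl <;> rcases two b (congrArg Prod.snd h0) with rfl | rfl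
    · rfl
    · simp only [pz_zero, one_mul, hh] at hp
      exact absurd hp hvh
    · simp only [pz_zero, mul_one, hh, u_half] at hp
      exact absurd hp D.e_ne
    · simp only [hh] at hp
      exfalso
      have hc : Commute (D.f D.α⁻¹) D.u := by rw [map_inv]; exact D.u_comm.1.symm.inv_left
      rw [v, hc.mul_pow, ← mul_assoc, ← (hc.pow_pow _ _).eq, mul_assoc, ← pow_add,
        show n / 2 + n / 2 = n by omega, D.u_pow, mul_one, ← map_pow, inv_pow, D.αh, map_inv, inv_eq_one] at hp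
      exact D.fζ_ne hp
  obtain ⟨m, -, hm⟩ := D.two_pow
  have key : ∀ k : ℕ, ∀ p : ZMod n × ZMod n, pz D.u p.1 * pz D.v p.2 = 1 → (2 ^ k) • p = 0 → p = 0 := by
    intro k
    induction k with
    | zero => intro p _ h; simpa using h
    | succ k ih =>
      intro p hp h
      exact hinv p hp (ih _ (hdbl p hp) (by rw [← two_nsmul, smul_smul, ← pow_succ]; exact h))
  intro p hp
  refine key m p hp ?_
  rw [← hm]
  exact Prod.ext (by simp) (by simp)

theorem X_inj [NeZero n] {p q : ZMod n × ZMod n} {i j k l : Bool} (h : D.X p i j = D.X q k l) :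
    p = q ∧ i = k ∧ j = l := by
  have hcm : Commute D.u D.v := D.uv
  have hcu : ∀ r : ZMod n × ZMod n, Commute (pz D.u r.1 * pz D.v r.2) D.u := fun r =>
    ((Commute.refl D.u).pow_left _).mul_left (hcm.symm.pow_left _)
  let c : Bool → Bool → G := fun i j => cond i D.w 1 * cond j D.s 1
  have hw := inv_eq_of_mul_eq_one_right D.w_sq
  have hs := inv_eq_of_mul_eq_one_right D.s_sq
  have hcin : ∀ i j, (c i j)⁻¹ = c i j := by
    intro i j; cases i <;> cases j <;> simp [c, hw, hs, D.ws.symm]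
  have hsame : ∀ i j k l, c i j * c k l = c (Bool.xor i k) (Bool.xor j l) := by
    have h1 : ∀ x, D.s * (D.w * x) = D.w * (D.s * x) := fun x => by rw [← mul_assoc, ← D.ws, mul_assoc]
    have h2 : ∀ x, D.w * (D.w * x) = x := fun x => by rw [← mul_assoc, D.w_sq, one_mul]
    have h3 : ∀ x, D.s * (D.s * x) = x := fun x => by rw [← mul_assoc, D.s_sq, one_mul]
    intro i j k l
    cases i <;> cases j <;> cases k <;> cases l <;> simp [c, mul_assoc, D.w_sq, D.s_sq, D.ws.symm, h1, h2, h3]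
  have hfix : ∀ i j, Commute (c i j) D.u → i = false ∧ j = false := by
    intro i j hij
    have hinv : D.u ≠ D.u⁻¹ := fun h0 => D.u_sq_ne (by rw [pow_two]; exact eq_inv_iff_mul_eq_one.1 h0)
    have hvu : D.v ≠ D.u := fun h0 => D.fα_ne (by
      rw [v, mul_eq_right, map_inv, inv_eq_one] at h0; exact h0)
    have e1 : c i j * D.u * c i j = D.u := by
      rw [hij.eq, mul_assoc]
      nth_rewrite 2 [← hcin i j]
      rw [mul_inv_cancel, mul_one]
    cases i <;> cases j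
    · exact ⟨rfl, rfl⟩
    · simp only [c, cond_true, cond_false, one_mul] at e1
      exact absurd (D.su.symm.trans e1) hvu
    · simp only [c, cond_true, cond_false, mul_one] at e1
      exact absurd (e1.symm.trans D.wu) hinv
    · simp only [c, cond_true] at e1
      rw [show D.w * D.s * D.u * (D.w * D.s) = D.w * D.s * D.u * (D.s * D.w) by rw [D.ws],
        show D.w * D.s * D.u * (D.s * D.w) = D.w * (D.s * D.u * D.s) * D.w by group, D.su, D.wv,
        inv_eq_iff_mul_eq_one, v, mul_assoc, D.usq, ← mul_assoc, ← map_mul, inv_mul_cancel, map_one, one_mul] at e1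
      exact absurd e1 D.gα_ne
  have h' : pz D.u p.1 * pz D.v p.2 * c i j = pz D.u q.1 * pz D.v q.2 * c k l := by
    simpa [X, el, c, mul_assoc] using h
  have h2 : c (Bool.xor i k) (Bool.xor j l) = (pz D.u p.1 * pz D.v p.2)⁻¹ * (pz D.u q.1 * pz D.v q.2) := by
    rw [← hsame, ← hcin k l, eq_inv_mul_iff_mul_eq, ← mul_assoc, h', mul_inv_cancel_right]
  obtain ⟨e1, e2⟩ := hfix _ _ (h2 ▸ (hcu p).inv_left.mul_left (hcu q))
  obtain rfl : i = k := by cases i <;> cases k <;> simp_all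
  obtain rfl : j = l := by cases j <;> cases l <;> simp_all
  refine ⟨?_, rfl, rfl⟩
  have h3 := mul_right_cancel h'
  apply sub_eq_zero.1
  apply D.kernel
  have hc2 : Commute (pz D.u q.1) (pz D.v p.2) := hcm.pow_pow _ _
  rw [Prod.fst_sub, Prod.snd_sub, sub_eq_add_neg, sub_eq_add_neg, pz_add D.u_pow, pz_add D.v_pow,
    pz_neg D.u_pow, pz_neg D.v_pow,
    show pz D.u p.1 * (pz D.u q.1)⁻¹ * (pz D.v p.2 * (pz D.v q.2)⁻¹) =
      pz D.u p.1 * ((pz D.u q.1)⁻¹ * pz D.v p.2) * (pz D.v q.2)⁻¹ by group, hc2.inv_left.eq,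
    ← mul_assoc (pz D.u p.1), h3, (show Commute (pz D.u q.1) (pz D.v q.2) from hcm.pow_pow _ _).eq]
  group

/-- The group and its generators. -/
theorem exists_gens [Finite G] : ∃ K : Subgroup G,
    (∀ T : Subgroup G, D.f.range ≤ T → D.g.range ≤ T → D.u ∈ T → K ≤ T) ∧ Nat.card K = 4 * n ^ 2 ∧
      Nonempty (Gens (⊤ : Subgroup K) n) := by
  haveI : NeZero n := ⟨by have := D.four_dvd; omega⟩
  have : Fintype G := Fintype.ofFinite G
  classical
  let φ : (ZMod n × ZMod n) × Bool × Bool → G := fun x => D.X x.1 x.2.1 x.2.2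
  have hφ : Function.Injective φ := fun x y h => by
    obtain ⟨h1, h2, h3⟩ := D.X_inj h
    exact Prod.ext h1 (Prod.ext h2 h3)
  set K := Subgroup.closure ({D.u, D.v, D.w, D.s} : Set G) with hK
  have hgen : ∀ c ∈ ({D.u, D.v, D.w, D.s} : Set G), c ∈ K := fun c hc => Subgroup.subset_closure hc
  have hsub : ∀ x, φ x ∈ K := fun x => by
    refine K.mul_mem (K.mul_mem (K.mul_mem (K.pow_mem (hgen _ (by simp)) _) (K.pow_mem (hgen _ (by simp)) _)) ?_) ?_
    · cases x.2.1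
      · exact K.one_mem
      · exact hgen _ (by simp)
    · cases x.2.2
      · exact K.one_mem
      · exact hgen _ (by simp)
  let St : Submonoid G :=
    { carrier := {c | ∀ x, c * φ x ∈ Set.range φ}
      one_mem' := fun x => ⟨x, (one_mul _).symm⟩
      mul_mem' := fun {a b} ha hb x => by
        obtain ⟨y, hy⟩ := hb x
        rw [mul_assoc, ← hy]
        exact ha y }
  have hmem : ∀ c ∈ K, c ∈ St := by
    intro c hc
    rw [hK, ← Subgroup.mem_toSubmonoid, Subgroup.closure_toSubmonoid_of_finite] at hc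
    refine Submonoid.closure_le.2 ?_ hc
    intro c hc x
    obtain ⟨q, k, l, h⟩ := D.X_left (by simpa using hc) x.1 x.2.1 x.2.2
    exact ⟨(q, k, l), h.symm⟩
  have hsurj : ∀ c ∈ K, ∃ p i j, c = D.X p i j := by
    intro c hc
    obtain ⟨x, hx⟩ := hmem c hc (0, false, false)
    rw [show φ (0, false, false) = 1 from D.X_one, mul_one] at hx
    exact ⟨_, _, _, hx.symm⟩
  have hcard : Nat.card K = 4 * n ^ 2 := by
    have hb : Function.Bijective (fun x => (⟨φ x, hsub x⟩ : K)) :=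
      ⟨fun x y h => hφ (congrArg Subtype.val h), fun c => by
        obtain ⟨p, i, j, h⟩ := hsurj c c.2
        exact ⟨(p, i, j), Subtype.ext h.symm⟩⟩
    rw [← Nat.card_eq_of_bijective _ hb, Nat.card_prod, Nat.card_prod, Nat.card_prod, Nat.card_zmod]
    simp
    ring
  refine ⟨K, fun T hf hg hu => (Subgroup.closure_le _).2 ?_, hcard, ⟨{
    u := ⟨D.u, hgen _ (by simp)⟩, v := ⟨D.v, hgen _ (by simp)⟩, w := ⟨D.w, hgen _ (by simp)⟩,
    s := ⟨D.s, hgen _ (by simp)⟩, four_le := D.four_dvd.2, four_dvd := D.four_dvd.1,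
    u_mem := trivial, w_mem := trivial, s_mem := trivial,
    u_pow := Subtype.ext (by simpa using D.u_pow), uv := Subtype.ext D.uv, w_sq := Subtype.ext D.w_sq,
    s_sq := Subtype.ext D.s_sq, ws := Subtype.ext D.ws, wu := Subtype.ext (by simpa using D.wu),
    su := Subtype.ext D.su,
    surj := fun x _ => ?_, card := by rw [Subgroup.card_top, hcard] }⟩⟩
  · intro c hc
    simp only [Set.mem_insert_iff, Set.mem_singleton_iff] at hc
    rcases hc with rfl | rfl | rfl | rfl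
    · exact hu
    · exact T.mul_mem (hf ⟨_, rfl⟩) hu
    · exact T.mul_mem (hf ⟨_, rfl⟩) (hg ⟨_, rfl⟩)
    · exact T.mul_mem (hf ⟨_, rfl⟩) (hg ⟨_, rfl⟩)
  · obtain ⟨p, i, j, h⟩ := hsurj x x.2
    refine ⟨p, i, j, Subtype.ext ?_⟩
    exact h.trans (el_map K.subtype ⟨D.u, hgen _ (by simp)⟩ ⟨D.v, hgen _ (by simp)⟩ ⟨D.w, hgen _ (by simp)⟩
      ⟨D.s, hgen _ (by simp)⟩ p i j).symm

end Dat

end Cfsg.Agent.G2TypeFusion
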