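import Cfsg.Agent.Lib.G2TypeFusion.Model
import Cfsg.Agent.Lib.G2Thompson.Levi
import Mathlib.Algebra.QuadraticAlgebra.Basic

/-!
# Sylow 2-subgroups of `G₂(q)`, `q` odd

* `exists_split`, `exists_nonsplit` : the data of `SL₂(q)`.
* `exists_gens_G2` : a Sylow 2-subgroup carries the generators.
-/

set_option autoImplicit false

namespace Cfsg.Agent.G2TypeFusion

open Cfsg.Lie Cfsg.Lie.ChevalleyDatum Cfsg.Agent.Chev Cfsg.Agent.ChevBN Cfsg.Agent.ChevInvolOdd
  Cfsg.Agent.Chev.RankOne Cfsg.Agent.G2Invol Cfsg.Agent.G2Thompson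
open scoped MatrixGroups

variable {F : Type*} [Field F]

/-- Diagonal matrices. -/
noncomputable def dsl : Fˣ →* SL(2, F) where
  toFun a := ⟨!![(a : F), 0; 0, ((a⁻¹ : Fˣ) : F)], by simp [Matrix.det_fin_two]⟩
  map_one' := Subtype.ext (by
    show !![((1 : Fˣ) : F), 0; 0, (((1 : Fˣ)⁻¹ : Fˣ) : F)] = 1
    ext i j; fin_cases i <;> fin_cases j <;> simp)
  map_mul' a b := Subtype.ext (by
    show !![((a * b : Fˣ) : F), 0; 0, (((a * b)⁻¹ : Fˣ) : F)] =
      !![(a : F), 0; 0, ((a⁻¹ : Fˣ) : F)] * !![(b : F), 0; 0, ((b⁻¹ : Fˣ) : F)]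
    ext i j; fin_cases i <;> fin_cases j <;> simp [Matrix.mul_apply, Fin.sum_univ_two, mul_comm])

theorem coe_dsl (a : Fˣ) : (dsl a).1 = !![(a : F), 0; 0, ((a⁻¹ : Fˣ) : F)] := rfl

/-- Conjugation by `diag(c, 1)`. -/
noncomputable def τ (c : Fˣ) : SL(2, F) →* SL(2, F) := twistSL c⁻¹

/-- A matrix of `SL₂` by its entries. -/
def mkSL (a b c d : F) (h : a * d - b * c = 1) : SL(2, F) :=
  ⟨!![a, b; c, d], by rw [Matrix.det_fin_two_of, h]⟩

theorem coe_mkSL (a b c d : F) (h : a * d - b * c = 1) : (mkSL a b c d h).1 = !![a, b; c, d] := rfl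

theorem coe_twist (c : Fˣ) (A : SL(2, F)) :
    (τ c A).1 = !![A.1 0 0, (c : F) * A.1 0 1; ((c⁻¹ : Fˣ) : F) * A.1 1 0, A.1 1 1] := by
  show !![((1 : Fˣ) : F), 0; 0, ((c⁻¹ : Fˣ) : F)] * A.1 * !![(((1 : Fˣ)⁻¹ : Fˣ) : F), 0; 0, ((c⁻¹⁻¹ : Fˣ) : F)] = _
  rw [Matrix.eta_fin_two A.1]
  ext i j; fin_cases i <;> fin_cases j <;>
    simp [Matrix.mul_apply, Fin.sum_univ_two, mul_comm]

/-- What is needed in `SL₂`. -/
def SLData (F : Type*) [Field F] (n : ℕ) : Prop :=
  ∃ (c : Fˣ) (δ β α : SL(2, F)), α ^ (n / 2) = -1 ∧ β * β = -1 ∧ β * α * β⁻¹ = α⁻¹ ∧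
    τ c δ * dsl c * δ = α ∧ τ c (δ * α * δ⁻¹) = α ∧ β * τ c (δ * β⁻¹ * δ⁻¹) = α⁻¹

theorem pow_half_eq_neg_one {K : Type*} [Field K] {x : Kˣ} {n : ℕ} (hx : orderOf x = 2 * n) (hn : 0 < n) :
    (x : K) ^ n = -1 := by
  have h : ((x : K) ^ n) * ((x : K) ^ n) = 1 := by
    rw [← pow_add, ← two_mul, ← hx, ← Units.val_pow_eq_pow_val, pow_orderOf_eq_one, Units.val_one]
  rcases mul_self_eq_one_iff.1 h with h1 | h1
  · exfalso
    rw [← Units.val_pow_eq_pow_val, Units.val_eq_one] at h1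
    have := Nat.le_of_dvd hn (orderOf_dvd_of_pow_eq_one h1)
    omega
  · exact h1

theorem exists_split [Finite F] {n k : ℕ} (hn : 4 ∣ n) (hn0 : 0 < n) (hq : Nat.card F - 1 = n * k) : SLData F n := by
  obtain ⟨g, hg⟩ := IsCyclic.exists_ofOrder_eq_natCard (α := Fˣ)
  rw [Nat.card_units, hq] at hg
  have hk : k ≠ 0 := by
    rintro rfl
    rw [mul_zero] at hq
    have := Finite.one_lt_card (α := F)
    omega
  have hε : orderOf (g ^ k) = 2 * (n / 2) := by
    rw [orderOf_pow' _ hk, hg, Nat.gcd_mul_left_left, Nat.mul_div_cancel _ (by omega)]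
    omega
  have hh := pow_half_eq_neg_one hε (by omega)
  set ε := g ^ k
  refine ⟨ε, 1, mkSL 0 1 (-1) 0 (by ring), dsl ε, ?_, ?_, ?_, ?_, ?_, ?_⟩
  · rw [← map_pow]
    apply Subtype.ext
    have hh' : ((ε ^ (n / 2) : Fˣ) : F) = -1 := by rw [Units.val_pow_eq_pow_val]; exact hh
    show !![((ε ^ (n / 2) : Fˣ) : F), 0; 0, (((ε ^ (n / 2))⁻¹ : Fˣ) : F)] = _
    rw [Units.val_inv_eq_inv_val, hh']
    ext i j; fin_cases i <;> fin_cases j <;> simp
  · apply Subtype.ext
    simp only [Matrix.SpecialLinearGroup.coe_mul, Matrix.SpecialLinearGroup.coe_neg, Matrix.SpecialLinearGroup.coe_one, coe_mkSL]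
    ext i j; fin_cases i <;> fin_cases j <;> simp [Matrix.mul_apply, Fin.sum_univ_two]
  · rw [mul_inv_eq_iff_eq_mul, ← map_inv]
    apply Subtype.ext
    simp only [Matrix.SpecialLinearGroup.coe_mul, coe_dsl, coe_mkSL]
    ext i j; fin_cases i <;> fin_cases j <;> simp [Matrix.mul_apply, Fin.sum_univ_two]
  · rw [map_one, one_mul, mul_one]
  · rw [one_mul, inv_one, mul_one]
    apply Subtype.ext
    rw [coe_twist]
    ext i j; fin_cases i <;> fin_cases j <;> simp [coe_dsl]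
  · simp only [one_mul, inv_one, mul_one]
    apply Subtype.ext
    simp only [Matrix.SpecialLinearGroup.coe_mul, coe_twist, Matrix.SpecialLinearGroup.coe_inv, Matrix.adjugate_fin_two,
      coe_dsl, coe_mkSL]
    ext i j; fin_cases i <;> fin_cases j <;> simp [Matrix.mul_apply, Fin.sum_univ_two]

/-- `F(i)`. -/
abbrev Qi (F : Type*) [Field F] := QuadraticAlgebra F (-1) 0

theorem exists_sum_sq [Fintype F] (hF : Fintype.card F % 2 = 1) (x : F) : ∃ a b : F, a * a + b * b = x := by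
  open Polynomial in
  obtain ⟨a, b, h⟩ := FiniteField.exists_root_sum_quadratic (f := (X : F[X]) ^ 2) (g := X ^ 2 - C x)
    (degree_X_pow 2) (degree_X_pow_sub_C (by norm_num) x) hF
  refine ⟨a, b, ?_⟩
  simp only [Polynomial.eval_pow, Polynomial.eval_X, Polynomial.eval_sub, Polynomial.eval_C] at h
  linear_combination h

set_option maxHeartbeats 1000000 in
theorem exists_nonsplit [Fintype F] {n i j : ℕ} (hi : Odd i) (hj : Odd j) (h4 : 4 ∣ n) (hn0 : 0 < n)
    (hq : Fintype.card F + 1 = n * i) (hq' : Fintype.card F - 1 = 2 * j) : SLData F n := by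
  classical
  obtain ⟨n', rfl⟩ := h4
  have hodd : Fintype.card F % 2 = 1 := by have := Fintype.one_lt_card (α := F); omega
  have hns : ¬ IsSquare (-1 : F) := by
    rw [FiniteField.isSquare_neg_one_iff]
    intro h
    apply h
    have h3 : Fintype.card F + 1 = 4 * (n' * i) := by rw [hq, mul_assoc]
    omega
  haveI : Fact (∀ r : F, r ^ 2 ≠ (-1) + 0 * r) := ⟨fun r h => hns ⟨r, by linear_combination -h⟩⟩
  haveI : Finite (Qi F) := Finite.of_equiv _ (QuadraticAlgebra.equivProd (-1 : F) 0).symm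
  let N : (Qi F)ˣ →* Fˣ := Units.map
    { toFun := fun z : (Qi F) => z.re * z.re + z.im * z.im
      map_one' := by simp [QuadraticAlgebra.re_one, QuadraticAlgebra.im_one]
      map_mul' := fun z w => by simp only [QuadraticAlgebra.re_mul, QuadraticAlgebra.im_mul]; ring }
  have hN : ∀ y : Fˣ, ∃ z : (Qi F)ˣ, N z = y := by
    intro y
    obtain ⟨a, b, hab⟩ := exists_sum_sq hodd (y : F)
    have hne : (⟨a, b⟩ : (Qi F)) ≠ 0 := by
      intro h
      have h1 : a = 0 := congrArg QuadraticAlgebra.re h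
      have h2 : b = 0 := congrArg QuadraticAlgebra.im h
      exact y.ne_zero (by rw [← hab, h1, h2]; ring)
    exact ⟨Units.mk0 _ hne, Units.ext hab⟩
  obtain ⟨g, hg⟩ := IsCyclic.exists_generator (α := (Qi F)ˣ)
  have hgN : orderOf (N g) = 2 * j := by
    rw [← hq', ← Fintype.card_units, ← Nat.card_eq_fintype_card]
    refine orderOf_eq_card_of_forall_mem_zpowers fun y => ?_
    obtain ⟨z, rfl⟩ := hN y
    obtain ⟨t, rfl⟩ := Subgroup.mem_zpowers_iff.1 (hg z)
    exact Subgroup.mem_zpowers_iff.2 ⟨t, (map_zpow N g t).symm⟩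
  have hgo : orderOf g = 2 * (4 * n') * (i * j) := by
    rw [orderOf_eq_card_of_forall_mem_zpowers hg, Nat.card_units,
      Nat.card_congr (QuadraticAlgebra.equivProd (-1 : F) 0), Nat.card_prod, Nat.card_eq_fintype_card,
      show 2 * (4 * n') * (i * j) = (4 * n' * i) * (2 * j) by ring, ← hq, ← hq']
    have := hi.pos
    zify [Fintype.card_pos (α := F), Nat.one_le_iff_ne_zero, show 1 ≤ Fintype.card F * Fintype.card F from
      Nat.one_le_iff_ne_zero.2 (mul_ne_zero Fintype.card_ne_zero Fintype.card_ne_zero)]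
    ring
  set γ := g ^ (i * j) with hγ
  have hγo : orderOf γ = 2 * (4 * n') := by
    have h0 : i * j ≠ 0 := (mul_pos hi.pos hj.pos).ne'
    rw [hγ, orderOf_pow' _ h0, hgo, Nat.gcd_mul_left_left, Nat.mul_div_cancel _ (Nat.pos_of_ne_zero h0)]
  have hγn : (γ : (Qi F)) ^ (4 * n') = -1 := pow_half_eq_neg_one hγo hn0
  obtain ⟨a, b, hab, hM⟩ : ∃ a b : F, (γ : (Qi F)) = ⟨a, b⟩ ∧ a * a + b * b = -1 := by
    refine ⟨_, _, rfl, ?_⟩
    have h1 : ((N γ : Fˣ) : F) = -1 := by
      rw [hγ, map_pow, mul_comm, pow_mul, Units.val_pow_eq_pow_val, Units.val_pow_eq_pow_val,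
        pow_half_eq_neg_one hgN hj.pos, hi.neg_one_pow]
    exact h1
  let φ : (Qi F) →* Matrix (Fin 2) (Fin 2) F :=
    { toFun := fun z => !![z.re, -z.im; z.im, z.re]
      map_one' := by ext r s; fin_cases r <;> fin_cases s <;> simp [QuadraticAlgebra.re_one, QuadraticAlgebra.im_one]
      map_mul' := fun z w => by
        ext r s; fin_cases r <;> fin_cases s <;>
          simp [Matrix.mul_apply, Fin.sum_univ_two, QuadraticAlgebra.re_mul, QuadraticAlgebra.im_mul] <;> ring }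
  let δ : SL(2, F) := mkSL (-a) b b a (by linear_combination -hM)
  let β : SL(2, F) := mkSL a b b (-a) (by linear_combination -hM)
  set α := τ (-1 : Fˣ) δ * dsl (-1) * δ with hα
  have hαM : α.1 = φ (-((γ : (Qi F)) * γ)) := by
    simp only [hα, δ, Matrix.SpecialLinearGroup.coe_mul, coe_twist, coe_dsl, coe_mkSL, hab]
    show _ = !![_, -_; _, _]
    ext r s; fin_cases r <;> fin_cases s <;>
      simp [Matrix.mul_apply, Fin.sum_univ_two, QuadraticAlgebra.re_mul, QuadraticAlgebra.im_mul,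
        QuadraticAlgebra.re_neg, QuadraticAlgebra.im_neg] <;> ring
  refine ⟨-1, δ, β, α, ?_, ?_, ?_, rfl, ?_, ?_⟩
  · apply Subtype.ext
    have hev : Even (4 * n' / 2) := ⟨n', by omega⟩
    rw [Matrix.SpecialLinearGroup.coe_pow, hαM, ← map_pow, hev.neg_pow, ← pow_two, ← pow_mul,
      show 2 * (4 * n' / 2) = 4 * n' by omega, hγn]
    show !![_, -_; _, _] = _
    ext r s; fin_cases r <;> fin_cases s <;> simp [QuadraticAlgebra.re_one, QuadraticAlgebra.im_one, QuadraticAlgebra.re_neg, QuadraticAlgebra.im_neg]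
  · apply Subtype.ext
    simp only [β, Matrix.SpecialLinearGroup.coe_mul, Matrix.SpecialLinearGroup.coe_neg, Matrix.SpecialLinearGroup.coe_one,
      coe_mkSL]
    ext r s; fin_cases r <;> fin_cases s <;> simp [Matrix.mul_apply, Fin.sum_univ_two] <;> grind
  all_goals
    apply Subtype.ext
    simp only [hα, δ, β, Matrix.SpecialLinearGroup.coe_mul, coe_twist, Matrix.SpecialLinearGroup.coe_inv,
      Matrix.adjugate_fin_two, coe_dsl, coe_mkSL]
    ext r s; fin_cases r <;> fin_cases s <;> simp [Matrix.mul_apply, Fin.sum_univ_two] <;> grind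

theorem exists_data [Fintype F] (hF : Odd (Fintype.card F)) : ∃ n k : ℕ, (∃ m, 2 ≤ m ∧ n = 2 ^ m) ∧ Odd k ∧
    Fintype.card F ^ 2 - 1 = 2 * n * k ∧ SLData F n := by
  have hq2 := Fintype.one_lt_card (α := F)
  rw [Nat.odd_iff] at hF
  rcases (show Fintype.card F % 4 = 1 ∨ Fintype.card F % 4 = 3 by omega) with h | h
  · obtain ⟨m, k, hk, e⟩ := Nat.exists_eq_two_pow_mul_odd (show Fintype.card F - 1 ≠ 0 by omega)
    have hm : 2 ≤ m := by
      rw [Nat.odd_iff] at hk
      by_contra hm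
      interval_cases m <;> omega
    obtain ⟨d, hd⟩ : ∃ d, Fintype.card F + 1 = 2 * d := ⟨(Fintype.card F + 1) / 2, by omega⟩
    refine ⟨2 ^ m, k * d, ⟨m, hm, rfl⟩, hk.mul (Nat.odd_iff.2 (by omega)), ?_,
      exists_split (k := k) ?_ (by positivity) (by rw [Nat.card_eq_fintype_card]; exact e)⟩
    · rw [show Fintype.card F ^ 2 - 1 = (Fintype.card F + 1) * (Fintype.card F - 1) by
        simpa using Nat.sq_sub_sq (Fintype.card F) 1, hd, e]
      ring
    · exact dvd_trans (by norm_num) (pow_dvd_pow 2 hm)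
  · obtain ⟨m, i, hi, e⟩ := Nat.exists_eq_two_pow_mul_odd (show Fintype.card F + 1 ≠ 0 by omega)
    have hm : 2 ≤ m := by
      rw [Nat.odd_iff] at hi
      by_contra hm
      interval_cases m <;> omega
    obtain ⟨j, hj⟩ : ∃ j, Fintype.card F - 1 = 2 * j := ⟨(Fintype.card F - 1) / 2, by omega⟩
    have hjo : Odd j := Nat.odd_iff.2 (by omega)
    refine ⟨2 ^ m, i * j, ⟨m, hm, rfl⟩, hi.mul hjo, ?_,
      exists_nonsplit hi hjo (dvd_trans (by norm_num) (pow_dvd_pow 2 hm)) (by positivity) e hj⟩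
    rw [show Fintype.card F ^ 2 - 1 = (Fintype.card F + 1) * (Fintype.card F - 1) by
      simpa using Nat.sq_sub_sq (Fintype.card F) 1, hj, e]
    ring

theorem hg_conj_sl {r : ℕ} (hr : r < 12) (h7 : chevG2.pairing 10 r = 1) (h4 : chevG2.pairing 10 (chevG2.neg r) = -1)
    (c : Fˣ) (A : SL(2, F)) :
    hg goodG F 10 (c : F) * sl2Hom goodG (lt12 hr) A = sl2Hom goodG (lt12 hr) (τ c A) * hg goodG F 10 (c : F) := by
  induction A using sl2_induction with
  | hX t =>
    rw [τ, twist_X, sl2Hom_slX, sl2Hom_slX, hg_conj goodG (lt12 (by norm_num)) c.ne_zero, h7, zpow_one, inv_inv]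
  | hY t =>
    rw [τ, twist_Y, sl2Hom_slY, sl2Hom_slY, hg_conj goodG (lt12 (by norm_num)) c.ne_zero, h4, zpow_neg_one,
      Units.val_inv_eq_inv_val]
  | hmul a b ha hb =>
    simp only [map_mul]
    rw [← mul_assoc, ha, mul_assoc, hb, ← mul_assoc]

theorem hg_ten_sq (c : Fˣ) : hg goodG F 10 (c : F) * hg goodG F 10 (c : F) = rA F (dsl c) * rB F (dsl c) := by
  rw [rA, rB, sl2Hom_diag goodG (lt12 (by norm_num)) c (dsl c) rfl rfl rfl,
    sl2Hom_diag goodG (lt12 (by norm_num)) c (dsl c) rfl rfl rfl]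
  have hp : ∀ q < 12, chevG2.pairing 10 q + chevG2.pairing 10 q = chevG2.pairing 7 q + chevG2.pairing 11 q := by
    decide +kernel
  have hc := c.ne_zero
  apply Units.ext
  rw [Units.val_mul, Units.val_mul, coe_hg, coe_hg, coe_hg, hMat_eq_diag goodG (lt12 (by norm_num)) hc,
    hMat_eq_diag goodG (lt12 (by norm_num)) hc, hMat_eq_diag goodG (lt12 (by norm_num)) hc,
    ChevOrder.dg_mul, ChevOrder.dg_mul, dg, dg]
  congr 1
  funext x
  rcases x with i | q
  · rfl
  · simp only [Sum.elim_inr, Units.val_mul, Units.val_zpow_eq_zpow_val, Units.val_mk0]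
    rw [← zpow_add₀ hc, ← zpow_add₀ hc, hp q.val (q.isLt.trans_le nroots_G2.le)]

/-- A Sylow 2-subgroup of `G₂(q)` has the generators. -/
theorem exists_gens_G2 [Fintype F] (hF : Odd (Fintype.card F)) (P : Sylow 2 ↥(chevG2.group F)) :
    ∃ (K : Subgroup (GL chevG2.Idx F)) (n : ℕ), Nonempty (Gens (⊤ : Subgroup K) n) ∧
      Nonempty (↥K ≃* ↥(P : Subgroup ↥(chevG2.group F))) := by
  have hchar : ringChar F ≠ 2 := fun h => by
    have := FiniteField.even_card_iff_char_two.1 h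
    rw [Nat.odd_iff] at hF
    omega
  have h20 : (2 : F) ≠ 0 := Ring.two_ne_zero hchar
  obtain ⟨n, k, hn, hk, hqn, c, δ, β, α, h1, h2, h3, h4, h5, h6⟩ := exists_data hF
  have t10 : chevG2.pairing 10 7 = 1 ∧ chevG2.pairing 10 (chevG2.neg 7) = -1 ∧ chevG2.pairing 10 11 = 1 ∧
      chevG2.pairing 10 (chevG2.neg 11) = -1 := by decide +kernel
  have cA : ∀ X, hg goodG F 10 (c : F) * rA F X = rA F (τ c X) * hg goodG F 10 (c : F) :=
    hg_conj_sl (by norm_num) t10.1 t10.2.1 c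
  have cB : ∀ X, hg goodG F 10 (c : F) * rB F X = rB F (τ c X) * hg goodG F 10 (c : F) :=
    hg_conj_sl (by norm_num) t10.2.2.1 t10.2.2.2 c
  set h := hg goodG F 10 (c : F)
  have mm : ∀ X X' Y Y' : SL(2, F), rA F X * rB F Y * (rA F X' * rB F Y') = rA F (X * X') * rB F (Y * Y') := by
    intro X X' Y Y'
    rw [map_mul, map_mul, mul_assoc, ← mul_assoc (rB F Y), ← (rAB_commute X' Y).eq]
    group
  let D : Dat (SL(2, F)) (GL chevG2.Idx F) n :=
    { f := rA F, g := rB F, θ := fun X => τ c (δ * X * δ⁻¹), ζ := -1, α := α, β := β,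
      u := h * (rA F δ * rB F δ), two_pow := hn, comm := rAB_commute
      fζ_ne := fun e => by
        have e2 := congrFun (congrFun (congrArg Subtype.val (rA_injective h20 (e.trans (map_one _).symm))) 0) 0
        simp at e2
        exact h20 (by linear_combination -e2)
      fgζ := by rw [rA_neg_one, rB_neg_one]
      fg := fun X Y e => (rA_eq_rB h20 e).elim (fun h => Or.inl h.1) (fun h => Or.inr h.1)
      ζζ := by simp
      ζc := fun X => by show (-1) * X = X * (-1); simp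
      αh := h1, ββ := h2, βα := h3, θα := h5, θβ := h6
      uf := fun X => by
        have e : rA F δ * rB F δ * rA F X = rA F (δ * X * δ⁻¹) * (rA F δ * rB F δ) := by
          simp only [map_mul, map_inv]
          rw [mul_assoc, ← (rAB_commute X δ).eq]
          group
        rw [mul_assoc, e, ← mul_assoc, cA, mul_assoc]
      ug := fun X => by
        have e : rA F δ * rB F δ * rB F X = rB F (δ * X * δ⁻¹) * (rA F δ * rB F δ) := by
          simp only [map_mul, map_inv]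
          rw [(rAB_commute δ δ).eq]
          simp only [mul_assoc]
          rw [(rAB_commute δ X).eq]
          group
        rw [mul_assoc, e, ← mul_assoc, cB, mul_assoc]
      usq := by
        rw [← h4]
        calc h * (rA F δ * rB F δ) * (h * (rA F δ * rB F δ))
            = (h * rA F δ) * rB F δ * h * (rA F δ * rB F δ) := by group
          _ = rA F (τ c δ) * (h * rB F δ) * h * (rA F δ * rB F δ) := by rw [cA]; group
          _ = (rA F (τ c δ) * rB F (τ c δ)) * (h * h) * (rA F δ * rB F δ) := by rw [cB]; group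
          _ = _ := by rw [hg_ten_sq, mm, mm] }
  obtain ⟨K, hK, hKc, hgens⟩ := D.exists_gens
  refine ⟨K, n, hgens, ?_⟩
  have hle : K ≤ chevG2.group F := by
    refine (hK (topK F) (le_sup_left.trans le_sup_left) (le_sup_right.trans le_sup_left) ?_).trans
      (topK_le.trans inf_le_left)
    refine (topK F).mul_mem (Subgroup.mem_sup_right ?_) ((topK F).mul_mem ?_ ?_)
    · exact Subgroup.subset_closure ⟨10, c, lt12 (by norm_num), c.ne_zero, coe_hg goodG _ _⟩
    · exact Subgroup.mem_sup_left (Subgroup.mem_sup_left ⟨δ, rfl⟩)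
    · exact Subgroup.mem_sup_left (Subgroup.mem_sup_right ⟨δ, rfl⟩)
  set K' := K.subgroupOf (chevG2.group F)
  have e1 : ↥K' ≃* ↥K := Subgroup.subgroupOfEquivOfLe hle
  have hc' : Nat.card K' = 4 * n ^ 2 := by rw [Nat.card_congr e1.toEquiv, hKc]
  obtain ⟨m, hm, rfl⟩ := hn
  have hpow : (4 : ℕ) * (2 ^ m) ^ 2 = 2 ^ (2 * m + 2) := by rw [← pow_mul, pow_add, mul_comm m 2]; ring
  rw [hpow] at hc'
  obtain ⟨Q, hQ⟩ := (IsPGroup.of_card hc').exists_le_sylow
  obtain ⟨b, hb⟩ := Q.2.exists_card_eq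
  have hge := Subgroup.card_dvd_of_le hQ
  rw [hc', hb, Nat.pow_dvd_pow_iff_le_right (by norm_num)] at hge
  haveI : Nontrivial ↥(Q : Subgroup ↥(chevG2.group F)) := by
    rw [← Finite.one_lt_card_iff_nontrivial, hb]
    exact Nat.one_lt_two_pow (by omega)
  have hz := Q.2.center_nontrivial
  obtain ⟨j, hj⟩ := (Q.2.to_subgroup (Subgroup.center _)).exists_card_eq
  have hj0 : j ≠ 0 := fun h0 => by
    rw [h0, pow_zero] at hj
    have := Finite.one_lt_card_iff_nontrivial.2 hz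
    omega
  obtain ⟨z, hz2⟩ := exists_prime_orderOf_dvd_card' (G := Subgroup.center ↥(Q : Subgroup ↥(chevG2.group F))) 2
    (by rw [hj]; exact dvd_pow_self 2 hj0)
  set t : ↥(chevG2.group F) := ((z : ↥(Q : Subgroup ↥(chevG2.group F))) : ↥(chevG2.group F))
  have ht : orderOf t = 2 := by rw [Subgroup.orderOf_coe, Subgroup.orderOf_coe, hz2]
  have hQC : (Q : Subgroup ↥(chevG2.group F)) ≤ Subgroup.centralizer {t} := fun x hx =>
    Subgroup.mem_centralizer_singleton_iff.2 (congrArg Subtype.val (Subgroup.mem_center_iff.1 z.2 ⟨x, hx⟩))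
  have hdvd := Subgroup.card_dvd_of_le hQC
  rw [(centralizer_package hchar t ht).1, hb, hqn,
    show Fintype.card F ^ 2 * (2 * 2 ^ m * k) ^ 2 = 2 ^ (2 * m + 2) * (Fintype.card F * k) ^ 2 by
      rw [← hpow]; ring] at hdvd
  have hcop : Nat.Coprime (2 ^ b) ((Fintype.card F * k) ^ 2) :=
    (Nat.coprime_two_left.2 (hF.mul hk).pow).pow_left b
  have hle2 := (Nat.pow_dvd_pow_iff_le_right (by norm_num)).1 (hcop.dvd_of_dvd_mul_right hdvd)
  have heq : K' = (Q : Subgroup ↥(chevG2.group F)) := Subgroup.eq_of_le_of_card_ge hQ (by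
    rw [hc', hb]; exact Nat.pow_le_pow_right (by norm_num) hle2)
  exact ⟨(e1.symm.trans (MulEquiv.subgroupCongr heq)).trans (Q.equiv P)⟩

end Cfsg.Agent.G2TypeFusion
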